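import Cfsg.Agent.Lib.SolvStruct.WielandtProduct

/-!
# Wielandt's theorem: the TI argument

In a simple counterexample `G = AB` the centralizer of every element of prime order of `A` lies in
`N(A)`; so `A` is a TI subgroup and `|A| ≤ |B|`, which is absurd by symmetry.
-/

set_option autoImplicit false
set_option linter.style.haveILetI false

namespace CfsgLib.SolvStruct

open Pointwise

variable {G : Type*} [Group G] [Finite G]

omit [Finite G] in
theorem prime_orderOf_of_mem_zpowers {x y : G} {q : ℕ} (hq : q.Prime) (hx : orderOf x = q)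
    (hy : y ∈ Subgroup.zpowers x) (hy1 : y ≠ 1) : Subgroup.zpowers y = Subgroup.zpowers x := by
  haveI := Fact.mk hq
  have hc : Nat.card (Subgroup.zpowers x) = q := by rw [Nat.card_zpowers, hx]
  haveI : Finite (Subgroup.zpowers x) := Nat.finite_of_card_ne_zero (hc ▸ hq.ne_zero)
  refine Subgroup.eq_of_le_of_card_ge (Subgroup.zpowers_le.mpr hy) ?_
  have hd := Subgroup.card_dvd_of_le (Subgroup.zpowers_le.mpr hy)
  rw [hc] at hd ⊢
  rcases (Nat.dvd_prime hq).mp hd with h1 | h1
  · exact absurd (Subgroup.zpowers_eq_bot.mp (Subgroup.card_eq_one.mp h1)) hy1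
  · exact h1.ge

namespace WielandtCx

variable {A B : Subgroup G}

theorem normalizer_self_ne_top (h : WielandtCx A B) : Subgroup.normalizer (A : Set G) ≠ ⊤ :=
  h.normalizer_ne_top h.ne_bot h.ne_top

/-- `A` contains all elements of `N(A)` of order prime to `|B|`. -/
theorem mem_of_coprime (h : WielandtCx A B) {x : G} (hx : x ∈ Subgroup.normalizer (A : Set G))
    (hc : (orderOf x).Coprime (Nat.card B)) : x ∈ A := by
  set X := Subgroup.zpowers x
  have hXA : X ≤ Subgroup.normalizer (A : Set G) := Subgroup.zpowers_le.mpr hx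
  refine le_left_factor h.cop (T := X ⊔ A) (R := X ⊔ A) ?_ le_rfl Subgroup.le_normalizer ?_
    (Subgroup.mem_sup_left (Subgroup.mem_zpowers x))
  · intro g hg
    obtain ⟨a, ha, b, hb, rfl⟩ := h.fac g
    have hbT : b ∈ X ⊔ A := by
      have := mul_mem (inv_mem (Subgroup.mem_sup_right ha : a ∈ X ⊔ A)) hg
      rwa [inv_mul_cancel_left] at this
    exact ⟨a, ⟨ha, Subgroup.mem_sup_right ha⟩, b, ⟨hb, hbT⟩, rfl⟩
  · refine Nat.Coprime.coprime_dvd_left (CfsgLib.Core.card_sup_dvd X A hXA) ?_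
    rw [Nat.card_zpowers]
    exact hc.mul_left h.cop

/-- Elements of `B ∩ N(A)` act without fixed points on the centre of `A`. -/
theorem fixed_eq_one (h : WielandtCx A B) {b u : G} (hb : b ∈ B) (hb1 : b ≠ 1) (hu : u ∈ A)
    (huA : ∀ a ∈ A, Commute a u) (hbu : Commute b u) : u = 1 := by
  by_contra hne
  obtain ⟨p, hp, hd⟩ := Nat.exists_prime_and_dvd (mt orderOf_eq_one_iff.mp hne)
  obtain ⟨m, hm⟩ := hd
  have hcen : IsCentralOrder A p (u ^ m) := by
    refine ⟨pow_mem hu m, fun a ha => (huA a ha).pow_right m, ?_⟩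
    have hm0 : m ≠ 0 := fun e => (orderOf_pos u).ne' (by rw [hm, e, mul_zero])
    rw [orderOf_pow' u hm0, hm, Nat.gcd_mul_left_left, Nat.mul_div_cancel _ (Nat.pos_of_ne_zero hm0)]
  have hbA : b ∈ A := (h.centralizer_eq hp hcen).le
    (Subgroup.mem_centralizer_singleton_iff.mpr (hbu.pow_right m).eq)
  have hd := Subgroup.inf_eq_bot_of_coprime h.cop
  exact hb1 (Subgroup.mem_bot.mp (hd ▸ ⟨hbA, hb⟩))

/-- Two commuting elements of prime order `q` of `B ∩ N(A)` generate a cyclic group. -/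
theorem mem_zpowers_of_commute (h : WielandtCx A B) {q : ℕ} (hq : q.Prime) {x y : G}
    (hx : x ∈ B ⊓ Subgroup.normalizer (A : Set G)) (hy : y ∈ B ⊓ Subgroup.normalizer (A : Set G))
    (hxo : orderOf x = q) (hyo : orderOf y = q) (hxy : Commute x y) :
    y ∈ Subgroup.zpowers x := by
  classical
  by_contra hne
  haveI := Fact.mk hq
  set U : Subgroup G := A ⊓ Subgroup.centralizer (A : Set G) with hU
  haveI : IsMulCommutative U := ⟨⟨fun a b => Subtype.ext
    (Subgroup.mem_centralizer_iff.mp b.2.2 a a.2.1)⟩⟩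
  letI : CommGroup U := IsMulCommutative.instCommGroup
  have hconj : ∀ c ∈ Subgroup.normalizer (A : Set G), ∀ u : U, c * (u : G) * c⁻¹ ∈ U := by
    intro c hc u
    refine Subgroup.mem_inf.mpr ⟨(Subgroup.mem_normalizer_iff.mp hc u).mp u.2.1,
      Subgroup.mem_centralizer_iff.mpr ?_⟩
    intro a ha
    have ha' : c⁻¹ * a * c ∈ A := by
      have := (Subgroup.mem_normalizer_iff.mp (inv_mem hc) a).mp ha
      rwa [inv_inv] at this
    have h1 := Subgroup.mem_centralizer_iff.mp u.2.2 _ ha'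
    calc a * (c * u * c⁻¹) = c * ((c⁻¹ * a * c) * u) * c⁻¹ := by group
      _ = c * (u * (c⁻¹ * a * c)) * c⁻¹ := by rw [h1]
      _ = c * u * c⁻¹ * a := by group
  let N := Subgroup.normalizer (A : Set G)
  let act : N → U →* U := fun c => MonoidHom.mk' (fun u => ⟨(c : G) * u * (c : G)⁻¹, hconj c c.2 u⟩)
    (fun u v => Subtype.ext (by simp [mul_assoc]))
  have hact : ∀ c d : N, ∀ u : U, act c (act d u) = act (c * d) u := fun c d u =>
    Subtype.ext (by simp [act, mul_assoc])
  have hone : ∀ u : U, act 1 u = u := fun u => Subtype.ext (by simp [act])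
  have hnorm : ∀ c : N, (c : G) ∈ B → (c : G) ≠ 1 → c ^ q = 1 → ∀ u : U,
      ∏ i ∈ Finset.range q, act (c ^ i) u = 1 := by
    intro c hcB hc1 hcq u
    set P := ∏ i ∈ Finset.range q, act (c ^ i) u with hP
    have hfix : act c P = P := by
      rw [hP, map_prod]
      simp only [hact, ← pow_succ']
      have h1 := Finset.prod_range_succ (fun i => act (c ^ i) u) q
      have h2 := Finset.prod_range_succ' (fun i => act (c ^ i) u) q
      rw [h1, hcq, pow_zero] at h2
      exact (mul_right_cancel h2).symm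
    have hP1 := h.fixed_eq_one hcB hc1 P.2.1
      (fun a ha => Subgroup.mem_centralizer_iff.mp P.2.2 a ha)
      (mul_inv_eq_iff_eq_mul.mp (congrArg Subtype.val hfix))
    exact Subtype.ext hP1
  set x' : N := ⟨x, hx.2⟩ with hx'
  set y' : N := ⟨y, hy.2⟩ with hy'
  have hxy' : Commute x' y' := Subtype.ext hxy.eq
  have hxq : x' ^ q = 1 := Subtype.ext (by simp [x', ← hxo, pow_orderOf_eq_one])
  have hyq : y' ^ q = 1 := Subtype.ext (by simp [y', ← hyo, pow_orderOf_eq_one])
  obtain ⟨p, hp, hpA⟩ := Nat.exists_prime_and_dvd (mt Subgroup.card_eq_one.mp h.ne_bot)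
  obtain ⟨z, hz⟩ := exists_isCentralOrder h.nilA hp hpA
  set u : U := ⟨z, hz.mem, Subgroup.mem_centralizer_iff.mpr fun a ha => (hz.comm a ha).eq⟩ with hu
  have hz1 : (∏ j ∈ Finset.range q, ∏ i ∈ Finset.range q, act ((x' * y' ^ j) ^ i) u) = 1 := by
    refine Finset.prod_eq_one fun j _ => hnorm _ ?_ ?_ ?_ u
    · show x * ((y' ^ j : N) : G) ∈ B
      exact mul_mem hx.1 (by rw [SubmonoidClass.coe_pow]; exact pow_mem hy.1 j)
    · intro e
      apply hne
      have hxy1 : x ∈ Subgroup.zpowers y := by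
        have e' : x * y ^ j = 1 := by simpa using e
        rw [eq_inv_of_mul_eq_one_left e']
        exact inv_mem (Subgroup.npow_mem_zpowers y j)
      have hx1 : x ≠ 1 := fun e1 => hq.ne_one (by rw [← hxo, e1, orderOf_one])
      rw [prime_orderOf_of_mem_zpowers hq hyo hxy1 hx1]
      exact Subgroup.mem_zpowers y
    · rw [(hxy'.pow_right j).mul_pow, hxq, ← pow_mul, mul_comm j q, pow_mul, hyq, one_pow, mul_one]
  rw [Finset.prod_comm] at hz1
  have hterm : ∀ i ∈ Finset.range q, (∏ j ∈ Finset.range q, act ((x' * y' ^ j) ^ i) u) =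
      if i = 0 then u ^ q else 1 := by
    intro i hi
    split_ifs with h0
    · subst h0
      simp [hone]
    have hcomp : ∀ j : ℕ, act ((x' * y' ^ j) ^ i) u = act (x' ^ i) (act ((y' ^ i) ^ j) u) := by
      intro j
      rw [hact, (hxy'.pow_right j).mul_pow, ← pow_mul, ← pow_mul, mul_comm j i]
    rw [Finset.prod_congr rfl fun j _ => hcomp j, ← map_prod, hnorm (y' ^ i) ?_ ?_ ?_ u, map_one]
    · rw [SubmonoidClass.coe_pow]
      exact pow_mem hy.1 i
    · rw [SubmonoidClass.coe_pow]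
      intro e
      have := orderOf_dvd_of_pow_eq_one e
      rw [hyo] at this
      exact absurd (Nat.le_of_dvd (Nat.pos_of_ne_zero h0) this)
        (not_le.mpr (Finset.mem_range.mp hi))
    · rw [← pow_mul, mul_comm, pow_mul, hyq, one_pow]
  rw [Finset.prod_congr rfl hterm, Finset.prod_ite_eq' (Finset.range q) 0 (fun _ => u ^ q),
    if_pos (Finset.mem_range.mpr hq.pos)] at hz1
  have hzq : z ^ q = 1 := by simpa [u] using congrArg Subtype.val hz1
  have := orderOf_dvd_of_pow_eq_one hzq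
  rw [hz.order] at this
  have hpq := (Nat.prime_dvd_prime_iff_eq hp hq).mp this
  refine h.not_dvd hp hpA ?_
  rw [hpq, ← hxo]
  exact Subgroup.orderOf_dvd_natCard B hx.1

/-- `B ∩ N(A)` has at most one subgroup of each prime order. -/
theorem mem_zpowers_of_orderOf (h : WielandtCx A B) {q : ℕ} (hq : q.Prime) {x y : G}
    (hx : x ∈ B ⊓ Subgroup.normalizer (A : Set G)) (hy : y ∈ B ⊓ Subgroup.normalizer (A : Set G))
    (hxo : orderOf x = q) (hyo : orderOf y = q) : y ∈ Subgroup.zpowers x := by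
  set B₀ := B ⊓ Subgroup.normalizer (A : Set G) with hB₀
  haveI := h.nilB
  have hn : Group.IsNilpotent B₀ := CfsgLib.Core.isNilpotent_of_le (inf_le_left : B₀ ≤ B)
  obtain ⟨c, hc⟩ := exists_isCentralOrder hn hq (hxo ▸ Subgroup.orderOf_dvd_natCard B₀ hx)
  have key : ∀ v ∈ B₀, orderOf v = q → v ∈ Subgroup.zpowers c := fun v hv hvo =>
    h.mem_zpowers_of_commute hq hc.mem hv hc.order hvo (hc.comm v hv).symm
  have hx1 : x ≠ 1 := fun e1 => hq.ne_one (by rw [← hxo, e1, orderOf_one])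
  rw [prime_orderOf_of_mem_zpowers hq hc.order (key x hx hxo) hx1]
  exact key y hy hyo

/-- The centraliser of an element of prime order of `B ∩ N(A)` is factorised and lies in `N(B)`. -/
theorem centralizer_le_normalizer_right (h : WielandtCx A B) {q : ℕ} (hq : q.Prime) {e : G}
    (he : e ∈ B ⊓ Subgroup.normalizer (A : Set G)) (heo : orderOf e = q) :
    Subgroup.centralizer ({e} : Set G) ≤ Subgroup.normalizer (B : Set G) := by
  have he1 : e ≠ 1 := fun e1 => hq.ne_one (by rw [← heo, e1, orderOf_one])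
  set C := Subgroup.centralizer ({e} : Set G) with hC
  have hf : ∀ g ∈ C, ∃ a ∈ A ⊓ C, ∃ b ∈ B ⊓ C, g = a * b := by
    intro g hg
    obtain ⟨a, ha, b, hb, rfl⟩ := h.fac g
    have hge : a * b * e = e * (a * b) := Subgroup.mem_centralizer_singleton_iff.mp hg
    have heq : b * e * b⁻¹ = a⁻¹ * e * a := by
      calc b * e * b⁻¹ = a⁻¹ * (a * b * e) * b⁻¹ := by group
        _ = a⁻¹ * (e * (a * b)) * b⁻¹ := by rw [hge]
        _ = a⁻¹ * e * a := by group
    have haN : a ∈ Subgroup.normalizer (A : Set G) := Subgroup.le_normalizer ha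
    have hmem : b * e * b⁻¹ ∈ B ⊓ Subgroup.normalizer (A : Set G) :=
      Subgroup.mem_inf.mpr
        ⟨mul_mem (mul_mem hb he.1) (inv_mem hb), heq ▸ mul_mem (mul_mem (inv_mem haN) he.2) haN⟩
    have hz := h.mem_zpowers_of_orderOf hq he hmem heo
      (by rw [← MulAut.conj_apply, MulEquiv.orderOf_eq, heo])
    have hbN : b ∈ Subgroup.normalizer (Subgroup.zpowers e : Set G) := by
      refine mem_normalizer_of_conj_le ?_
      show (Subgroup.zpowers e).map (MulAut.conj b).toMonoidHom ≤ _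
      rw [MonoidHom.map_zpowers, Subgroup.zpowers_le]
      exact hz
    have hcomm : Commute b e := by
      haveI := h.nilB
      set S := B ⊓ Subgroup.normalizer (Subgroup.zpowers e : Set G) with hS
      haveI : Group.IsNilpotent S := CfsgLib.Core.isNilpotent_of_le (inf_le_left : S ≤ B)
      haveI : ((Subgroup.zpowers e).subgroupOf S).Normal :=
        Subgroup.normal_subgroupOf_of_le_normalizer inf_le_right
      have heS : e ∈ S := ⟨he.1, Subgroup.le_normalizer (Subgroup.mem_zpowers e)⟩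
      have hne : (Subgroup.zpowers e).subgroupOf S ≠ ⊥ := fun e2 => he1 (by
        have : (⟨e, heS⟩ : S) ∈ (Subgroup.zpowers e).subgroupOf S := Subgroup.mem_zpowers e
        rw [e2, Subgroup.mem_bot] at this
        exact congrArg Subtype.val this)
      have hcen := CfsgLib.Core.inf_center_ne_bot_of_isNilpotent _ hne
      obtain ⟨⟨u, hu⟩, hu1⟩ := (Subgroup.ne_bot_iff_exists_ne_one).mp hcen
      have hu1' : (u : G) ≠ 1 := fun e3 => hu1 (Subtype.ext (Subtype.ext e3))
      have hz := prime_orderOf_of_mem_zpowers hq heo (Subgroup.mem_subgroupOf.mp hu.1) hu1'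
      obtain ⟨i, hi⟩ := Subgroup.mem_zpowers_iff.mp (hz ▸ Subgroup.mem_zpowers e :
        e ∈ Subgroup.zpowers (u : G))
      have hcb : Commute b (u : G) :=
        congrArg Subtype.val (Subgroup.mem_center_iff.mp hu.2 ⟨b, hb, hbN⟩)
      exact hi ▸ hcb.zpow_right i
    have hbC : b ∈ C := Subgroup.mem_centralizer_singleton_iff.mpr hcomm.eq
    refine ⟨a, ⟨ha, ?_⟩, b, ⟨hb, hbC⟩, rfl⟩
    have := mul_mem hg (inv_mem hbC)
    rwa [mul_inv_cancel_right] at this
  haveI hsol := h.ih C (h.centralizer_ne_top he1) hf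
  obtain ⟨r, hr, hrB⟩ := Nat.exists_prime_and_dvd (mt Subgroup.card_eq_one.mp h.symm.ne_bot)
  obtain ⟨w, hw⟩ := exists_isCentralOrder h.nilB hr hrB
  have hwC : w ∈ C := Subgroup.mem_centralizer_singleton_iff.mpr (hw.comm e he.1).symm.eq
  set F := Cfsg.fittingSubgroup C with hF
  have hFB : ∀ s : Nat.Primes, (Cfsg.pCore (s : ℕ) C).map C.subtype ≤ B := by
    intro s
    by_cases hd : (s : ℕ) ∣ Nat.card A
    · haveI := Fact.mk s.2
      by_contra hle
      set R := (Cfsg.pCore (s : ℕ) C).map C.subtype with hR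
      have hRA : R ≤ A := h.pCore_le hf s.2 (h.not_dvd s.2 hd)
      have hR0 : R ≠ ⊥ := fun e2 => hle (e2.le.trans bot_le)
      obtain ⟨t, ht, hts, htA⟩ := h.exists_prime_ne s s.2
      obtain ⟨z, hz⟩ := exists_isCentralOrder h.nilA ht htA
      exact h.noPair ht hr hz hw
        (h.normalizer_ne_top hR0 (fun e2 => h.ne_top (eq_top_iff.mpr (e2.ge.trans hRA))))
        (normalizer_le_of_le_centralizer (ppart_le_centralizer h.nilA
          ((CfsgLib.Core.isPGroup_pCore _ C).map _) hRA) (central_mem_ppart s.2 ht hts hz))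
        (le_normalizer_map_pCore C s hwC)
    · exact h.symm.pCore_le (factor_symm_mem hf) s.2 hd
  have hFle : F ≤ B.subgroupOf C := by
    rw [hF, CfsgLib.Core.fittingSubgroup_eq_iSup_pCore]
    exact iSup_le fun s u hu => hFB s (Subgroup.mem_map_of_mem C.subtype hu)
  have hwF : (⟨w, hwC⟩ : C) ∈ F := by
    refine CfsgLib.Components.centralizer_fitting_le_of_isSolvable ?_
    rw [Subgroup.mem_centralizer_iff]
    intro y hy
    exact Subtype.ext (hw.comm y (hFle hy)).eq
  intro g hg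
  refine h.symm.mem_normalizer_of_conj_mem hr hw ?_
  exact hFle ((inferInstance : F.Normal).conj_mem _ hwF ⟨g, hg⟩)

/-- An element of `A` of prime order commuting with an element of prime order of `B ∩ N(A)`. -/
theorem centralizer_le_of_commute (h : WielandtCx A B) {r q : ℕ} (hr : r.Prime) (hq : q.Prime)
    {v e : G} (hv : v ∈ A) (hvo : orderOf v = r)
    (he : e ∈ B ⊓ Subgroup.normalizer (A : Set G)) (heo : orderOf e = q) (hc : Commute v e) :
    Subgroup.centralizer ({v} : Set G) ≤ Subgroup.normalizer (A : Set G) :=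
  h.symm.centralizer_le_normalizer_right hr
    ⟨hv, h.centralizer_le_normalizer_right hq he heo
      (Subgroup.mem_centralizer_singleton_iff.mpr hc.eq)⟩ hvo

/-- An element of `A` of prime order centralised by an element of `N(A)` outside `A`. -/
theorem centralizer_le_of_not_le (h : WielandtCx A B) {r : ℕ} (hr : r.Prime) {v : G}
    (hv : v ∈ A) (hvo : orderOf v = r)
    (hout : ¬ Subgroup.centralizer ({v} : Set G) ⊓ Subgroup.normalizer (A : Set G) ≤ A) :
    Subgroup.centralizer ({v} : Set G) ≤ Subgroup.normalizer (A : Set G) := by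
  obtain ⟨x₀, hx₀, hx₀A⟩ := SetLike.not_le_iff_exists.mp hout
  have hnc : ¬ (orderOf x₀).Coprime (Nat.card B) := fun hc => hx₀A (h.mem_of_coprime hx₀.2 hc)
  obtain ⟨q, hq, hqx, hqB⟩ := Nat.Prime.not_coprime_iff_dvd.mp hnc
  haveI := Fact.mk hq
  obtain ⟨m, hm⟩ := hqx
  set x := x₀ ^ m with hxdef
  have hm0 : m ≠ 0 := fun e => (orderOf_pos x₀).ne' (by rw [hm, e, mul_zero])
  have hxo : orderOf x = q := by
    rw [hxdef, orderOf_pow' x₀ hm0, hm, Nat.gcd_mul_left_left,
      Nat.mul_div_cancel _ (Nat.pos_of_ne_zero hm0)]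
  have hx : x ∈ Subgroup.centralizer ({v} : Set G) ⊓ Subgroup.normalizer (A : Set G) :=
    pow_mem hx₀ m
  obtain ⟨a, ha, b, hb, hab⟩ := h.fac x
  have hbN : b ∈ Subgroup.normalizer (A : Set G) := by
    have := mul_mem (inv_mem (Subgroup.le_normalizer ha)) hx.2
    rwa [hab, inv_mul_cancel_left] at this
  set X := Subgroup.zpowers x with hX
  have hXn : X ≤ Subgroup.normalizer (A : Set G) := Subgroup.zpowers_le.mpr hx.2
  have hbXA : b ∈ X ⊔ A := by
    have := mul_mem (inv_mem (Subgroup.mem_sup_right ha : a ∈ X ⊔ A))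
      (Subgroup.mem_sup_left (Subgroup.mem_zpowers x) : x ∈ X ⊔ A)
    rwa [hab, inv_mul_cancel_left] at this
  have hqA : ¬ q ∣ Nat.card A := h.symm.not_dvd hq hqB
  have hdAB := Subgroup.inf_eq_bot_of_coprime h.cop
  have hbo : orderOf b = q := by
    refine orderOf_eq_prime ?_ ?_
    · -- `b ^ q` lies in `A`
      haveI : (A.subgroupOf (Subgroup.normalizer (A : Set G))).Normal := inferInstance
      let f := QuotientGroup.mk' (A.subgroupOf (Subgroup.normalizer (A : Set G)))
      have e1 : f ⟨x, hx.2⟩ = f ⟨b, hbN⟩ := by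
        rw [show (⟨x, hx.2⟩ : Subgroup.normalizer (A : Set G)) =
          ⟨a, Subgroup.le_normalizer ha⟩ * ⟨b, hbN⟩ from Subtype.ext hab, map_mul,
          show f ⟨a, Subgroup.le_normalizer ha⟩ = 1 from (QuotientGroup.eq_one_iff _).mpr ha,
          one_mul]
      have e2 : f (⟨b, hbN⟩ ^ q) = 1 := by
        rw [map_pow, ← e1, ← map_pow,
          show (⟨x, hx.2⟩ : Subgroup.normalizer (A : Set G)) ^ q = 1 from
            Subtype.ext (by simp [← hxo, pow_orderOf_eq_one]), map_one]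
      have e3 : b ^ q ∈ A := Subgroup.mem_subgroupOf.mp ((QuotientGroup.eq_one_iff _).mp e2)
      exact Subgroup.mem_bot.mp (hdAB ▸ ⟨e3, pow_mem hb q⟩)
    · intro e
      rw [e, mul_one] at hab
      exact hqA (hxo ▸ Subgroup.orderOf_dvd_natCard A (hab ▸ ha))
  have hcop : (Nat.card X).Coprime (Nat.card A) := by
    rw [hX, Nat.card_zpowers, hxo]
    exact hq.coprime_iff_not_dvd.mpr hqA
  obtain ⟨n, hn, hnX⟩ := CfsgLib.Core.exists_conj_eq_of_coprime (N := A) (H := X)
    (K := Subgroup.zpowers b) hXn (Subgroup.zpowers_le.mpr hbXA)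
    (by rw [hX, Nat.card_zpowers, Nat.card_zpowers, hxo, hbo]) hcop
    (Or.inl (isSolvable_of_isNilpotent h.nilA))
  have hnN : n ∈ Subgroup.normalizer (A : Set G) := Subgroup.le_normalizer hn
  have he : n * x * n⁻¹ ∈ B ⊓ Subgroup.normalizer (A : Set G) := by
    refine Subgroup.mem_inf.mpr ⟨?_, mul_mem (mul_mem hnN hx.2) (inv_mem hnN)⟩
    refine Subgroup.zpowers_le.mpr hb (hnX ▸ ?_)
    rw [mem_conj_smul, show n⁻¹ * (n * x * n⁻¹) * n = x by group]
    exact Subgroup.mem_zpowers x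
  have hc : Commute (n * v * n⁻¹) (n * x * n⁻¹) := by
    have hcx : Commute x v := Subgroup.mem_centralizer_singleton_iff.mp hx.1
    have := hcx.symm.map (MulAut.conj n).toMonoidHom
    simpa [MulAut.conj_apply] using this
  have hle := h.centralizer_le_of_commute hr hq (v := n * v * n⁻¹) (e := n * x * n⁻¹)
    (mul_mem (mul_mem hn hv) (inv_mem hn))
    (by rw [← MulAut.conj_apply, MulEquiv.orderOf_eq, hvo]) he
    (by rw [← MulAut.conj_apply, MulEquiv.orderOf_eq, hxo]) hc
  intro g hg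
  have h1 : n * g * n⁻¹ ∈ Subgroup.normalizer (A : Set G) := by
    refine hle (Subgroup.mem_centralizer_singleton_iff.mpr ?_)
    have hcg : Commute g v := Subgroup.mem_centralizer_singleton_iff.mp hg
    have := hcg.map (MulAut.conj n).toMonoidHom
    simpa [MulAut.conj_apply] using this.eq
  have h2 := mul_mem (mul_mem (inv_mem hnN) h1) hnN
  rwa [show n⁻¹ * (n * g * n⁻¹) * n = g by group] at h2

/-- The case where `C(v) ∩ A` has index prime to the order of `v`: no fusion, so by transfer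
`C(v) = C_A(v)`. -/
theorem centralizer_le_of_sylow (h : WielandtCx A B) {r : ℕ} (hr : r.Prime) {v : G}
    (hv : v ∈ A) (hvo : orderOf v = r)
    (hsyl : ¬ r ∣ A.relIndex (Subgroup.centralizer ({v} : Set G))) :
    Subgroup.centralizer ({v} : Set G) ≤ Subgroup.normalizer (A : Set G) := by
  set K := Subgroup.centralizer ({v} : Set G) with hK
  by_cases hout : K ⊓ Subgroup.normalizer (A : Set G) ≤ A
  swap
  · exact h.centralizer_le_of_not_le hr hv hvo hout
  have hv1 : v ≠ 1 := fun e1 => hr.ne_one (by rw [← hvo, e1, orderOf_one])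
  haveI := Fact.mk hr
  set H := A.subgroupOf K with hH
  have hpp : ppart A r ≤ K := by
    rw [hK, ← Subgroup.centralizer_closure, ← Subgroup.zpowers_eq_closure]
    exact ppart_le_centralizer h.nilA (p := r)
      (IsPGroup.of_card (n := 1) (by rw [Nat.card_zpowers, hvo, pow_one]))
      (Subgroup.zpowers_le.mpr hv)
  have hcentral : ∀ {p : ℕ} {z : G}, IsCentralOrder A p z → z ∈ K := fun hz =>
    Subgroup.mem_centralizer_singleton_iff.mpr (hz.comm v hv).symm.eq
  have hHmul : Nat.card H * H.index = Nat.card K := H.card_mul_index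
  have hHc : Nat.card H = Nat.card (A ⊓ K : Subgroup G) := by
    rw [hH, ← Subgroup.inf_subgroupOf_right]
    exact Nat.card_congr (Subgroup.subgroupOfEquivOfLe inf_le_right).toEquiv
  have hHA : Nat.card H ∣ Nat.card A := hHc ▸ Subgroup.card_dvd_of_le inf_le_left
  -- no prime of `A` divides the index
  have hidx : ∀ s : ℕ, s.Prime → s ∣ Nat.card A → ¬ s ∣ H.index := by
    intro s hs hsA
    rcases eq_or_ne s r with rfl | hsr
    · exact hsyl
    intro hd
    haveI := Fact.mk hs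
    obtain ⟨P⟩ : Nonempty (Sylow s A) := inferInstance
    have hPK : (P : Subgroup A).map A.subtype ≤ A ⊓ K := by
      refine le_inf (Subgroup.map_subtype_le _) fun x hx => hpp ?_
      refine mem_ppart (Subgroup.map_subtype_le _ hx) ?_
      exact not_dvd_of_isPGroup (P.isPGroup'.map A.subtype) hx hr hsr.symm
    have h1 : s ^ (Nat.card A).factorization s ∣ Nat.card H := by
      have h0 := Subgroup.card_dvd_of_le hPK
      rwa [Subgroup.card_map_of_injective A.subtype_injective, P.card_eq_multiplicity, ← hHc] at h0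
    have h2 : s ^ ((Nat.card A).factorization s + 1) ∣ Nat.card A * Nat.card B := by
      rw [← card_of_factor h.cop h.fac, pow_succ]
      refine dvd_trans ?_ (Subgroup.card_subgroup_dvd_card K)
      rw [← hHmul]
      exact mul_dvd_mul h1 hd
    have h3 := (Nat.Coprime.pow_left _ (hs.coprime_iff_not_dvd.mpr (h.not_dvd hs hsA))).dvd_of_dvd_mul_right h2
    rw [hs.pow_dvd_iff_le_factorization Nat.card_pos.ne'] at h3
    omega
  haveI := h.nilA
  haveI hHn : Group.IsNilpotent H := by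
    haveI : Group.IsNilpotent (A ⊓ K : Subgroup G) :=
      CfsgLib.Core.isNilpotent_of_le (inf_le_left : A ⊓ K ≤ A)
    exact Group.nilpotent_of_mulEquiv (G := (A ⊓ K : Subgroup G)) ((Subgroup.subgroupOfEquivOfLe (inf_le_right : A ⊓ K ≤ K)).symm.trans
      (MulEquiv.subgroupCongr (Subgroup.inf_subgroupOf_right A K)))
  have hHall : (Nat.card H).Coprime H.index := by
    refine Nat.coprime_of_dvd fun s hs hsH hsi => hidx s hs (hsH.trans hHA) hsi
  -- fusion for elements of order prime to some prime `t`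
  have hfus : ∀ t : ℕ, t.Prime → t ∣ Nat.card A → ∀ u u' k : G, u ∈ A ⊓ K → u' ∈ A ⊓ K → k ∈ K →
      ¬ t ∣ orderOf u → k * u * k⁻¹ = u' → ∃ a ∈ A ⊓ K, a * u * a⁻¹ = u' := by
    intro t ht htA u u' k hu hu' hk htu hku
    haveI := Fact.mk ht
    haveI := h.nilA
    haveI : Group.IsNilpotent (A ⊓ K : Subgroup G) :=
      CfsgLib.Core.isNilpotent_of_le (inf_le_left : A ⊓ K ≤ A)
    obtain ⟨P⟩ : Nonempty (Sylow t (A ⊓ K : Subgroup G)) := inferInstance
    haveI : (P : Subgroup (A ⊓ K : Subgroup G)).Normal :=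
      P.normal_of_normalizerCondition Group.normalizerCondition_of_isNilpotent
    set S := (P : Subgroup (A ⊓ K : Subgroup G)).map (A ⊓ K).subtype with hS
    have hSle : S ≤ A ⊓ K := Subgroup.map_subtype_le _
    have hSp : IsPGroup t S := P.isPGroup'.map _
    have hcomm : ∀ y ∈ S, ∀ x ∈ A, ¬ t ∣ orderOf x → Commute y x := by
      intro y hy x hx htx
      refine commute_of_mem_nilpotent h.nilA (hSle hy).1 hx ?_
      obtain ⟨i, hi⟩ := IsPGroup.iff_orderOf.mp hSp ⟨y, hy⟩
      rw [Subgroup.orderOf_mk] at hi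
      rw [hi]
      exact Nat.Coprime.pow_left _ (ht.coprime_iff_not_dvd.mpr htx)
    have htu' : ¬ t ∣ orderOf u' := by rwa [← hku, ← MulAut.conj_apply, MulEquiv.orderOf_eq]
    set D := K ⊓ Subgroup.centralizer ({u'} : Set G) with hD
    have hSD : S ≤ D := fun y hy => ⟨(hSle hy).2,
      Subgroup.mem_centralizer_singleton_iff.mpr (hcomm y hy u' hu'.1 htu').eq⟩
    have hkSD : MulAut.conj k • S ≤ D := by
      intro y hy
      rw [mem_conj_smul] at hy
      refine ⟨?_, Subgroup.mem_centralizer_singleton_iff.mpr ?_⟩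
      · have := mul_mem (mul_mem hk (hSle hy).2) (inv_mem hk)
        rwa [show k * (k⁻¹ * y * k) * k⁻¹ = y by group] at this
      · have h1 := ((hcomm _ hy u hu.1 htu).map (MulAut.conj k).toMonoidHom).eq
        simp only [MulEquiv.coe_toMonoidHom, MulAut.conj_apply] at h1
        rwa [hku, show k * (k⁻¹ * y * k) * k⁻¹ = y by group] at h1
    have hScard : Nat.card S = t ^ (Nat.card K).factorization t := by
      rw [hS, Subgroup.card_map_of_injective (A ⊓ K).subtype_injective, P.card_eq_multiplicity,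
        ← hHc, ← hHmul, Nat.factorization_mul Nat.card_pos.ne'
          Subgroup.index_ne_zero_of_finite, Finsupp.add_apply,
        Nat.factorization_eq_zero_of_not_dvd (hidx t ht htA), add_zero]
    have hScardD : Nat.card (S.subgroupOf D) = t ^ (Nat.card D).factorization t := by
      rw [Nat.card_congr (Subgroup.subgroupOfEquivOfLe hSD).toEquiv, hScard]
      congr 1
      refine le_antisymm ?_ ?_
      · rw [← ht.pow_dvd_iff_le_factorization Nat.card_pos.ne', ← hScard]
        exact Subgroup.card_dvd_of_le hSD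
      · exact (Nat.factorization_le_iff_dvd Nat.card_pos.ne' Nat.card_pos.ne').mpr
          (Subgroup.card_dvd_of_le (inf_le_left : D ≤ K)) t
    obtain ⟨d, hd, hdS⟩ := CfsgLib.Core.exists_conj_of_card_eq (Sylow.ofCard _ hScardD) hkSD
      (by rw [card_conj, Sylow.coe_ofCard, Subgroup.map_subgroupOf_eq_of_le hSD])
    rw [Sylow.coe_ofCard, Subgroup.map_subgroupOf_eq_of_le hSD] at hdS
    obtain ⟨z, hz⟩ := exists_isCentralOrder h.nilA ht htA
    have hzS : z ∈ S := by
      have hle : (Subgroup.zpowers z).subgroupOf (A ⊓ K) ≤ P := by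
        have hp1 : IsPGroup t ((Subgroup.zpowers z).subgroupOf (A ⊓ K)) :=
          IsPGroup.of_card (n := 1) (by
            rw [Nat.card_congr (Subgroup.subgroupOfEquivOfLe (Subgroup.zpowers_le.mpr
              (Subgroup.mem_inf.mpr ⟨hz.mem, hcentral hz⟩))).toEquiv, Nat.card_zpowers, hz.order,
              pow_one])
        obtain ⟨P', hP'⟩ := hp1.exists_le_sylow
        letI := P.unique_of_normal inferInstance
        rwa [Subsingleton.elim P' P] at hP'
      exact ⟨⟨z, hz.mem, hcentral hz⟩, hle (Subgroup.mem_zpowers z), rfl⟩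
    set a := d⁻¹ * k with ha
    have haK : a ∈ K := mul_mem (inv_mem hd.1) hk
    have haS : a * z * a⁻¹ ∈ S := by
      have h1 : k * z * k⁻¹ ∈ MulAut.conj k • S := by
        rw [mem_conj_smul, show k⁻¹ * (k * z * k⁻¹) * k = z by group]
        exact hzS
      rw [← hdS, mem_conj_smul] at h1
      rw [ha]
      rwa [show d⁻¹ * k * z * (d⁻¹ * k)⁻¹ = d⁻¹ * (k * z * k⁻¹) * d by group]
    have haA : a ∈ A := hout ⟨haK, h.mem_normalizer_of_conj_mem ht hz (hSle haS).1⟩
    refine ⟨a, ⟨haA, haK⟩, ?_⟩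
    have hdu : d * u' = u' * d := Subgroup.mem_centralizer_singleton_iff.mp hd.2
    calc a * u * a⁻¹ = d⁻¹ * (k * u * k⁻¹) * d := by rw [ha]; group
      _ = u' := by rw [hku, mul_assoc, ← hdu, inv_mul_cancel_left]
  -- combine
  have hfusion : ∀ x ∈ H, ∀ y ∈ H, (∃ g : K, g * x * g⁻¹ = y) → ∃ a ∈ H, a * x * a⁻¹ = y := by
    rintro x hx y hy ⟨k, hk⟩
    have hku : (k : G) * x * (k : G)⁻¹ = y := congrArg Subtype.val hk
    obtain ⟨t₀, ht₀, -, ht₀A⟩ := h.exists_prime_ne r hr
    obtain ⟨t₁, ht₁, ht₁₀, ht₁A⟩ := h.exists_prime_ne t₀ ht₀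
    obtain ⟨i, m, htm, hn⟩ :=
      Nat.exists_eq_pow_mul_and_not_dvd (orderOf_pos (x : G)).ne' t₀ ht₀.ne_one
    have hco : (t₀ ^ i).Coprime m := Nat.Coprime.pow_left _ (ht₀.coprime_iff_not_dvd.mpr htm)
    have hb := Nat.gcd_eq_gcd_ab (t₀ ^ i) m
    rw [Nat.coprime_iff_gcd_eq_one.mp hco, Nat.cast_one] at hb
    set u₁ := (x : G) ^ (((t₀ ^ i : ℕ) : ℤ) * Nat.gcdA (t₀ ^ i) m) with hu₁
    set u₂ := (x : G) ^ ((m : ℤ) * Nat.gcdB (t₀ ^ i) m) with hu₂
    have hsplit : u₁ * u₂ = x := by rw [hu₁, hu₂, ← zpow_add, ← hb, zpow_one]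
    have hm1 : u₁ ^ m = 1 := by
      rw [hu₁, ← zpow_natCast, ← zpow_mul, mul_right_comm, zpow_mul, ← Nat.cast_mul, zpow_natCast,
        ← hn, pow_orderOf_eq_one, one_zpow]
    have hm2 : u₂ ^ (t₀ ^ i) = 1 := by
      rw [hu₂, ← zpow_natCast, ← zpow_mul, mul_right_comm, zpow_mul, ← Nat.cast_mul, zpow_natCast,
        mul_comm m, ← hn, pow_orderOf_eq_one, one_zpow]
    have ho1 : ¬ t₀ ∣ orderOf u₁ := fun hd => htm (hd.trans (orderOf_dvd_of_pow_eq_one hm1))
    have ho2 : ¬ t₁ ∣ orderOf u₂ := fun hd => ht₁₀ ((Nat.prime_dvd_prime_iff_eq ht₁ ht₀).mp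
      (ht₁.dvd_of_dvd_pow (hd.trans (orderOf_dvd_of_pow_eq_one hm2))))
    have hx' : (x : G) ∈ A ⊓ K := ⟨hx, x.2⟩
    have hy' : (y : G) ∈ A ⊓ K := ⟨hy, y.2⟩
    have hmem : ∀ j : ℤ, (k : G) * (x : G) ^ j * (k : G)⁻¹ ∈ A ⊓ K := fun j => by
      rw [← conj_zpow, hku]
      exact zpow_mem hy' j
    obtain ⟨a₁, ha₁, e₁⟩ := hfus t₀ ht₀ ht₀A u₁ _ k (zpow_mem hx' _) (hmem _) k.2 ho1 rfl
    obtain ⟨a₂, ha₂, e₂⟩ := hfus t₁ ht₁ ht₁A u₂ _ k (zpow_mem hx' _) (hmem _) k.2 ho2 rfl
    -- split `a₁` and `a₂` into `t₀`- and `t₀'`-parts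
    have hsplitA : ∀ a ∈ A ⊓ K, ∃ b c : G, b ∈ A ⊓ K ∧ c ∈ A ⊓ K ∧ a = b * c ∧
        (∃ j, orderOf b ∣ t₀ ^ j) ∧ ¬ t₀ ∣ orderOf c := by
      intro a ha
      obtain ⟨j, l, htl, hl⟩ :=
        Nat.exists_eq_pow_mul_and_not_dvd (orderOf_pos a).ne' t₀ ht₀.ne_one
      have hco : (t₀ ^ j).Coprime l := Nat.Coprime.pow_left _ (ht₀.coprime_iff_not_dvd.mpr htl)
      have hb := Nat.gcd_eq_gcd_ab (t₀ ^ j) l
      rw [Nat.coprime_iff_gcd_eq_one.mp hco, Nat.cast_one] at hb
      refine ⟨a ^ ((l : ℤ) * Nat.gcdB (t₀ ^ j) l), a ^ (((t₀ ^ j : ℕ) : ℤ) * Nat.gcdA (t₀ ^ j) l),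
        zpow_mem ha _, zpow_mem ha _, ?_, ⟨j, ?_⟩, ?_⟩
      · rw [← zpow_add, add_comm, ← hb, zpow_one]
      · refine orderOf_dvd_of_pow_eq_one ?_
        rw [← zpow_natCast, ← zpow_mul, mul_right_comm, zpow_mul, ← Nat.cast_mul, zpow_natCast,
          mul_comm l, ← hl, pow_orderOf_eq_one, one_zpow]
      · refine fun hd => htl (hd.trans (orderOf_dvd_of_pow_eq_one ?_))
        rw [← zpow_natCast, ← zpow_mul, mul_right_comm, zpow_mul, ← Nat.cast_mul, zpow_natCast,
          ← hl, pow_orderOf_eq_one, one_zpow]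
    obtain ⟨b₁, c₁, hb₁, hc₁, rfl, ⟨j₁, hj₁⟩, hc₁o⟩ := hsplitA a₁ ha₁
    obtain ⟨b₂, c₂, hb₂, hc₂, rfl, ⟨j₂, hj₂⟩, hc₂o⟩ := hsplitA a₂ ha₂
    have hcop : ∀ {b u : G} (j : ℕ), orderOf b ∣ t₀ ^ j → ¬ t₀ ∣ orderOf u → b ∈ A → u ∈ A →
        b * u * b⁻¹ = u := by
      intro b u j hj hu hbA huA
      have hc : Commute b u := commute_of_mem_nilpotent h.nilA hbA huA
        ((Nat.Coprime.pow_left _ (ht₀.coprime_iff_not_dvd.mpr hu)).coprime_dvd_left hj)
      rw [hc.eq, mul_inv_cancel_right]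
    set U₁ := (k : G) * u₁ * (k : G)⁻¹ with hU₁
    set U₂ := (k : G) * u₂ * (k : G)⁻¹ with hU₂
    have hU₁o : ¬ t₀ ∣ orderOf U₁ := by rwa [hU₁, ← MulAut.conj_apply, MulEquiv.orderOf_eq]
    have hU₁A : U₁ ∈ A := (hmem _).1
    have hU₂A : U₂ ∈ A := (hmem _).1
    have f₁ : c₁ * u₁ * c₁⁻¹ = U₁ := by
      have h1 := hcop j₁ hj₁ hU₁o hb₁.1 hU₁A
      have h2 : c₁ * u₁ * c₁⁻¹ = b₁⁻¹ * (b₁ * c₁ * u₁ * (b₁ * c₁)⁻¹) * b₁ := by group
      rw [h2, e₁]
      calc b₁⁻¹ * U₁ * b₁ = b₁⁻¹ * (b₁ * U₁ * b₁⁻¹) * b₁ := by rw [h1]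
        _ = U₁ := by group
    have f₂ : b₂ * u₂ * b₂⁻¹ = U₂ := by
      have ho : orderOf u₂ ∣ t₀ ^ i := orderOf_dvd_of_pow_eq_one hm2
      have h1 := hcop i ho hc₂o (zpow_mem hx _) hc₂.1
      have h2 : c₂ * u₂ * c₂⁻¹ = u₂ := by
        calc c₂ * u₂ * c₂⁻¹ = (u₂ * c₂ * u₂⁻¹) * u₂ * c₂⁻¹ := by rw [h1]
          _ = u₂ := by group
      calc b₂ * u₂ * b₂⁻¹ = b₂ * (c₂ * u₂ * c₂⁻¹) * b₂⁻¹ := by rw [h2]
        _ = b₂ * c₂ * u₂ * (b₂ * c₂)⁻¹ := by group
        _ = U₂ := e₂
    refine ⟨⟨b₂ * c₁, mul_mem hb₂.2 hc₁.2⟩, mul_mem hb₂.1 hc₁.1, Subtype.ext ?_⟩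
    show b₂ * c₁ * (x : G) * (b₂ * c₁)⁻¹ = y
    have h3 : c₁ * u₂ * c₁⁻¹ = u₂ := by
      have ho : orderOf u₂ ∣ t₀ ^ i := orderOf_dvd_of_pow_eq_one hm2
      have h1 := hcop i ho hc₁o (zpow_mem hx _) hc₁.1
      calc c₁ * u₂ * c₁⁻¹ = (u₂ * c₁ * u₂⁻¹) * u₂ * c₁⁻¹ := by rw [h1]
        _ = u₂ := by group
    calc b₂ * c₁ * (x : G) * (b₂ * c₁)⁻¹
        = b₂ * ((c₁ * u₁ * c₁⁻¹) * (c₁ * u₂ * c₁⁻¹)) * b₂⁻¹ := by rw [← hsplit]; group
      _ = (b₂ * U₁ * b₂⁻¹) * (b₂ * u₂ * b₂⁻¹) := by rw [f₁, h3]; group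
      _ = U₁ * U₂ := by rw [f₂, hcop j₂ hj₂ hU₁o hb₂.1 hU₁A]
      _ = y := by rw [hU₁, hU₂, ← hku, ← hsplit]; group
  obtain ⟨N, hN, hNc⟩ := (Cfsg.Agent.S0079.result H hHn hHall).mpr hfusion
  haveI := hN
  have hNbot : N = ⊥ := by
    by_contra hN0
    have hNi : Nat.card N = H.index := hNc.index_eq_card.symm
    obtain ⟨q, hq, hqN⟩ := Nat.exists_prime_and_dvd (mt Subgroup.card_eq_one.mp hN0)
    haveI := Fact.mk hq
    have hqA : ¬ q ∣ Nat.card A := fun hd => hidx q hq hd (hNi ▸ hqN)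
    have hqB : q ∣ Nat.card B := by
      have h1 : q ∣ Nat.card A * Nat.card B := by
        rw [← card_of_factor h.cop h.fac]
        exact hqN.trans ((Subgroup.card_subgroup_dvd_card N).trans (Subgroup.card_subgroup_dvd_card K))
      exact (hq.dvd_mul.mp h1).resolve_left hqA
    set N' := N.map K.subtype with hN'
    have hN'c : Nat.card N' = Nat.card N := Subgroup.card_map_of_injective K.subtype_injective
    obtain ⟨p, hp, hpA⟩ := Nat.exists_prime_and_dvd (mt Subgroup.card_eq_one.mp h.ne_bot)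
    obtain ⟨z, hz⟩ := exists_isCentralOrder h.nilA hp hpA
    obtain ⟨Q, hQ⟩ := CfsgLib.Core.exists_invariant_sylow (A := Subgroup.zpowers z) (K := N')
      (by
        have h1 : K ≤ Subgroup.normalizer (N' : Set G) := by
          have h2 : (N'.subgroupOf K).Normal := by
            rw [hN', Subgroup.subgroupOf,
              Subgroup.comap_map_eq_self_of_injective K.subtype_injective]
            exact hN
          exact (Subgroup.normal_subgroupOf_iff_le_normalizer (Subgroup.map_subtype_le _)).mp h2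
        exact (Subgroup.zpowers_le.mpr (hcentral hz)).trans h1)
      (by
        rw [Nat.card_zpowers, hz.order, hN'c, hNi]
        exact hp.coprime_iff_not_dvd.mpr (hidx p hp hpA))
      (Or.inl inferInstance) q
    set R := (Q : Subgroup N').map N'.subtype with hR
    have hR0 : R ≠ ⊥ := fun e => Q.ne_bot_of_dvd_card (hN'c ▸ hqN)
      ((Subgroup.map_eq_bot_iff_of_injective _ N'.subtype_injective).mp e)
    have hRq : IsPGroup q R := Q.isPGroup'.map _
    obtain ⟨T, hT⟩ := hRq.exists_le_sylow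
    obtain ⟨P⟩ : Nonempty (Sylow q B) := inferInstance
    have hPc : Nat.card ((P : Subgroup B).map B.subtype) = q ^ (Nat.card G).factorization q := by
      rw [Subgroup.card_map_of_injective B.subtype_injective, P.card_eq_multiplicity,
        card_of_factor h.cop h.fac, Nat.factorization_mul Nat.card_pos.ne' Nat.card_pos.ne',
        Finsupp.add_apply, Nat.factorization_eq_zero_of_not_dvd hqA, zero_add]
    obtain ⟨g, hg⟩ := MulAction.exists_smul_eq G (Sylow.ofCard _ hPc) T
    have hRB : R ≤ MulAut.conj g • B := by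
      refine hT.trans ?_
      rw [← hg, Sylow.coe_subgroup_smul, Sylow.coe_ofCard]
      exact Subgroup.pointwise_smul_le_pointwise_smul_iff.mpr (Subgroup.map_subtype_le _)
    obtain ⟨w, hw⟩ := exists_isCentralOrder h.nilB hq hqB
    refine h.noPair_conj hp hq hz hw (h.normalizer_ne_top hR0 ?_) 1 g
      (by rw [one_mul, inv_one, mul_one]; exact hQ (Subgroup.mem_zpowers z))
      (Subgroup.centralizer_le_normalizer _ (Subgroup.mem_centralizer_iff.mpr fun y hy =>
        ((hw.conj g).comm y (hRB hy)).eq))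
    intro e
    exact h.symm.ne_top (Subgroup.eq_top_of_card_eq _ (le_antisymm (Subgroup.card_le_card_group _)
      (by
        rw [← card_conj g B]
        exact (Subgroup.card_top (G := G)).ge.trans
          (Subgroup.card_le_of_le (e.ge.trans hRB)))))
  subst hNbot
  have hHtop : H = ⊤ := Subgroup.isComplement'_bot_left.mp hNc
  exact (Subgroup.subgroupOf_eq_top.mp hHtop).trans Subgroup.le_normalizer

/-- The centraliser of an element of prime order of `A` lies in `N(A)`. -/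
theorem centralizer_le (h : WielandtCx A B) {r : ℕ} (hr : r.Prime) {v : G} (hv : v ∈ A)
    (hvo : orderOf v = r) :
    Subgroup.centralizer ({v} : Set G) ≤ Subgroup.normalizer (A : Set G) := by
  haveI := Fact.mk hr
  set K := Subgroup.centralizer ({v} : Set G) with hK
  have hrA : r ∣ Nat.card A := hvo ▸ Subgroup.orderOf_dvd_natCard A hv
  obtain ⟨S⟩ : Nonempty (Sylow r K) := inferInstance
  have hvK : v ∈ K := Subgroup.mem_centralizer_singleton_iff.mpr rfl
  haveI : (Subgroup.zpowers (⟨v, hvK⟩ : K)).Normal := by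
    refine ⟨fun y hy g => ?_⟩
    obtain ⟨i, rfl⟩ := Subgroup.mem_zpowers_iff.mp hy
    have hc : Commute g (⟨v, hvK⟩ : K) :=
      Subtype.ext (Subgroup.mem_centralizer_singleton_iff.mp g.2)
    rw [(hc.zpow_right i).eq, mul_inv_cancel_right]
    exact Subgroup.zpow_mem_zpowers _ i
  have hvS : (⟨v, hvK⟩ : K) ∈ (S : Subgroup K) := by
    refine (IsPGroup.of_card (n := 1) ?_ : IsPGroup r (Subgroup.zpowers (⟨v, hvK⟩ : K))).le_sylow_of_normal S
      (Subgroup.mem_zpowers _)
    rw [Nat.card_zpowers, Subgroup.orderOf_mk, hvo, pow_one]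
  set S' := (S : Subgroup K).map K.subtype with hS'
  obtain ⟨T, hT⟩ := (S.isPGroup'.map K.subtype).exists_le_sylow
  obtain ⟨P⟩ : Nonempty (Sylow r A) := inferInstance
  have hPc : Nat.card ((P : Subgroup A).map A.subtype) = r ^ (Nat.card G).factorization r := by
    rw [Subgroup.card_map_of_injective A.subtype_injective, P.card_eq_multiplicity,
      card_of_factor h.cop h.fac, Nat.factorization_mul Nat.card_pos.ne' Nat.card_pos.ne',
      Finsupp.add_apply, Nat.factorization_eq_zero_of_not_dvd (h.not_dvd hr hrA), add_zero]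
  obtain ⟨g, hg⟩ := MulAction.exists_smul_eq G (Sylow.ofCard _ hPc) T
  have hSA : S' ≤ MulAut.conj g • A := by
    refine hT.trans ?_
    rw [← hg, Sylow.coe_subgroup_smul, Sylow.coe_ofCard]
    exact Subgroup.pointwise_smul_le_pointwise_smul_iff.mpr (Subgroup.map_subtype_le _)
  set v' := g⁻¹ * v * g with hv'
  have hv'A : v' ∈ A := mem_conj_smul.mp (hSA ⟨⟨v, hvK⟩, hvS, rfl⟩)
  have hv'o : orderOf v' = r := by
    have : v' = MulAut.conj g⁻¹ v := by simp [hv', MulAut.conj_apply]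
    rw [this, MulEquiv.orderOf_eq, hvo]
  have hKc : Subgroup.centralizer ({v'} : Set G) = MulAut.conj g⁻¹ • K := by
    ext y
    rw [mem_conj_smul, inv_inv, hK, Subgroup.mem_centralizer_singleton_iff,
      Subgroup.mem_centralizer_singleton_iff, hv']
    constructor <;> intro e
    · calc g * y * g⁻¹ * v = g * (y * (g⁻¹ * v * g)) * g⁻¹ := by group
        _ = g * ((g⁻¹ * v * g) * y) * g⁻¹ := by rw [e]
        _ = v * (g * y * g⁻¹) := by group
    · calc y * (g⁻¹ * v * g) = g⁻¹ * (g * y * g⁻¹ * v) * g := by group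
        _ = g⁻¹ * (v * (g * y * g⁻¹)) * g := by rw [e]
        _ = g⁻¹ * v * g * y := by group
  have hle := h.centralizer_le_of_sylow hr hv'A hv'o (by
    rw [hKc]
    intro hd
    have h1 : MulAut.conj g⁻¹ • S' ≤ A ⊓ MulAut.conj g⁻¹ • K := by
      refine le_inf ?_ (Subgroup.pointwise_smul_le_pointwise_smul_iff.mpr
        (Subgroup.map_subtype_le _))
      have := Subgroup.pointwise_smul_le_pointwise_smul_iff (a := MulAut.conj g⁻¹).mpr hSA
      rwa [← mul_smul, ← map_mul, inv_mul_cancel, map_one, one_smul] at this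
    have h2 := Subgroup.card_dvd_of_le h1
    rw [card_conj, hS', Subgroup.card_map_of_injective K.subtype_injective,
      S.card_eq_multiplicity] at h2
    have h3 : Nat.card (A ⊓ MulAut.conj g⁻¹ • K : Subgroup G) *
        A.relIndex (MulAut.conj g⁻¹ • K) = Nat.card K := by
      rw [← card_conj g⁻¹ K, ← Subgroup.inf_relIndex_right,
        ← Nat.card_congr (Subgroup.subgroupOfEquivOfLe
          (inf_le_right : A ⊓ MulAut.conj g⁻¹ • K ≤ MulAut.conj g⁻¹ • K)).toEquiv]
      exact Subgroup.card_mul_index _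
    have h4 : r ^ ((Nat.card K).factorization r + 1) ∣ Nat.card K := by
      rw [pow_succ]
      exact (mul_dvd_mul h2 hd).trans h3.dvd
    rw [hr.pow_dvd_iff_le_factorization Nat.card_pos.ne'] at h4
    omega)
  rw [hKc] at hle
  obtain ⟨p, hp, hpA⟩ := Nat.exists_prime_and_dvd (mt Subgroup.card_eq_one.mp h.ne_bot)
  obtain ⟨z, hz⟩ := exists_isCentralOrder h.nilA hp hpA
  have hzK : z ∈ K := Subgroup.mem_centralizer_singleton_iff.mpr (hz.comm v hv).symm.eq
  have hzN : g⁻¹ * z * g ∈ Subgroup.normalizer (A : Set G) := by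
    refine hle ?_
    rw [mem_conj_smul, inv_inv, show g * (g⁻¹ * z * g) * g⁻¹ = z by group]
    exact hzK
  have hgN : g ∈ Subgroup.normalizer (A : Set G) := by
    have hzA : g⁻¹ * z * g ∈ A := by
      refine h.mem_of_coprime hzN ?_
      have e : g⁻¹ * z * g = MulAut.conj g⁻¹ z := by simp [MulAut.conj_apply]
      rw [e, MulEquiv.orderOf_eq, hz.order]
      exact hp.coprime_iff_not_dvd.mpr (h.not_dvd hp hpA)
    simpa using inv_mem (h.mem_normalizer_of_conj_mem hp hz (g := g⁻¹) (by rwa [inv_inv]))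
  intro y hy
  have h1 : g⁻¹ * y * g ∈ Subgroup.normalizer (A : Set G) := by
    refine hle ?_
    rw [mem_conj_smul, inv_inv, show g * (g⁻¹ * y * g) * g⁻¹ = y by group]
    exact hy
  have h2 := mul_mem (mul_mem hgN h1) (inv_mem hgN)
  rwa [show g * (g⁻¹ * y * g) * g⁻¹ = y by group] at h2

/-- `A` is a TI subgroup. -/
theorem inf_conj_eq_bot (h : WielandtCx A B) {g : G}
    (hg : g ∉ Subgroup.normalizer (A : Set G)) : A ⊓ MulAut.conj g • A = ⊥ := by
  by_contra hne
  obtain ⟨⟨x, hxA, hxg⟩, hx1⟩ := (Subgroup.ne_bot_iff_exists_ne_one).mp hne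
  have hx1' : x ≠ 1 := fun e => hx1 (Subtype.ext e)
  obtain ⟨r, hr, hd⟩ := Nat.exists_prime_and_dvd (mt orderOf_eq_one_iff.mp hx1')
  obtain ⟨m, hm⟩ := hd
  have hm0 : m ≠ 0 := fun e => (orderOf_pos x).ne' (by rw [hm, e, mul_zero])
  have hvo : orderOf (x ^ m) = r := by
    rw [orderOf_pow' x hm0, hm, Nat.gcd_mul_left_left,
      Nat.mul_div_cancel _ (Nat.pos_of_ne_zero hm0)]
  obtain ⟨p, hp, hpA⟩ := Nat.exists_prime_and_dvd (mt Subgroup.card_eq_one.mp h.ne_bot)
  obtain ⟨z, hz⟩ := exists_isCentralOrder h.nilA hp hpA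
  have hmem : g * z * g⁻¹ ∈ Subgroup.centralizer ({x ^ m} : Set G) :=
    Subgroup.mem_centralizer_singleton_iff.mpr
      ((hz.conj g).comm _ (pow_mem hxg m)).symm.eq
  have hzA : g * z * g⁻¹ ∈ A := by
    refine h.mem_of_coprime (h.centralizer_le hr (pow_mem hxA m) hvo hmem) ?_
    rw [(hz.conj g).order]
    exact hp.coprime_iff_not_dvd.mpr (h.not_dvd hp hpA)
  exact hg (h.mem_normalizer_of_conj_mem hp hz hzA)

theorem card_le (h : WielandtCx A B) : Nat.card A ≤ Nat.card B := by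
  obtain ⟨g, -, hg⟩ := SetLike.exists_of_lt (lt_top_iff_ne_top.mpr h.normalizer_self_ne_top)
  refine Nat.le_of_mul_le_mul_left ?_ (Nat.card_pos (α := A))
  rw [← card_of_factor h.cop h.fac]
  conv_lhs => arg 2; rw [← card_conj g A]
  rw [← Nat.card_prod]
  exact Nat.card_le_card_of_injective _
    (Subgroup.mul_injective_of_disjoint (disjoint_iff.mpr (h.inf_conj_eq_bot hg)))

theorem false (h : WielandtCx A B) : False := by
  have e : Nat.card A = Nat.card B := le_antisymm h.card_le h.symm.card_le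
  have h1 := h.cop
  rw [← e, Nat.coprime_self] at h1
  exact h.ne_bot (Subgroup.card_eq_one.mp h1)

end WielandtCx

end CfsgLib.SolvStruct
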