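import Cfsg.Agent.S0560
import Cfsg.Agent.Lib.SolvStruct.WielandtTI
import Cfsg.Agent.Lib.Core.MinNormal
import Cfsg.Agent.Lib.Components.Subnormal

/-!
# The Kegel–Wielandt theorem

A finite product of two nilpotent subgroups is solvable; the coprime case is Wielandt's theorem,
the reduction to it uses Kegel's lemma on proper products.
-/

set_option autoImplicit false
set_option linter.style.haveILetI false

namespace CfsgLib.SolvStruct

open Pointwise

variable {G : Type*} [Group G]

theorem isSolvable_extension (N : Subgroup G) [N.Normal] (hN : Group.IsSolvable N)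
    (hQ : Group.IsSolvable (G ⧸ N)) : Group.IsSolvable G := by
  haveI := hN
  haveI := hQ
  exact Group.isSolvable_of_ker_le_range N.subtype (QuotientGroup.mk' N)
    (by rw [QuotientGroup.ker_mk', Subgroup.range_subtype])

theorem map_mk'_eq_top_iff {A N : Subgroup G} [N.Normal] :
    A.map (QuotientGroup.mk' N) = ⊤ ↔ A ⊔ N = ⊤ := by
  have h1 : (A.map (QuotientGroup.mk' N)).comap (QuotientGroup.mk' N) = A ⊔ N := by
    rw [Subgroup.comap_map_eq, QuotientGroup.ker_mk']
  constructor
  · intro h
    rw [← h1, h, Subgroup.comap_top]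
  · intro h
    rw [← Subgroup.map_comap_eq_self_of_surjective (QuotientGroup.mk'_surjective N)
      (A.map (QuotientGroup.mk' N)), h1, h, Subgroup.map_top_of_surjective _
      (QuotientGroup.mk'_surjective N)]

/-- **Wielandt.** A product of two nilpotent subgroups of coprime orders is solvable. -/
theorem isSolvable_of_coprime_nilpotent_factor [Finite G] (A B : Subgroup G)
    (hA : Group.IsNilpotent A) (hB : Group.IsNilpotent B)
    (hcop : (Nat.card A).Coprime (Nat.card B))
    (hAB : ∀ g : G, ∃ a ∈ A, ∃ b ∈ B, g = a * b) : Group.IsSolvable G := by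
  induction hn : Nat.card G using Nat.strong_induction_on generalizing G with
  | _ n ih =>
    subst hn
    rcases subsingleton_or_nontrivial G with h' | h'
    · exact Group.isSolvable_of_comm fun a b => Subsingleton.elim _ _
    haveI := hA
    haveI := hB
    obtain ⟨N, hN, hN0, hmin⟩ := CfsgLib.Components.exists_minimal_normal (G := G)
    haveI := hN
    have hQ : Group.IsSolvable (G ⧸ N) := by
      refine ih _ (CfsgLib.Components.card_quotient_lt hN0) (A.map (QuotientGroup.mk' N))
        (B.map (QuotientGroup.mk' N)) (CfsgLib.Core.isNilpotent_map _ _)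
        (CfsgLib.Core.isNilpotent_map _ _) ?_ (factor_map (QuotientGroup.mk'_surjective N) hAB) rfl
      exact (hcop.coprime_dvd_left (A.card_map_dvd _)).coprime_dvd_right (B.card_map_dvd _)
    by_cases hNtop : N = ⊤
    · by_contra hns
      refine WielandtCx.false (A := A) (B := B) ⟨hA, hB, hcop, hAB, fun K hK => ?_, hns, ?_⟩
      · rcases hmin K hK (hNtop ▸ le_top) with h | h
        · exact Or.inl h
        · exact Or.inr (h.trans hNtop)
      · intro T hT hf
        refine ih _ (CfsgLib.Components.card_lt_of_ne_top hT) ((A ⊓ T).subgroupOf T)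
          ((B ⊓ T).subgroupOf T) ?_ ?_ ?_ ?_ rfl
        · haveI := CfsgLib.Core.isNilpotent_of_le (inf_le_left : A ⊓ T ≤ A)
          exact Group.nilpotent_of_mulEquiv (Subgroup.subgroupOfEquivOfLe inf_le_right).symm
        · haveI := CfsgLib.Core.isNilpotent_of_le (inf_le_left : B ⊓ T ≤ B)
          exact Group.nilpotent_of_mulEquiv (Subgroup.subgroupOfEquivOfLe inf_le_right).symm
        · rw [Nat.card_congr (Subgroup.subgroupOfEquivOfLe (inf_le_right : A ⊓ T ≤ T)).toEquiv,
            Nat.card_congr (Subgroup.subgroupOfEquivOfLe (inf_le_right : B ⊓ T ≤ T)).toEquiv]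
          exact (hcop.coprime_dvd_left (Subgroup.card_dvd_of_le inf_le_left)).coprime_dvd_right
            (Subgroup.card_dvd_of_le inf_le_left)
        · intro g
          obtain ⟨a, ha, b, hb, e⟩ := hf g g.2
          exact ⟨⟨a, ha.2⟩, ha, ⟨b, hb.2⟩, hb, Subtype.ext e⟩
    have sub : ∀ A' B' : Subgroup G, Group.IsNilpotent A' → Group.IsNilpotent B' →
        (Nat.card A').Coprime (Nat.card B') → (∀ g : G, ∃ a ∈ A', ∃ b ∈ B', g = a * b) →
        A' ⊔ N ≠ ⊤ → Group.IsSolvable N := by
      intro A' B' hA' hB' hc' hf' hne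
      haveI := hA'
      haveI := hB'
      set M := A' ⊔ N with hM
      have hsM : Group.IsSolvable M := by
        refine ih _ (CfsgLib.Components.card_lt_of_ne_top hne) (A'.subgroupOf M)
          ((B' ⊓ M).subgroupOf M) ?_ ?_ ?_ (factor_inf hf' le_sup_left) rfl
        · exact Group.nilpotent_of_mulEquiv (Subgroup.subgroupOfEquivOfLe le_sup_left).symm
        · haveI := CfsgLib.Core.isNilpotent_of_le (inf_le_left : B' ⊓ M ≤ B')
          exact Group.nilpotent_of_mulEquiv (Subgroup.subgroupOfEquivOfLe inf_le_right).symm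
        · rw [Nat.card_congr (Subgroup.subgroupOfEquivOfLe (le_sup_left : A' ≤ M)).toEquiv,
            Nat.card_congr (Subgroup.subgroupOfEquivOfLe (inf_le_right : B' ⊓ M ≤ M)).toEquiv]
          exact hc'.coprime_dvd_right (Subgroup.card_dvd_of_le inf_le_left)
      exact CfsgLib.Core.isSolvable_of_le hsM le_sup_right
    refine isSolvable_extension N ?_ hQ
    by_cases h1 : A ⊔ N = ⊤
    · refine sub B A hB hA hcop.symm (factor_symm hAB) fun h2 => hNtop ?_
      have hd1 := A.card_map_dvd (QuotientGroup.mk' N)
      have hd2 := B.card_map_dvd (QuotientGroup.mk' N)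
      rw [map_mk'_eq_top_iff.mpr h1, Subgroup.card_top] at hd1
      rw [map_mk'_eq_top_iff.mpr h2, Subgroup.card_top] at hd2
      rw [← Subgroup.index_eq_one, Subgroup.index_eq_card]
      exact Nat.eq_one_of_dvd_coprimes hcop hd1 hd2
    · exact sub A B hA hB hcop hAB h1

theorem isPGroup_conj {p : ℕ} {H : Subgroup G} (hH : IsPGroup p H) (g : G) :
    IsPGroup p (MulAut.conj g • H : Subgroup G) :=
  hH.map (MulAut.conj g).toMonoidHom

/-- **Kegel–Wielandt.** A product of two nilpotent subgroups is solvable. -/
theorem isSolvable_of_nilpotent_factor [Finite G] (A B : Subgroup G)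
    (hA : Group.IsNilpotent A) (hB : Group.IsNilpotent B)
    (hAB : ∀ g : G, ∃ a ∈ A, ∃ b ∈ B, g = a * b) : Group.IsSolvable G := by
  induction hn : Nat.card G using Nat.strong_induction_on generalizing G with
  | _ n ih =>
    subst hn
    haveI := hA
    haveI := hB
    by_cases hcop : (Nat.card A).Coprime (Nat.card B)
    · exact isSolvable_of_coprime_nilpotent_factor A B hA hB hcop hAB
    rcases subsingleton_or_nontrivial G with h' | h'
    · exact Group.isSolvable_of_comm fun a b => Subsingleton.elim _ _
    obtain ⟨p, hp, hpA, hpB⟩ := Nat.Prime.not_coprime_iff_dvd.mp hcop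
    haveI := Fact.mk hp
    obtain ⟨N, hN, hN0, hmin⟩ := CfsgLib.Components.exists_minimal_normal (G := G)
    haveI := hN
    have hQ : Group.IsSolvable (G ⧸ N) :=
      ih _ (CfsgLib.Components.card_quotient_lt hN0) (A.map (QuotientGroup.mk' N))
        (B.map (QuotientGroup.mk' N)) (CfsgLib.Core.isNilpotent_map _ _)
        (CfsgLib.Core.isNilpotent_map _ _) (factor_map (QuotientGroup.mk'_surjective N) hAB) rfl
    have sub : ∀ A' B' : Subgroup G, Group.IsNilpotent A' → Group.IsNilpotent B' →
        (∀ g : G, ∃ a ∈ A', ∃ b ∈ B', g = a * b) → A' ⊔ N ≠ ⊤ → Group.IsSolvable G := by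
      intro A' B' hA' hB' hf' hne
      haveI := hA'
      haveI := hB'
      set M := A' ⊔ N with hM
      have hsM : Group.IsSolvable M := by
        refine ih _ (CfsgLib.Components.card_lt_of_ne_top hne) (A'.subgroupOf M)
          ((B' ⊓ M).subgroupOf M) ?_ ?_ (factor_inf hf' le_sup_left) rfl
        · exact Group.nilpotent_of_mulEquiv (Subgroup.subgroupOfEquivOfLe le_sup_left).symm
        · haveI := CfsgLib.Core.isNilpotent_of_le (inf_le_left : B' ⊓ M ≤ B')
          exact Group.nilpotent_of_mulEquiv (Subgroup.subgroupOfEquivOfLe inf_le_right).symm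
      exact isSolvable_extension N (CfsgLib.Core.isSolvable_of_le hsM le_sup_right) hQ
    by_cases hAN : A ⊔ N = ⊤
    swap
    · exact sub A B hA hB hAB hAN
    by_cases hBN : B ⊔ N = ⊤
    swap
    · exact sub B A hB hA (factor_symm hAB) hBN
    obtain ⟨P₀, Q₀, R₀, hR₀⟩ := Cfsg.Agent.S0560.result A B hAB p
    haveI : (P₀ : Subgroup A).Normal :=
      P₀.normal_of_normalizerCondition Group.normalizerCondition_of_isNilpotent
    haveI : (Q₀ : Subgroup B).Normal :=
      Q₀.normal_of_normalizerCondition Group.normalizerCondition_of_isNilpotent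
    set P := (P₀ : Subgroup A).map A.subtype with hP
    set Q := (Q₀ : Subgroup B).map B.subtype with hQdef
    obtain ⟨hPQ, hperm⟩ := permutes_of_coe_eq (S := (R₀ : Subgroup G)) hR₀
    have norm : ∀ (X : Subgroup G) (S : Sylow p X), (S : Subgroup X).Normal →
        X ≤ Subgroup.normalizer ((S : Subgroup X).map X.subtype : Set G) := by
      intro X S hS
      have h1 : (((S : Subgroup X).map X.subtype).subgroupOf X).Normal := by
        rw [Subgroup.subgroupOf, Subgroup.comap_map_eq_self_of_injective X.subtype_injective]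
        exact hS
      exact (Subgroup.normal_subgroupOf_iff_le_normalizer (Subgroup.map_subtype_le _)).mp h1
    have hAP : A ≤ Subgroup.normalizer (P : Set G) := norm A P₀ inferInstance
    have hBQ : B ≤ Subgroup.normalizer (Q : Set G) := norm B Q₀ inferInstance
    have hsupn : ∀ X S : Subgroup G, X ⊔ N = ⊤ → X ≤ Subgroup.normalizer (S : Set G) →
        (S ⊔ N).Normal := by
      intro X S hX hXS
      rw [← Subgroup.normalizer_eq_top_iff, eq_top_iff, ← hX]
      refine sup_le (fun x hx => mem_normalizer_of_conj_le ?_)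
        (le_sup_right.trans Subgroup.le_normalizer)
      rw [Subgroup.smul_sup, conj_smul_self_of_mem (hXS hx),
        conj_smul_self_of_mem (Subgroup.le_normalizer_of_normal (K := ⊤) (Subgroup.mem_top x))]
    haveI hRn : (P ⊔ N).Normal := hsupn A P hAN hAP
    haveI hR'n : (Q ⊔ N).Normal := hsupn B Q hBN hBQ
    have hQR : ∀ (X : Subgroup G) (S : Sylow p X) (K : Subgroup G) [K.Normal]
        (T : Subgroup G), X ⊔ K = ⊤ → (S : Subgroup X).map X.subtype ≤ K → IsPGroup p T →
        T ≤ K := by
      intro X S K hK T hX hSK hT x hx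
      have hidx : ¬ p ∣ K.index := by
        intro hd
        have h1 : K.relIndex X = K.index := by
          rw [← Subgroup.relIndex_top_right, ← hX, Subgroup.relIndex_sup_right]
        have h2 : K.relIndex X ∣ ((S : Subgroup X).map X.subtype).relIndex X :=
          Subgroup.relIndex_dvd_of_le_left X hSK
        rw [h1, Subgroup.relIndex, Subgroup.subgroupOf,
          Subgroup.comap_map_eq_self_of_injective X.subtype_injective] at h2
        exact S.not_dvd_index (hd.trans h2)
      rw [← QuotientGroup.eq_one_iff, ← orderOf_eq_one_iff]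
      obtain ⟨i, hi⟩ := IsPGroup.iff_orderOf.mp hT ⟨x, hx⟩
      rw [Subgroup.orderOf_mk] at hi
      refine Nat.eq_one_of_dvd_coprimes
        ((hp.coprime_iff_not_dvd.mpr hidx).pow_left i) ?_ ?_
      · rw [← hi]; exact orderOf_map_dvd (QuotientGroup.mk' K) x
      · rw [Subgroup.index_eq_card]; exact orderOf_dvd_natCard _
    have hQleR : Q ≤ P ⊔ N := by
      refine hQR A P₀ (P ⊔ N) Q ?_ le_sup_left (Q₀.isPGroup'.map _)
      rw [eq_top_iff, ← hAN]
      exact sup_le_sup_left le_sup_right A
    have hPleR' : P ≤ Q ⊔ N := by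
      refine hQR B Q₀ (Q ⊔ N) P ?_ le_sup_left (P₀.isPGroup'.map _)
      rw [eq_top_iff, ← hBN]
      exact sup_le_sup_left le_sup_right B
    have hRR' : Q ⊔ N = P ⊔ N :=
      le_antisymm (sup_le hQleR le_sup_right) (sup_le hPleR' le_sup_right)
    set R := P ⊔ N with hR
    by_cases hRp : IsPGroup p R
    · haveI := hRp.isNilpotent
      exact isSolvable_extension N (CfsgLib.Core.isSolvable_of_le
        (isSolvable_of_isNilpotent (X := R) inferInstance) le_sup_right) hQ
    -- Kegel's lemma inside `R`
    have hall : ∀ r : G, Permutes P (MulAut.conj r • Q) ∧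
        IsPGroup p (P ⊔ MulAut.conj r • Q : Subgroup G) := by
      intro r
      obtain ⟨a, ha, b, hb, rfl⟩ := hAB r
      rw [map_mul, mul_smul, conj_smul_self_of_mem (hBQ hb)]
      refine ⟨?_, ?_⟩
      · have := hperm.conj a
        rwa [conj_smul_self_of_mem (hAP ha)] at this
      · have := isPGroup_conj (R₀.isPGroup') a
        rwa [← hPQ, Subgroup.smul_sup, conj_smul_self_of_mem (hAP ha)] at this
    obtain ⟨T, hT, hTtop, hor⟩ := kegel (P.subgroupOf R) (Q.subgroupOf R) fun x => by
      have hxQ : MulAut.conj x • Q.subgroupOf R = (MulAut.conj (x : G) • Q).subgroupOf R := by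
        ext y
        simp only [mem_conj_smul, Subgroup.mem_subgroupOf]
        push_cast
        rfl
      rw [hxQ]
      obtain ⟨hpm, hpg⟩ := hall x
      have hQx : MulAut.conj (x : G) • Q ≤ R := by
        intro y hy
        rw [mem_conj_smul] at hy
        have := mul_mem (mul_mem x.2 (hQleR hy)) (inv_mem x.2)
        rwa [show (x : G) * ((x : G)⁻¹ * y * x) * (x : G)⁻¹ = y by group] at this
      rw [← Subgroup.subgroupOf_sup (A := P) (A' := MulAut.conj (x : G) • Q) le_sup_left hQx]
      refine ⟨?_, fun e => hRp (hpg.to_le (Subgroup.subgroupOf_eq_top.mp e))⟩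
      intro g hg
      rw [← Subgroup.subgroupOf_sup le_sup_left hQx] at hg
      obtain ⟨u, hu, v, hv, e⟩ := hpm (g : G) (Subgroup.mem_subgroupOf.mp hg)
      exact ⟨⟨u, le_sup_left (a := P) (b := N) hu⟩, hu, ⟨v, hQx hv⟩, hv, Subtype.ext e⟩
    have key : ∀ (X S : Subgroup G), X ⊔ N = ⊤ → X ≤ Subgroup.normalizer (S : Set G) →
        S ⊔ N = R → S ≠ ⊥ → S.subgroupOf R ≤ T → Group.IsSolvable G := by
      intro X S hX hXS hSR hS0 hST
      haveI := hT
      set T' := T.map R.subtype with hT'
      have hT'R : T' ≤ R := Subgroup.map_subtype_le _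
      have hRT : R ≤ Subgroup.normalizer (T' : Set G) := by
        have h1 : (T'.subgroupOf R).Normal := by
          rw [hT', Subgroup.subgroupOf,
            Subgroup.comap_map_eq_self_of_injective R.subtype_injective]
          exact hT
        exact (Subgroup.normal_subgroupOf_iff_le_normalizer hT'R).mp h1
      have hS' : S ≤ T' := fun y hy =>
        ⟨⟨y, hSR ▸ Subgroup.mem_sup_left hy⟩, hST hy, rfl⟩
      set Y := Subgroup.normalClosure (S : Set G) with hY
      have hYT : Y ≤ T' := by
        rw [hY, Subgroup.normalClosure, Subgroup.closure_le]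
        intro y hy
        rw [Group.mem_conjugatesOfSet_iff] at hy
        obtain ⟨v, hv, hc⟩ := hy
        obtain ⟨g, rfl⟩ := isConj_iff.mp hc
        have hg : g ∈ ((N ⊔ X : Subgroup G) : Set G) := by rw [sup_comm, hX]; trivial
        rw [Subgroup.normal_mul] at hg
        obtain ⟨m, hm, x, hx, rfl⟩ := hg
        have h1 : x * v * x⁻¹ ∈ T' := hS' ((Subgroup.mem_normalizer_iff.mp (hXS hx) v).mp hv)
        have h2 := (Subgroup.mem_normalizer_iff.mp
          (hRT (hSR ▸ Subgroup.mem_sup_right hm)) _).mp h1
        rwa [show m * (x * v * x⁻¹) * m⁻¹ = m * x * v * (m * x)⁻¹ by group] at h2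
      have hYn : Y.Normal := Subgroup.normalClosure_normal
      rcases hmin (Y ⊓ N) inferInstance inf_le_right with h | h
      · have hY0 : Y ≠ ⊥ := fun e => hS0 (le_bot_iff.mp (Subgroup.le_normalClosure.trans e.le))
        haveI := hQ
        have hYs : Group.IsSolvable Y := by
          refine Group.isSolvable_of_isSolvable_injective
            (f := (QuotientGroup.mk' N).comp Y.subtype) ((injective_iff_map_eq_one _).mpr ?_)
          intro y hy
          refine Subtype.ext (Subgroup.mem_bot.mp (h ▸ ⟨y.2, ?_⟩))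
          exact (QuotientGroup.eq_one_iff _).mp hy
        exact isSolvable_extension Y hYs (ih _ (CfsgLib.Components.card_quotient_lt hY0)
          (A.map (QuotientGroup.mk' Y)) (B.map (QuotientGroup.mk' Y))
          (CfsgLib.Core.isNilpotent_map _ _) (CfsgLib.Core.isNilpotent_map _ _)
          (factor_map (QuotientGroup.mk'_surjective Y) hAB) rfl)
      · refine absurd ?_ hTtop
        have h1 : R ≤ T' := hSR ▸ sup_le hS' ((h.ge.trans inf_le_left).trans hYT)
        rw [eq_top_iff]
        intro y _
        obtain ⟨y', hy', e⟩ := h1 y.2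
        rwa [← Subtype.ext e]
    rcases hor with h1 | h1
    · refine key A P hAN hAP rfl (fun e => P₀.ne_bot_of_dvd_card hpA ?_) h1
      exact (Subgroup.map_eq_bot_iff_of_injective _ A.subtype_injective).mp e
    · refine key B Q hBN hBQ hRR' (fun e => Q₀.ne_bot_of_dvd_card hpB ?_) h1
      exact (Subgroup.map_eq_bot_iff_of_injective _ B.subtype_injective).mp e

/-- In a solvable product of two nilpotent groups of coprime orders the Sylow subgroups of the
factors permute. -/
theorem sylow_permute [Finite G] (A B : Subgroup G) (hA : Group.IsNilpotent A)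
    (hB : Group.IsNilpotent B) (hcop : (Nat.card A).Coprime (Nat.card B))
    (hAB : ∀ g : G, ∃ a ∈ A, ∃ b ∈ B, g = a * b) (hs : Group.IsSolvable G) {p q : ℕ}
    [Fact p.Prime] [Fact q.Prime] (P₀ : Sylow p A) (Q₀ : Sylow q B) :
    Permutes ((P₀ : Subgroup A).map A.subtype) ((Q₀ : Subgroup B).map B.subtype) := by
  haveI := hA
  haveI := hB
  haveI := hs
  set P := (P₀ : Subgroup A).map A.subtype with hP
  set Q := (Q₀ : Subgroup B).map B.subtype with hQ
  by_cases hP0 : P = ⊥
  · intro g hg
    rw [hP0, bot_sup_eq] at hg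
    exact ⟨1, one_mem _, g, hg, (one_mul g).symm⟩
  by_cases hQ0 : Q = ⊥
  · intro g hg
    rw [hQ0, sup_bot_eq] at hg
    exact ⟨g, hg, 1, one_mem _, (mul_one g).symm⟩
  have hPc : Nat.card P = p ^ (Nat.card A).factorization p := by
    rw [hP, Subgroup.card_map_of_injective A.subtype_injective, P₀.card_eq_multiplicity]
  have hQc : Nat.card Q = q ^ (Nat.card B).factorization q := by
    rw [hQ, Subgroup.card_map_of_injective B.subtype_injective, Q₀.card_eq_multiplicity]
  have hpA : p ∣ Nat.card A := by
    by_contra hd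
    rw [Nat.factorization_eq_zero_of_not_dvd hd, pow_zero] at hPc
    exact hP0 (Subgroup.card_eq_one.mp hPc)
  have hqB : q ∣ Nat.card B := by
    by_contra hd
    rw [Nat.factorization_eq_zero_of_not_dvd hd, pow_zero] at hQc
    exact hQ0 (Subgroup.card_eq_one.mp hQc)
  have hpq : p ≠ q := fun e =>
    (Fact.out : p.Prime).ne_one (Nat.eq_one_of_dvd_coprimes hcop hpA (e ▸ hqB))
  have hpi : ∀ (r : ℕ) (X : Subgroup G), IsPGroup r X → r.Prime → ∀ s : ℕ, s.Prime →
      s ∣ Nat.card X → s = r := by
    intro r X hX hr s hs hd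
    haveI := Fact.mk hr
    obtain ⟨k, hk⟩ := hX.exists_card_eq
    rw [hk] at hd
    exact (Nat.prime_dvd_prime_iff_eq hs hr).mp (hs.dvd_of_dvd_pow hd)
  obtain ⟨H₁, hH₁, hPH₁⟩ := CfsgLib.Core.exists_piHall_ge (π := ({p, q} : Set ℕ)) (K := P)
    (fun s hs hd => Or.inl (hpi p P (P₀.isPGroup'.map _) Fact.out s hs hd))
  obtain ⟨H₂, hH₂, hQH₂⟩ := CfsgLib.Core.exists_piHall_ge (π := ({p, q} : Set ℕ)) (K := Q)
    (fun s hs hd => Or.inr (hpi q Q (Q₀.isPGroup'.map _) Fact.out s hs hd))
  obtain ⟨g, hg⟩ := CfsgLib.Core.piHall_conj hH₁ hH₂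
  obtain ⟨b, hb, a, ha, rfl⟩ := factor_symm hAB g
  have norm : ∀ (r : ℕ) [Fact r.Prime] (X : Subgroup G) (_ : Group.IsNilpotent X)
      (S : Sylow r X), X ≤ Subgroup.normalizer ((S : Subgroup X).map X.subtype : Set G) := by
    intro r _ X hX S
    haveI := hX
    have h1 : (((S : Subgroup X).map X.subtype).subgroupOf X).Normal := by
      rw [Subgroup.subgroupOf, Subgroup.comap_map_eq_self_of_injective X.subtype_injective]
      exact S.normal_of_normalizerCondition Group.normalizerCondition_of_isNilpotent
    exact (Subgroup.normal_subgroupOf_iff_le_normalizer (Subgroup.map_subtype_le _)).mp h1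
  set H := MulAut.conj b⁻¹ • H₂ with hH
  have hPa : MulAut.conj a • P = P := conj_smul_self_of_mem (norm p A hA P₀ ha)
  have hQb : MulAut.conj b⁻¹ • Q = Q := conj_smul_self_of_mem (norm q B hB Q₀ (inv_mem hb))
  have hPH : P ≤ H := by
    rw [hH, ← hg, map_mul, mul_smul, ← mul_smul, ← map_mul, inv_mul_cancel, map_one, one_smul,
      ← hPa]
    exact Subgroup.pointwise_smul_le_pointwise_smul_iff.mpr hPH₁
  have hQH : Q ≤ H := by
    rw [hH, ← hQb]
    exact Subgroup.pointwise_smul_le_pointwise_smul_iff.mpr hQH₂
  have hHc : Nat.card H ∣ Nat.card P * Nat.card Q := by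
    rw [hPc, hQc, ← Nat.factorization_le_iff_dvd Nat.card_pos.ne'
      (mul_ne_zero (pow_ne_zero _ (Fact.out : p.Prime).ne_zero)
        (pow_ne_zero _ (Fact.out : q.Prime).ne_zero))]
    intro s
    by_cases hd : s.Prime ∧ s ∣ Nat.card H
    swap
    · rw [(Nat.factorization_eq_zero_iff _ _).mpr (by tauto)]
      exact Nat.zero_le _
    obtain ⟨hs, hd⟩ := hd
    have hle : (Nat.card H).factorization s ≤ (Nat.card A).factorization s +
        (Nat.card B).factorization s := by
      rw [← Finsupp.add_apply, ← Nat.factorization_mul Nat.card_pos.ne' Nat.card_pos.ne',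
        ← card_of_factor hcop hAB]
      exact (Nat.factorization_le_iff_dvd Nat.card_pos.ne' Nat.card_pos.ne').mpr
        (Subgroup.card_subgroup_dvd_card H) s
    rw [Nat.factorization_mul (pow_ne_zero _ (Fact.out : p.Prime).ne_zero)
      (pow_ne_zero _ (Fact.out : q.Prime).ne_zero), (Fact.out : p.Prime).factorization_pow,
      (Fact.out : q.Prime).factorization_pow, Finsupp.add_apply]
    rw [hH, card_conj] at hd
    rcases hH₂.1 s hs hd with rfl | rfl
    · rw [Finsupp.single_eq_same, Finsupp.single_eq_of_ne hpq]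
      have : (Nat.card B).factorization s = 0 := Nat.factorization_eq_zero_of_not_dvd fun h =>
        hs.ne_one (Nat.eq_one_of_dvd_coprimes hcop hpA h)
      omega
    · rw [Finsupp.single_eq_same, Finsupp.single_eq_of_ne (Ne.symm hpq)]
      have : (Nat.card A).factorization s = 0 := Nat.factorization_eq_zero_of_not_dvd fun h =>
        hs.ne_one (Nat.eq_one_of_dvd_coprimes hcop h hqB)
      omega
  have hd : Disjoint P Q := by
    rw [disjoint_iff]
    exact Subgroup.inf_eq_bot_of_coprime ((hcop.coprime_dvd_left
      (Subgroup.card_dvd_of_le (Subgroup.map_subtype_le _))).coprime_dvd_right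
        (Subgroup.card_dvd_of_le (Subgroup.map_subtype_le _)))
  let f : P × Q → H := fun x => ⟨(x.1 : G) * x.2, mul_mem (hPH x.1.2) (hQH x.2.2)⟩
  have hf : Function.Injective f := fun x y e =>
    Subgroup.mul_injective_of_disjoint hd (congrArg Subtype.val e)
  have hsurj : Function.Surjective f := by
    refine ((Nat.bijective_iff_injective_and_card f).mpr ⟨hf, le_antisymm
      (Nat.card_le_card_of_injective f hf) ?_⟩).2
    rw [Nat.card_prod]
    exact Nat.le_of_dvd (Nat.mul_pos Nat.card_pos Nat.card_pos) hHc
  intro y hy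
  obtain ⟨x, hx⟩ := hsurj ⟨y, (sup_le hPH hQH) hy⟩
  exact ⟨x.1, x.1.2, x.2, x.2.2, (congrArg Subtype.val hx).symm⟩

/-- A proper normal subgroup contains one of two nilpotent factors. -/
theorem exists_normal_ge_factor [Finite G] (A B : Subgroup G)
    (hA : Group.IsNilpotent A) (hB : Group.IsNilpotent B)
    (hAB : ∀ g : G, ∃ a ∈ A, ∃ b ∈ B, g = a * b) (hproper : A ≠ ⊤ ∨ B ≠ ⊤) :
    ∃ N : Subgroup G, N.Normal ∧ N ≠ ⊤ ∧ (A ≤ N ∨ B ≤ N) := by
  induction hn : Nat.card G using Nat.strong_induction_on generalizing G with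
  | _ n ih =>
    subst hn
    haveI := hA
    haveI := hB
    by_cases hG : Group.IsNilpotent G
    · haveI := hG
      have hcoat : ∀ X : Subgroup G, X ≠ ⊤ → ∃ M : Subgroup G, M.Normal ∧ M ≠ ⊤ ∧ X ≤ M := by
        intro X hX
        obtain ⟨M, hM, hXM⟩ := (eq_top_or_exists_le_coatom X).resolve_left hX
        exact ⟨M, Subgroup.NormalizerCondition.normal_of_coatom M
          Group.normalizerCondition_of_isNilpotent hM, hM.1, hXM⟩
      rcases hproper with h | h
      · obtain ⟨M, h1, h2, h3⟩ := hcoat A h
        exact ⟨M, h1, h2, Or.inl h3⟩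
      · obtain ⟨M, h1, h2, h3⟩ := hcoat B h
        exact ⟨M, h1, h2, Or.inr h3⟩
    have hs := isSolvable_of_nilpotent_factor A B hA hB hAB
    haveI := hs
    haveI : Nontrivial G := by
      rcases subsingleton_or_nontrivial G with h' | h'
      · exact absurd (Group.isNilpotent_of_subsingleton (G := G)) hG
      · exact h'
    obtain ⟨N, hN, hN0, hmin⟩ := CfsgLib.Components.exists_minimal_normal (G := G)
    haveI := hN
    obtain ⟨p, hp, hNp, hNc, -⟩ :=
      CfsgLib.Core.isPGroup_of_minimal_normal N inferInstance hN0 hmin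
    haveI := Fact.mk hp
    haveI := hNc
    by_cases hboth : A ⊔ N = ⊤ ∧ B ⊔ N = ⊤
    swap
    · have hpr : A.map (QuotientGroup.mk' N) ≠ ⊤ ∨ B.map (QuotientGroup.mk' N) ≠ ⊤ := by
        rw [Ne, Ne, map_mk'_eq_top_iff, map_mk'_eq_top_iff]
        tauto
      obtain ⟨M, hM, hMt, hor⟩ := ih _ (CfsgLib.Components.card_quotient_lt hN0)
        (A.map (QuotientGroup.mk' N)) (B.map (QuotientGroup.mk' N))
        (CfsgLib.Core.isNilpotent_map _ _) (CfsgLib.Core.isNilpotent_map _ _)
        (factor_map (QuotientGroup.mk'_surjective N) hAB) hpr rfl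
      refine ⟨M.comap (QuotientGroup.mk' N), hM.comap _, fun e => hMt ?_,
        hor.imp Subgroup.map_le_iff_le_comap.mp Subgroup.map_le_iff_le_comap.mp⟩
      rw [← Subgroup.map_comap_eq_self_of_surjective (QuotientGroup.mk'_surjective N) M, e,
        Subgroup.map_top_of_surjective _ (QuotientGroup.mk'_surjective N)]
    obtain ⟨hAN, hBN⟩ := hboth
    exfalso
    have hcard : ∀ X : Subgroup G, Group.IsNilpotent X → X ⊔ N = ⊤ →
        Nat.card G = Nat.card X * Nat.card N := by
      intro X hX hXN
      have h1 : (X ⊓ N).Normal := by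
        rw [← Subgroup.normalizer_eq_top_iff, eq_top_iff, ← hXN]
        refine sup_le ((le_inf Subgroup.le_normalizer Subgroup.le_normalizer_of_normal).trans
          Subgroup.inf_normalizer_le_normalizer_inf) (normalizer_le_of_le_centralizer ?_)
        refine le_trans ?_ (Subgroup.centralizer_le (show ((X ⊓ N : Subgroup G) : Set G) ⊆ N from
          fun y hy => hy.2))
        exact fun u hu => Subgroup.mem_centralizer_iff.mpr fun v hv => setLike_mul_comm hv hu
      rcases hmin (X ⊓ N) h1 inf_le_right with h | h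
      · have h2 := CfsgLib.Core.card_sup_mul_card_inf X N Subgroup.le_normalizer_of_normal
        rw [h, hXN, Subgroup.card_bot, Subgroup.card_top, mul_one] at h2
        exact h2
      · exfalso
        refine hG ?_
        have : X = ⊤ := by rw [← hXN, sup_eq_left.mpr (h.ge.trans inf_le_left)]
        subst this
        exact Group.nilpotent_of_mulEquiv Subgroup.topEquiv
    have hcA := hcard A hA hAN
    have hcB := hcard B hB hBN
    refine hG (((Group.isNilpotent_of_finite_tfae (G := G)).out 0 3).mpr fun q hq P => ?_)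
    haveI := hq
    rcases eq_or_ne q p with rfl | hqp
    · -- the Sylow subgroups for the prime of `N`
      have hNP : N ≤ (P : Subgroup G) := hNp.le_sylow_of_normal P
      haveI : Group.IsNilpotent (G ⧸ N) := by
        have h1 : Function.Surjective ((QuotientGroup.mk' N).comp A.subtype) := by
          rw [← MonoidHom.range_eq_top, MonoidHom.range_comp, Subgroup.range_subtype]
          exact map_mk'_eq_top_iff.mpr hAN
        exact Group.nilpotent_of_surjective _ h1
      have h2 : ((P.mapSurjective (QuotientGroup.mk'_surjective N) : Sylow q (G ⧸ N)) :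
          Subgroup (G ⧸ N)).Normal :=
        Sylow.normal_of_normalizerCondition Group.normalizerCondition_of_isNilpotent _
      rw [Sylow.coe_mapSurjective] at h2
      have h3 := h2.comap (QuotientGroup.mk' N)
      rwa [Subgroup.comap_map_eq, QuotientGroup.ker_mk', sup_eq_left.mpr hNP] at h3
    · -- the other Sylow subgroups
      obtain ⟨S⟩ : Nonempty (Sylow q A) := inferInstance
      obtain ⟨S'⟩ : Nonempty (Sylow q B) := inferInstance
      have hq0 : (Nat.card N).factorization q = 0 := by
        obtain ⟨k, hk⟩ := hNp.exists_card_eq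
        rw [hk, hp.factorization_pow, Finsupp.single_eq_of_ne hqp]
      have cfull : ∀ (X : Subgroup G) (S : Sylow q X), Nat.card G = Nat.card X * Nat.card N →
          Nat.card ((S : Subgroup X).map X.subtype) = q ^ (Nat.card G).factorization q := by
        intro X S hX
        rw [Subgroup.card_map_of_injective X.subtype_injective, S.card_eq_multiplicity, hX,
          Nat.factorization_mul Nat.card_pos.ne' Nat.card_pos.ne', Finsupp.add_apply, hq0,
          add_zero]
      have norm : ∀ (X : Subgroup G) (_ : Group.IsNilpotent X) (S : Sylow q X),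
          X ≤ Subgroup.normalizer ((S : Subgroup X).map X.subtype : Set G) := by
        intro X hX S
        haveI := hX
        have h1 : (((S : Subgroup X).map X.subtype).subgroupOf X).Normal := by
          rw [Subgroup.subgroupOf, Subgroup.comap_map_eq_self_of_injective X.subtype_injective]
          exact S.normal_of_normalizerCondition Group.normalizerCondition_of_isNilpotent
        exact (Subgroup.normal_subgroupOf_iff_le_normalizer (Subgroup.map_subtype_le _)).mp h1
      obtain ⟨g, hg⟩ := MulAction.exists_smul_eq G (Sylow.ofCard _ (cfull A S hcA))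
        (Sylow.ofCard _ (cfull B S' hcB))
      have hg' := congrArg (fun X : Sylow q G => (X : Subgroup G)) hg
      simp only [Sylow.coe_subgroup_smul, Sylow.coe_ofCard] at hg'
      obtain ⟨b, hb, a, ha, rfl⟩ := factor_symm hAB g
      set SA := (S : Subgroup A).map A.subtype with hSA
      set SB := (S' : Subgroup B).map B.subtype with hSB
      rw [map_mul, mul_smul, conj_smul_self_of_mem (norm A hA S ha)] at hg'
      have heq : SA = SB := by
        have h1 := congrArg (MulAut.conj b⁻¹ • ·) hg'
        simp only [← mul_smul, ← map_mul, inv_mul_cancel, map_one, one_smul] at h1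
        rwa [conj_smul_self_of_mem (norm B hB S' (inv_mem hb))] at h1
      have hn : SA.Normal := by
        rw [← Subgroup.normalizer_eq_top_iff, eq_top_iff]
        intro y _
        obtain ⟨a', ha', b', hb', rfl⟩ := hAB y
        exact mul_mem (norm A hA S ha') (heq ▸ norm B hB S' hb')
      haveI := (Sylow.ofCard _ (cfull A S hcA)).unique_of_normal hn
      rw [Subsingleton.elim P (Sylow.ofCard _ (cfull A S hcA)), Sylow.coe_ofCard]
      exact hn

end CfsgLib.SolvStruct
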