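import Cfsg.Agent.Lib.Components.FStar
import Cfsg.Agent.Lib.Core.MinNormal

/-!
# Core-free maximal subgroups and primitive solvable groups
-/

set_option autoImplicit false
set_option linter.style.haveILetI false

open scoped Pointwise

namespace CfsgLib.SolvStruct

open Subgroup

variable {G : Type*} [Group G]

section CoreFree

variable {U : Subgroup G} (hU : IsCoatom U) (hcore : U.normalCore = ⊥)

include hcore in
theorem eq_bot_of_normal_le {N : Subgroup G} (hN : N.Normal) (h : N ≤ U) : N = ⊥ :=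
  haveI := hN
  le_bot_iff.mp (hcore ▸ Subgroup.normal_le_normalCore.mpr h)

include hU hcore in
theorem sup_eq_top_of_normal {N : Subgroup G} (hN : N.Normal) (h : N ≠ ⊥) : U ⊔ N = ⊤ :=
  hU.2 _ (lt_of_le_of_ne le_sup_left fun he => h (eq_bot_of_normal_le hcore hN (he ▸ le_sup_right)))

include hU hcore in
theorem centralizer_inf_eq_bot {N : Subgroup G} (hN : N.Normal) (h : N ≠ ⊥) :
    Subgroup.centralizer (N : Set G) ⊓ U = ⊥ := by
  haveI := hN
  refine eq_bot_of_normal_le hcore ?_ inf_le_right
  rw [← Subgroup.normalizer_eq_top_iff, eq_top_iff, ← sup_eq_top_of_normal hU hcore hN h]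
  refine sup_le ?_ ?_
  · exact (le_inf Subgroup.le_normalizer_of_normal Subgroup.le_normalizer).trans
      Subgroup.inf_normalizer_le_normalizer_inf
  · refine le_trans ?_ (Subgroup.centralizer_le_normalizer _)
    intro n hn
    rw [Subgroup.mem_centralizer_iff]
    exact fun x hx => (Subgroup.mem_centralizer_iff.mp (Subgroup.mem_inf.mp hx).1 n hn).symm

include hU hcore in
theorem eq_centralizer_of_le {N K : Subgroup G} (hN : N.Normal) (h : N ≠ ⊥) (hK : K.Normal)
    (hK0 : K ≠ ⊥) (hle : K ≤ Subgroup.centralizer (N : Set G)) :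
    K = Subgroup.centralizer (N : Set G) := by
  refine le_antisymm hle fun x hx => ?_
  haveI := hK
  obtain ⟨u, hu, k, hk, rfl⟩ := Subgroup.mem_sup_of_normal_right.mp
    (show x ∈ U ⊔ K by rw [sup_eq_top_of_normal hU hcore hK hK0]; trivial)
  have hu' : u ∈ Subgroup.centralizer (N : Set G) ⊓ U :=
    Subgroup.mem_inf.mpr ⟨(Subgroup.mul_mem_cancel_right _ (hle hk)).mp hx, hu⟩
  rw [centralizer_inf_eq_bot hU hcore hN h, Subgroup.mem_bot] at hu'
  rwa [hu', one_mul]

include hU hcore in
theorem centralizer_minimal_or_bot {N : Subgroup G} (hN : N.Normal) (h : N ≠ ⊥) :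
    ∀ K : Subgroup G, K.Normal → K ≤ Subgroup.centralizer (N : Set G) →
      K = ⊥ ∨ K = Subgroup.centralizer (N : Set G) := fun K hK hle => by
  by_cases hK0 : K = ⊥
  · exact Or.inl hK0
  · exact Or.inr (eq_centralizer_of_le hU hcore hN h hK hK0 hle)

/-- An abelian normal subgroup is self-centralizing, minimal normal and a complement of `U`. -/
theorem abelian_normal_structure {U N : Subgroup G} (hU : IsCoatom U) (hcore : U.normalCore = ⊥)
    (hN : N.Normal) (h : N ≠ ⊥) (hc : IsMulCommutative N) :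
    Subgroup.centralizer (N : Set G) = N ∧ Subgroup.IsComplement' N U ∧
      ∀ K : Subgroup G, K.Normal → K ≤ N → K = ⊥ ∨ K = N := by
  have hle : N ≤ Subgroup.centralizer (N : Set G) :=
    Subgroup.le_centralizer_iff_isMulCommutative.mpr hc
  have heq := eq_centralizer_of_le hU hcore hN h hN h hle
  haveI := hN
  refine ⟨heq.symm, ?_, fun K hK hKN => ?_⟩
  · refine Subgroup.isComplement'_of_disjoint_and_mul_eq_univ ?_ ?_
    · rw [disjoint_iff, heq, centralizer_inf_eq_bot hU hcore hN h]
    · rw [← Subgroup.normal_mul, sup_comm, sup_eq_top_of_normal hU hcore hN h, Subgroup.coe_top]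
  · rcases centralizer_minimal_or_bot hU hcore hN h K hK (hKN.trans hle) with h' | h'
    · exact Or.inl h'
    · exact Or.inr (h'.trans heq.symm)

end CoreFree

theorem normal_map_subtype_of_le {M U : Subgroup G} (h : M ≤ Subgroup.centralizer (M : Set G))
    (hsup : M ⊔ U = ⊤) {K : Subgroup G} (hKM : K ≤ M)
    (hK : U ≤ Subgroup.normalizer (K : Set G)) : K.Normal := by
  rw [← Subgroup.normalizer_eq_top_iff, eq_top_iff, ← hsup]
  exact sup_le ((h.trans (Subgroup.centralizer_le hKM)).trans
    (Subgroup.centralizer_le_normalizer _)) hK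

/-- In a solvable group with a core-free maximal subgroup a minimal normal subgroup is the unique
one: it is an elementary abelian `p`-group equal to its centralizer. -/
theorem solvable_minimal_normal [Finite G] [Group.IsSolvable G] {U M : Subgroup G}
    (hU : IsCoatom U) (hcore : U.normalCore = ⊥) (hM : M.Normal) (hM0 : M ≠ ⊥)
    (hmin : ∀ K : Subgroup G, K.Normal → K ≤ M → K = ⊥ ∨ K = M) :
    ∃ p : ℕ, p.Prime ∧ IsPGroup p M ∧ IsMulCommutative M ∧ (∀ x ∈ M, x ^ p = 1) ∧
      Subgroup.centralizer (M : Set G) = M ∧ Subgroup.IsComplement' M U := by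
  haveI := hM
  obtain ⟨p, hp, h1, h2, h3⟩ :=
    CfsgLib.Core.isPGroup_of_minimal_normal M inferInstance hM0 hmin
  obtain ⟨h4, h5, -⟩ := abelian_normal_structure hU hcore hM hM0 h2
  exact ⟨p, hp, h1, h2, h3, h4, h5⟩

theorem minimal_normal_commutes_fitting [Finite G] {M : Subgroup G} (hM : M.Normal) (hM0 : M ≠ ⊥)
    (hmin : ∀ K : Subgroup G, K.Normal → K ≤ M → K = ⊥ ∨ K = M) :
    Cfsg.fittingSubgroup G ≤ Subgroup.centralizer (M : Set G) := by
  haveI := hM
  set F := Cfsg.fittingSubgroup G with hF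
  haveI : F.Normal := CfsgLib.Components.fitting_normal
  haveI hFn : Group.IsNilpotent F := CfsgLib.Components.fitting_isNilpotent
  rw [← Subgroup.commutator_eq_bot_iff_le_centralizer]
  rcases hmin ⁅F, M⁆ inferInstance (Subgroup.commutator_le_right F M) with h | h
  · exact h
  · exfalso
    obtain ⟨n, hn⟩ := (Subgroup.isNilpotent_iff_lowerCentralSeries F).mp hFn
    have key : ∀ k : ℕ, M ≤ F.lowerCentralSeries k := by
      intro k
      induction k with
      | zero => exact h ▸ Subgroup.commutator_le_left F M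
      | succ k ih =>
        rw [Subgroup.lowerCentralSeries_succ, ← h, Subgroup.commutator_comm F M]
        exact Subgroup.commutator_mono ih le_rfl
    exact hM0 (le_bot_iff.mp ((key n).trans hn.le))

/-- Galois: core-free maximal subgroups of a finite solvable group are conjugate. -/
theorem coreFree_maximal_conjugate [Finite G] [Group.IsSolvable G] {U V : Subgroup G}
    (hU : IsCoatom U) (hV : IsCoatom V) (hUc : U.normalCore = ⊥) (hVc : V.normalCore = ⊥) :
    ∃ g : G, MulAut.conj g • U = V := by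
  haveI : Nontrivial G := by
    by_contra h
    rw [not_nontrivial_iff_subsingleton] at h
    exact hU.1 (Subsingleton.elim _ _)
  obtain ⟨N, hNn, hN0, hNmin⟩ := CfsgLib.Components.exists_minimal_normal (G := G)
  haveI := hNn
  obtain ⟨p, hp, hNp, hNc, -, hCN, hNU⟩ := solvable_minimal_normal hU hUc hNn hN0 hNmin
  obtain ⟨-, hNV, -⟩ := abelian_normal_structure hV hVc hNn hN0 hNc
  by_cases hNtop : N = ⊤
  · subst hNtop
    have hU0 : U = ⊥ := Subgroup.isComplement'_top_left.mp hNU
    have hV0 : V = ⊥ := Subgroup.isComplement'_top_left.mp hNV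
    exact ⟨1, by rw [hU0, hV0, Subgroup.smul_bot]⟩
  haveI : Nontrivial (G ⧸ N) := by
    by_contra h
    rw [not_nontrivial_iff_subsingleton] at h
    exact hNtop (top_le_iff.mp fun x _ => (QuotientGroup.eq_one_iff x).mp (Subsingleton.elim _ _))
  obtain ⟨Mb, hMbn, hMb0, hMbmin⟩ := CfsgLib.Components.exists_minimal_normal (G := G ⧸ N)
  haveI := hMbn
  obtain ⟨q, hq, hMbq, -, -⟩ :=
    CfsgLib.Core.isPGroup_of_minimal_normal Mb inferInstance hMb0 hMbmin
  haveI := Fact.mk hp
  haveI := Fact.mk hq
  set M := Mb.comap (QuotientGroup.mk' N) with hM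
  have hNM : N ≤ M := by
    rw [hM]; conv_lhs => rw [← QuotientGroup.ker_mk' N]
    exact Subgroup.ker_le_comap _ _
  have hMN : ¬ M ≤ N := fun h => hMb0 (by
    rw [← Subgroup.map_comap_eq_self_of_surjective (QuotientGroup.mk'_surjective N) Mb, ← hM,
      Subgroup.map_eq_bot_iff, QuotientGroup.ker_mk']
    exact h)
  haveI hMn : M.Normal := by rw [hM]; infer_instance
  obtain ⟨k, hk⟩ := hMbq.exists_card_eq
  obtain ⟨l, hl⟩ := hNp.exists_card_eq
  have hMcard : Nat.card M = Nat.card N * q ^ k := by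
    rw [hM, CfsgLib.Core.card_comap_mk' N Mb, hk]
  have hqp : q ≠ p := by
    rintro rfl
    apply hMN
    have hMq : IsPGroup q M := IsPGroup.of_card (n := l + k) (by rw [hMcard, hl, pow_add])
    exact (CfsgLib.Components.le_fitting hMn hMq.isNilpotent).trans
      ((minimal_normal_commutes_fitting hNn hN0 hNmin).trans hCN.le)
  have hcard : ∀ W : Subgroup G, Subgroup.IsComplement' N W →
      Nat.card ↥(M ⊓ W) = q ^ k := by
    intro W hW
    refine Nat.eq_of_mul_eq_mul_left (Nat.card_pos (α := N)) ?_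
    rw [← hMcard]
    have hsup : (M ⊓ W) ⊔ N = M := by
      refine le_antisymm (sup_le inf_le_left hNM) fun x hx => ?_
      obtain ⟨n, hn, w, hw, rfl⟩ := Subgroup.mem_sup_of_normal_left.mp
        (show x ∈ N ⊔ W by rw [hW.sup_eq_top]; trivial)
      exact mul_mem (Subgroup.mem_sup_right hn) (Subgroup.mem_sup_left
        (Subgroup.mem_inf.mpr ⟨(M.mul_mem_cancel_left (hNM hn)).mp hx, hw⟩))
    have := CfsgLib.Core.card_sup_of_disjoint (M ⊓ W) N Subgroup.le_normalizer_of_normal
      (le_bot_iff.mp ((inf_le_inf_right N inf_le_right).trans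
        (by rw [inf_comm]; exact hW.disjoint.le_bot)))
    rw [hsup] at this
    rw [this, mul_comm]
  have hsyl : ∀ W : Subgroup G, Subgroup.IsComplement' N W →
      ∃ P : Sylow q M, (P : Subgroup M).map M.subtype = M ⊓ W := by
    intro W hW
    have hc : Nat.card ((M ⊓ W).subgroupOf M) = q ^ k := by
      rw [Nat.card_congr (Subgroup.subgroupOfEquivOfLe inf_le_left).toEquiv, hcard W hW]
    refine ⟨Sylow.ofCard ((M ⊓ W).subgroupOf M) ?_, ?_⟩
    · rw [hc, hMcard, hl, Nat.factorization_mul (pow_ne_zero _ hp.ne_zero) (pow_ne_zero _ hq.ne_zero),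
        Finsupp.add_apply, hp.factorization_pow, hq.factorization_pow, Finsupp.single_apply,
        Finsupp.single_apply, if_neg hqp.symm, if_pos rfl, zero_add]
    · rw [Sylow.coe_ofCard]
      exact Subgroup.map_subgroupOf_eq_of_le inf_le_left
  obtain ⟨P, hP⟩ := hsyl U hNU
  obtain ⟨Q, hQ⟩ := hsyl V hNV
  obtain ⟨m, hm⟩ := MulAction.exists_smul_eq M P Q
  have hconj : MulAut.conj (m : G) • (M ⊓ U) = M ⊓ V := by
    rw [← hP, ← hQ, ← hm, Sylow.coe_subgroup_smul, CfsgLib.Components.conj_smul_eq_map,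
      CfsgLib.Components.conj_smul_eq_map, Subgroup.map_map, Subgroup.map_map]
    rfl
  refine ⟨m, ?_⟩
  have hnorm : ∀ W : Subgroup G, W ≤ Subgroup.normalizer ((M ⊓ W : Subgroup G) : Set G) :=
    fun W => (le_inf Subgroup.le_normalizer_of_normal Subgroup.le_normalizer).trans
      Subgroup.inf_normalizer_le_normalizer_inf
  have hVne : M ⊓ V ≠ ⊥ := fun h => by
    have h1 := hcard V hNV
    rw [h, Subgroup.card_bot] at h1
    have h2 : Nat.card M = Nat.card N := by rw [hMcard, ← h1, mul_one]
    exact hMN (Subgroup.eq_of_le_of_card_ge hNM h2.le).ge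
  have hNG : Subgroup.normalizer ((M ⊓ V : Subgroup G) : Set G) = V := by
    by_contra hne
    refine hVne (eq_bot_of_normal_le hVc ?_ inf_le_right)
    rw [← Subgroup.normalizer_eq_top_iff]
    exact hV.2 _ (lt_of_le_of_ne (hnorm V) (Ne.symm hne))
  have hgU : MulAut.conj (m : G) • U ≤ V := by
    conv_rhs => rw [← hNG]
    rw [← hconj]
    exact CfsgLib.Components.le_normalizer_smul (hnorm U) _
  refine Subgroup.eq_of_le_of_card_ge hgU ?_
  rw [← Nat.card_congr (Subgroup.equivSMul (MulAut.conj (m : G)) U).toEquiv]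
  have h1 := hNU.card_mul
  have h2 := hNV.card_mul
  exact (Nat.eq_of_mul_eq_mul_left (Nat.card_pos (α := N)) (h2.trans h1.symm)).le

end CfsgLib.SolvStruct
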