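import Mathlib

/-!
# Permuting subgroups and Kegel's lemma on proper products

`Permutes A B` says that the product set `A * B` is a subgroup. The main result `kegel` is Kegel's
lemma: if all the products `A * Bˣ` are proper subgroups then a proper normal subgroup contains
`A` or `B`.
-/

set_option autoImplicit false

namespace CfsgLib.SolvStruct

open Pointwise

variable {G : Type*} [Group G]

/-- The product set `A * B` is the subgroup generated by `A` and `B`. -/
def Permutes (A B : Subgroup G) : Prop :=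
  ∀ g ∈ A ⊔ B, ∃ a ∈ A, ∃ b ∈ B, g = a * b

theorem Permutes.coe_sup {A B : Subgroup G} (h : Permutes A B) :
    ((A ⊔ B : Subgroup G) : Set G) = (A : Set G) * (B : Set G) := by
  ext g
  refine ⟨fun hg => ?_, ?_⟩
  · obtain ⟨a, ha, b, hb, rfl⟩ := h g hg
    exact Set.mul_mem_mul ha hb
  · rintro ⟨a, ha, b, hb, rfl⟩
    exact mul_mem (Subgroup.mem_sup_left ha) (Subgroup.mem_sup_right hb)

theorem permutes_of_coe_eq {A B S : Subgroup G} (h : (S : Set G) = (A : Set G) * (B : Set G)) :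
    A ⊔ B = S ∧ Permutes A B := by
  have hA : A ≤ S := fun a ha => by
    rw [← SetLike.mem_coe, h]
    exact ⟨a, ha, 1, B.one_mem, mul_one a⟩
  have hB : B ≤ S := fun b hb => by
    rw [← SetLike.mem_coe, h]
    exact ⟨1, A.one_mem, b, hb, one_mul b⟩
  have hsub : ∀ g ∈ S, ∃ a ∈ A, ∃ b ∈ B, g = a * b := fun g hg => by
    rw [← SetLike.mem_coe, h] at hg
    obtain ⟨a, ha, b, hb, rfl⟩ := hg
    exact ⟨a, ha, b, hb, rfl⟩
  refine ⟨le_antisymm (sup_le hA hB) fun g hg => ?_, fun g hg => hsub g (sup_le hA hB hg)⟩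
  obtain ⟨a, ha, b, hb, rfl⟩ := hsub g hg
  exact mul_mem (Subgroup.mem_sup_left ha) (Subgroup.mem_sup_right hb)

theorem exists_coe_eq_iff_permutes {A B : Subgroup G} :
    (∃ S : Subgroup G, (S : Set G) = (A : Set G) * (B : Set G)) ↔ Permutes A B :=
  ⟨fun ⟨_, h⟩ => (permutes_of_coe_eq h).2, fun h => ⟨A ⊔ B, h.coe_sup⟩⟩

theorem permutes_of_swap {A B : Subgroup G}
    (h : ∀ a ∈ A, ∀ b ∈ B, ∃ a' ∈ A, ∃ b' ∈ B, b * a = a' * b') : Permutes A B := by
  let S : Subgroup G :=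
    { carrier := (A : Set G) * (B : Set G)
      one_mem' := ⟨1, A.one_mem, 1, B.one_mem, one_mul 1⟩
      mul_mem' := by
        rintro _ _ ⟨a, ha, b, hb, rfl⟩ ⟨c, hc, d, hd, rfl⟩
        obtain ⟨a', ha', b', hb', e⟩ := h c hc b hb
        refine ⟨a * a', mul_mem ha ha', b' * d, mul_mem hb' hd, ?_⟩
        show (a * a') * (b' * d) = (a * b) * (c * d)
        calc (a * a') * (b' * d) = a * (a' * b') * d := by simp only [mul_assoc]
          _ = a * (b * c) * d := by rw [e]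
          _ = (a * b) * (c * d) := by simp only [mul_assoc]
      inv_mem' := by
        rintro _ ⟨a, ha, b, hb, rfl⟩
        obtain ⟨a', ha', b', hb', e⟩ := h a⁻¹ (inv_mem ha) b⁻¹ (inv_mem hb)
        refine ⟨a', ha', b', hb', ?_⟩
        show a' * b' = (a * b)⁻¹
        rw [← e, mul_inv_rev] }
  exact (permutes_of_coe_eq (S := S) rfl).2

theorem Permutes.swap {A B : Subgroup G} (h : Permutes A B) {a b : G} (ha : a ∈ A) (hb : b ∈ B) :
    ∃ a' ∈ A, ∃ b' ∈ B, b * a = a' * b' :=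
  h _ (mul_mem (Subgroup.mem_sup_right hb) (Subgroup.mem_sup_left ha))

theorem Permutes.symm {A B : Subgroup G} (h : Permutes A B) : Permutes B A := by
  intro g hg
  obtain ⟨a, ha, b, hb, e⟩ := h g⁻¹ (inv_mem (sup_comm B A ▸ hg))
  exact ⟨b⁻¹, inv_mem hb, a⁻¹, inv_mem ha, by rw [← mul_inv_rev, ← e, inv_inv]⟩

theorem Permutes.sup_left [Finite G] {A C B : Subgroup G} (hA : Permutes A B) (hC : Permutes C B) :
    Permutes (A ⊔ C) B := by
  refine permutes_of_swap ?_
  intro s hs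
  have hs' : s ∈ Submonoid.closure ((A : Set G) ∪ (C : Set G)) := by
    rw [← Subgroup.closure_toSubmonoid_of_finite, Subgroup.mem_toSubmonoid]
    simpa [Subgroup.closure_union] using hs
  clear hs
  induction hs' using Submonoid.closure_induction with
  | mem x hx =>
    intro b hb
    rcases hx with hx | hx
    · obtain ⟨a', ha', b', hb', e⟩ := hA.swap hx hb
      exact ⟨a', Subgroup.mem_sup_left ha', b', hb', e⟩
    · obtain ⟨a', ha', b', hb', e⟩ := hC.swap hx hb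
      exact ⟨a', Subgroup.mem_sup_right ha', b', hb', e⟩
  | one => exact fun b hb => ⟨1, one_mem _, b, hb, by rw [mul_one, one_mul]⟩
  | mul x y _ _ ihx ihy =>
    intro b hb
    obtain ⟨x', hx', b', hb', e⟩ := ihx b hb
    obtain ⟨y', hy', b'', hb'', e'⟩ := ihy b' hb'
    exact ⟨x' * y', mul_mem hx' hy', b'', hb'',
      by rw [← mul_assoc, e, mul_assoc, e', mul_assoc]⟩

theorem mem_conj_smul {A : Subgroup G} {x g : G} :
    g ∈ MulAut.conj x • A ↔ x⁻¹ * g * x ∈ A := by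
  rw [Subgroup.mem_pointwise_smul_iff_inv_smul_mem, MulAut.smul_def, MulAut.conj_inv_apply]

theorem Permutes.conj {A B : Subgroup G} (h : Permutes A B) (x : G) :
    Permutes (MulAut.conj x • A) (MulAut.conj x • B) := by
  intro g hg
  rw [← Subgroup.smul_sup, mem_conj_smul] at hg
  obtain ⟨a, ha, b, hb, e⟩ := h _ hg
  refine ⟨x * a * x⁻¹, ?_, x * b * x⁻¹, ?_, ?_⟩
  · rw [mem_conj_smul]; simpa [mul_assoc] using ha
  · rw [mem_conj_smul]; simpa [mul_assoc] using hb
  · calc g = x * (x⁻¹ * g * x) * x⁻¹ := by group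
      _ = x * (a * b) * x⁻¹ := by rw [e]
      _ = x * a * x⁻¹ * (x * b * x⁻¹) := by group

/-- A factorisation survives replacing the right factor by a conjugate. -/
theorem mul_conj_eq_univ {A B : Subgroup G} (h : ∀ g : G, ∃ a ∈ A, ∃ b ∈ B, g = a * b) (x : G) :
    ∀ g : G, ∃ a ∈ A, ∃ b ∈ MulAut.conj x • B, g = a * b := by
  obtain ⟨a₀, ha₀, b₀, hb₀, rfl⟩ := h x
  intro g
  obtain ⟨a, ha, b, hb, e⟩ := h (g * a₀)
  refine ⟨a * a₀⁻¹, mul_mem ha (inv_mem ha₀), a₀ * b * a₀⁻¹, ?_, ?_⟩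
  · rw [mem_conj_smul]
    have : (a₀ * b₀)⁻¹ * (a₀ * b * a₀⁻¹) * (a₀ * b₀) = b₀⁻¹ * b * b₀ := by group
    rw [this]
    exact mul_mem (mul_mem (inv_mem hb₀) hb) hb₀
  · calc g = g * a₀ * a₀⁻¹ := by group
      _ = a * b * a₀⁻¹ := by rw [e]
      _ = a * a₀⁻¹ * (a₀ * b * a₀⁻¹) := by group

theorem factor_symm {A B : Subgroup G} (h : ∀ g : G, ∃ a ∈ A, ∃ b ∈ B, g = a * b) :
    ∀ g : G, ∃ b ∈ B, ∃ a ∈ A, g = b * a := by
  intro g
  obtain ⟨a, ha, b, hb, e⟩ := h g⁻¹
  exact ⟨b⁻¹, inv_mem hb, a⁻¹, inv_mem ha, by rw [← mul_inv_rev, ← e, inv_inv]⟩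

theorem factor_map {H : Type*} [Group H] {f : G →* H} (hf : Function.Surjective f)
    {A B : Subgroup G} (h : ∀ g : G, ∃ a ∈ A, ∃ b ∈ B, g = a * b) :
    ∀ y : H, ∃ a ∈ A.map f, ∃ b ∈ B.map f, y = a * b := by
  intro y
  obtain ⟨g, rfl⟩ := hf y
  obtain ⟨a, ha, b, hb, rfl⟩ := h g
  exact ⟨f a, ⟨a, ha, rfl⟩, f b, ⟨b, hb, rfl⟩, map_mul f a b⟩

theorem factor_inf {A B M : Subgroup G} (h : ∀ g : G, ∃ a ∈ A, ∃ b ∈ B, g = a * b) (hA : A ≤ M) :
    ∀ g : M, ∃ a ∈ A.subgroupOf M, ∃ b ∈ (B ⊓ M).subgroupOf M, g = a * b := by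
  intro g
  obtain ⟨a, ha, b, hb, e⟩ := h g
  have hbM : b ∈ M := by
    have : b = a⁻¹ * g := by rw [e, inv_mul_cancel_left]
    rw [this]
    exact mul_mem (inv_mem (hA ha)) g.2
  exact ⟨⟨a, hA ha⟩, ha, ⟨b, hbM⟩, ⟨hb, hbM⟩, Subtype.ext e⟩

/-- **Kegel's lemma.** -/
theorem kegel [Finite G] (A B : Subgroup G)
    (h : ∀ x : G, Permutes A (MulAut.conj x • B) ∧ A ⊔ MulAut.conj x • B ≠ ⊤) :
    ∃ N : Subgroup G, N.Normal ∧ N ≠ ⊤ ∧ (A ≤ N ∨ B ≤ N) := by
  induction hn : Nat.card G - Nat.card A using Nat.strong_induction_on generalizing A with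
  | _ n ih =>
    subst hn
    have hAtop : A ≠ ⊤ := fun e => (h 1).2 (by rw [e, top_sup_eq])
    by_cases hall : ∀ x : G, MulAut.conj x • B ≤ Subgroup.normalizer (A : Set G)
    · by_cases hN : Subgroup.normalizer (A : Set G) = ⊤
      · exact ⟨A, Subgroup.normalizer_eq_top_iff.mp hN, hAtop, Or.inl le_rfl⟩
      · refine ⟨Subgroup.normalClosure (B : Set G), inferInstance, fun e => hN ?_,
          Or.inr Subgroup.le_normalClosure⟩
        rw [eq_top_iff, ← e, Subgroup.normalClosure, Subgroup.closure_le]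
        intro z hz
        rw [Group.mem_conjugatesOfSet_iff] at hz
        obtain ⟨y, hy, hc⟩ := hz
        obtain ⟨c, rfl⟩ := isConj_iff.mp hc
        refine hall c ?_
        rw [mem_conj_smul]
        simpa [mul_assoc] using hy
    push Not at hall
    obtain ⟨x, hx⟩ := hall
    obtain ⟨b, hb, hbn⟩ := SetLike.not_le_iff_exists.mp hx
    set A₂ := A ⊔ MulAut.conj b • A with hA₂
    have hlt : A < A₂ := by
      refine lt_of_le_of_ne le_sup_left fun e => hbn ?_
      have h1 : MulAut.conj b • A ≤ A := le_sup_right.trans e.ge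
      have h2 : MulAut.conj b • A = A :=
        Subgroup.eq_of_le_of_card_ge h1 (le_of_eq (Nat.card_congr
          (Subgroup.equivSMul (MulAut.conj b) A).toEquiv))
      exact Subgroup.mem_normalizer_iff_map_conj_eq.mpr h2
    have hH : A₂ ≤ A ⊔ MulAut.conj x • B := by
      refine sup_le le_sup_left fun g hg => ?_
      rw [mem_conj_smul] at hg
      have hb' : b ∈ A ⊔ MulAut.conj x • B := Subgroup.mem_sup_right hb
      have := mul_mem (mul_mem hb' (Subgroup.mem_sup_left hg)) (inv_mem hb')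
      simpa [mul_assoc] using this
    have h2 : ∀ y : G, Permutes A₂ (MulAut.conj y • B) ∧ A₂ ⊔ MulAut.conj y • B ≠ ⊤ := by
      intro y
      have hp : Permutes (MulAut.conj b • A) (MulAut.conj y • B) := by
        have h3 := (h (b⁻¹ * y)).1.conj b
        rwa [← mul_smul, ← map_mul, mul_inv_cancel_left] at h3
      refine ⟨(h y).1.sup_left hp, fun e => (h x).2 ?_⟩
      have hfact : ∀ g : G, ∃ a ∈ A ⊔ MulAut.conj x • B, ∃ c ∈ MulAut.conj y • B, g = a * c := by
        intro g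
        obtain ⟨a, ha, c, hc, rfl⟩ := ((h y).1.sup_left hp) g (e ▸ Subgroup.mem_top g)
        exact ⟨a, hH ha, c, hc, rfl⟩
      have h4 := mul_conj_eq_univ hfact (x * y⁻¹)
      rw [← mul_smul, ← map_mul, inv_mul_cancel_right] at h4
      rw [eq_top_iff]
      intro g _
      obtain ⟨a, ha, c, hc, rfl⟩ := h4 g
      exact mul_mem ha (Subgroup.mem_sup_right hc)
    have hcard : Nat.card A < Nat.card A₂ := by
      refine lt_of_le_of_ne (Subgroup.card_le_of_le hlt.le) fun e => hlt.ne ?_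
      exact Subgroup.eq_of_le_of_card_ge hlt.le e.ge
    have hle : Nat.card A₂ ≤ Nat.card G := Subgroup.card_le_card_group _
    obtain ⟨N, hN, hNt, hor⟩ := ih _ (by omega) A₂ h2 rfl
    exact ⟨N, hN, hNt, hor.imp_left hlt.le.trans⟩

end CfsgLib.SolvStruct
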