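import Mathlib
import Cfsg.Agent.Lib.Core.Nilpotent
import Cfsg.Agent.Lib.Core.Cores
import Cfsg.Agent.Lib.Core.Hall
import Cfsg.Agent.Lib.SolvStruct.Permute

/-!
# Nilpotent factors: auxiliary facts

* `ppart A p`: the subgroup generated by the elements of `A` of order prime to `p`;
* elements of `A` of coprime orders commute when `A` is nilpotent;
* counting for factorised groups `G = AB` with coprime factors.
-/

set_option autoImplicit false
set_option linter.style.haveILetI false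

namespace CfsgLib.SolvStruct

open Pointwise

variable {G : Type*} [Group G]

theorem commute_of_coprime_orderOf_of_isNilpotent {N : Type*} [Group N] [Finite N]
    [Group.IsNilpotent N] {x y : N} (h : (orderOf x).Coprime (orderOf y)) : Commute x y := by
  classical
  let e := Sylow.directProductOfNormal (G := N)
    (fun P => P.normal_of_normalizerCondition Group.normalizerCondition_of_isNilpotent)
  obtain ⟨u, rfl⟩ := e.surjective x
  obtain ⟨v, rfl⟩ := e.surjective y
  rw [e.orderOf_eq, e.orderOf_eq] at h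
  refine Commute.map ?_ e.toMonoidHom
  show u * v = v * u
  funext p P
  haveI := Fact.mk (Nat.prime_of_mem_primeFactors p.2)
  let f : (∀ p : (Nat.card N).primeFactors, ∀ P : Sylow p N, ↥(P : Subgroup N)) →*
      ↥(P : Subgroup N) :=
    (Pi.evalMonoidHom (fun P : Sylow p N => ↥(P : Subgroup N)) P).comp
      (Pi.evalMonoidHom (fun p : (Nat.card N).primeFactors =>
        ∀ P : Sylow p N, ↥(P : Subgroup N)) p)
  show f u * f v = f v * f u
  have hco : (orderOf (f u)).Coprime (orderOf (f v)) :=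
    (h.coprime_dvd_left (orderOf_map_dvd f u)).coprime_dvd_right (orderOf_map_dvd f v)
  obtain ⟨i, hi⟩ := IsPGroup.iff_orderOf.mp P.isPGroup' (f u)
  obtain ⟨j, hj⟩ := IsPGroup.iff_orderOf.mp P.isPGroup' (f v)
  rcases Nat.eq_zero_or_pos i with h0 | h0
  · rw [h0, pow_zero, orderOf_eq_one_iff] at hi
    rw [hi, one_mul, mul_one]
  rcases Nat.eq_zero_or_pos j with h1 | h1
  · rw [h1, pow_zero, orderOf_eq_one_iff] at hj
    rw [hj, one_mul, mul_one]
  exfalso
  rw [hi, hj, Nat.coprime_pow_left_iff h0, Nat.coprime_pow_right_iff h1, Nat.coprime_self] at hco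
  exact (Fact.out : Nat.Prime (p : ℕ)).ne_one hco

theorem commute_of_mem_nilpotent [Finite G] {A : Subgroup G} (hA : Group.IsNilpotent A) {x y : G}
    (hx : x ∈ A) (hy : y ∈ A) (h : (orderOf x).Coprime (orderOf y)) : Commute x y := by
  haveI := hA
  have := commute_of_coprime_orderOf_of_isNilpotent (x := (⟨x, hx⟩ : A)) (y := ⟨y, hy⟩)
    (by rwa [Subgroup.orderOf_mk, Subgroup.orderOf_mk])
  exact congrArg Subtype.val this

/-- The subgroup generated by the elements of `A` of order prime to `p`. -/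
def ppart (A : Subgroup G) (p : ℕ) : Subgroup G :=
  Subgroup.closure {x | x ∈ A ∧ ¬ p ∣ orderOf x}

theorem ppart_le (A : Subgroup G) (p : ℕ) : ppart A p ≤ A :=
  (Subgroup.closure_le _).mpr fun _ h => h.1

theorem mem_ppart {A : Subgroup G} {p : ℕ} {x : G} (hx : x ∈ A) (h : ¬ p ∣ orderOf x) :
    x ∈ ppart A p :=
  Subgroup.subset_closure ⟨hx, h⟩

theorem conj_ppart (g : G) (A : Subgroup G) (p : ℕ) :
    MulAut.conj g • ppart A p = ppart (MulAut.conj g • A) p := by
  show (Subgroup.closure _).map (MulAut.conj g).toMonoidHom = _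
  rw [MonoidHom.map_closure, ppart]
  refine congrArg Subgroup.closure (Set.ext fun x => ⟨?_, ?_⟩)
  · rintro ⟨y, ⟨hy, hp⟩, rfl⟩
    refine ⟨Subgroup.smul_mem_pointwise_smul y (MulAut.conj g) A hy, ?_⟩
    show ¬ p ∣ orderOf (MulAut.conj g y)
    rwa [MulEquiv.orderOf_eq]
  · rintro ⟨hx, hp⟩
    rw [mem_conj_smul] at hx
    refine ⟨g⁻¹ * x * g, ⟨hx, ?_⟩, ?_⟩
    · have : g⁻¹ * x * g = MulAut.conj g⁻¹ x := by simp [MulAut.conj_apply]
      rwa [this, MulEquiv.orderOf_eq]
    · show MulAut.conj g (g⁻¹ * x * g) = x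
      simp [MulAut.conj_apply, mul_assoc]

theorem card_conj (g : G) (A : Subgroup G) :
    Nat.card (MulAut.conj g • A : Subgroup G) = Nat.card A :=
  (Nat.card_congr (Subgroup.equivSMul (MulAut.conj g) A).toEquiv).symm

theorem mem_normalizer_of_conj_le [Finite G] {A : Subgroup G} {g : G}
    (h : MulAut.conj g • A ≤ A) : g ∈ Subgroup.normalizer (A : Set G) :=
  Subgroup.mem_normalizer_iff_map_conj_eq.mpr
    (Subgroup.eq_of_le_of_card_ge h (card_conj g A).ge)

theorem conj_smul_self_of_mem {A : Subgroup G} {a : G}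
    (ha : a ∈ Subgroup.normalizer (A : Set G)) : MulAut.conj a • A = A :=
  Subgroup.mem_normalizer_iff_map_conj_eq.mp ha

theorem le_normalizer_ppart [Finite G] (A : Subgroup G) (p : ℕ) :
    A ≤ Subgroup.normalizer (ppart A p : Set G) := by
  intro a ha
  refine mem_normalizer_of_conj_le ?_
  rw [conj_ppart, conj_smul_self_of_mem (Subgroup.le_normalizer ha)]

theorem not_dvd_of_isPGroup [Finite G] {p : ℕ} [Fact p.Prime] {R : Subgroup G} (hR : IsPGroup p R)
    {x : G} (hx : x ∈ R) {q : ℕ} (hq : q.Prime) (hne : q ≠ p) : ¬ q ∣ orderOf x := by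
  obtain ⟨i, hi⟩ := IsPGroup.iff_orderOf.mp hR ⟨x, hx⟩
  rw [Subgroup.orderOf_mk] at hi
  rw [hi]
  intro hd
  exact hne ((Nat.prime_dvd_prime_iff_eq hq Fact.out).mp (hq.dvd_of_dvd_pow hd))

theorem ppart_le_centralizer [Finite G] {A R : Subgroup G} (hA : Group.IsNilpotent A) {p : ℕ}
    [Fact p.Prime] (hR : IsPGroup p R) (hRA : R ≤ A) :
    ppart A p ≤ Subgroup.centralizer (R : Set G) := by
  refine (Subgroup.closure_le _).mpr ?_
  rintro x ⟨hx, hp⟩
  rw [SetLike.mem_coe, Subgroup.mem_centralizer_iff]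
  intro r hr
  refine commute_of_mem_nilpotent hA (hRA hr) hx ?_
  obtain ⟨i, hi⟩ := IsPGroup.iff_orderOf.mp hR ⟨r, hr⟩
  rw [Subgroup.orderOf_mk] at hi
  rw [hi]
  exact Nat.Coprime.pow_left _ ((Fact.out : p.Prime).coprime_iff_not_dvd.mpr hp)

theorem le_of_ppart_le [Finite G] {A L : Subgroup G} {s t : ℕ} (hs : s.Prime) (ht : t.Prime)
    (hne : s ≠ t) (h1 : ppart A s ≤ L) (h2 : ppart A t ≤ L) : A ≤ L := by
  intro a ha
  obtain ⟨k, m, htm, hn⟩ := Nat.exists_eq_pow_mul_and_not_dvd (orderOf_pos a).ne' t ht.ne_one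
  have hu : a ^ (t ^ k) ∈ L := by
    refine h2 (mem_ppart (pow_mem ha _) fun hd => htm (hd.trans ?_))
    rw [orderOf_dvd_iff_pow_eq_one, ← pow_mul, ← hn, pow_orderOf_eq_one]
  have hv : a ^ m ∈ L := by
    refine h1 (mem_ppart (pow_mem ha _) fun hd => hne ?_)
    have h3 : orderOf (a ^ m) ∣ t ^ k := by
      rw [orderOf_dvd_iff_pow_eq_one, ← pow_mul, mul_comm, ← hn, pow_orderOf_eq_one]
    exact (Nat.prime_dvd_prime_iff_eq hs ht).mp (hs.dvd_of_dvd_pow (hd.trans h3))
  have hco : (t ^ k).Coprime m := Nat.Coprime.pow_left _ (ht.coprime_iff_not_dvd.mpr htm)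
  have hb := Nat.gcd_eq_gcd_ab (t ^ k) m
  rw [Nat.coprime_iff_gcd_eq_one.mp hco, Nat.cast_one] at hb
  have : a = (a ^ (t ^ k)) ^ Nat.gcdA (t ^ k) m * (a ^ m) ^ Nat.gcdB (t ^ k) m := by
    rw [← zpow_natCast a (t ^ k), ← zpow_natCast a m, ← zpow_mul, ← zpow_mul, ← zpow_add, ← hb,
      zpow_one]
  rw [this]
  exact mul_mem (zpow_mem hu _) (zpow_mem hv _)

/-- `z` is an element of prime order `p` in the centre of `A`. -/
structure IsCentralOrder (A : Subgroup G) (p : ℕ) (z : G) : Prop where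
  mem : z ∈ A
  comm : ∀ a ∈ A, Commute a z
  order : orderOf z = p

theorem IsCentralOrder.ne_one {A : Subgroup G} {p : ℕ} {z : G} (h : IsCentralOrder A p z)
    (hp : p.Prime) : z ≠ 1 := fun e => hp.ne_one (by rw [← h.order, e, orderOf_one])

theorem IsCentralOrder.le_centralizer {A : Subgroup G} {p : ℕ} {z : G} (h : IsCentralOrder A p z) :
    A ≤ Subgroup.centralizer ({z} : Set G) := fun a ha =>
  Subgroup.mem_centralizer_singleton_iff.mpr (h.comm a ha)

theorem IsCentralOrder.conj {A : Subgroup G} {p : ℕ} {z : G} (h : IsCentralOrder A p z) (g : G) :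
    IsCentralOrder (MulAut.conj g • A) p (g * z * g⁻¹) := by
  refine ⟨?_, ?_, ?_⟩
  · rw [mem_conj_smul]
    simpa [mul_assoc] using h.mem
  · intro a ha
    rw [mem_conj_smul] at ha
    have h2 := (h.comm _ ha).map (MulAut.conj g).toMonoidHom
    simpa [MulAut.conj_apply, mul_assoc] using h2
  · rw [← MulAut.conj_apply, MulEquiv.orderOf_eq, h.order]

theorem exists_isCentralOrder [Finite G] {A : Subgroup G} (hA : Group.IsNilpotent A) {p : ℕ}
    (hp : p.Prime) (hd : p ∣ Nat.card A) : ∃ z, IsCentralOrder A p z := by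
  haveI := hA
  haveI := Fact.mk hp
  obtain ⟨P⟩ : Nonempty (Sylow p A) := inferInstance
  haveI : (P : Subgroup A).Normal :=
    P.normal_of_normalizerCondition Group.normalizerCondition_of_isNilpotent
  have hP : (P : Subgroup A) ≠ ⊥ := P.ne_bot_of_dvd_card hd
  have hne := CfsgLib.Core.inf_center_ne_bot_of_isNilpotent (P : Subgroup A) hP
  have hpg : IsPGroup p ↥((P : Subgroup A) ⊓ Subgroup.center A) :=
    P.isPGroup'.to_le inf_le_left
  haveI : Nontrivial ↥((P : Subgroup A) ⊓ Subgroup.center A) :=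
    (Subgroup.nontrivial_iff_ne_bot _).mpr hne
  obtain ⟨n, hn0, hn⟩ := hpg.nontrivial_iff_card.mp inferInstance
  obtain ⟨x, hx⟩ := exists_prime_orderOf_dvd_card' p
    (G := ↥((P : Subgroup A) ⊓ Subgroup.center A)) (hn ▸ dvd_pow_self p (Nat.pos_iff_ne_zero.mp hn0))
  refine ⟨((x : A) : G), (x : A).2, fun a ha => ?_, ?_⟩
  · exact congrArg Subtype.val (Subgroup.mem_center_iff.mp x.2.2 ⟨a, ha⟩)
  · rw [Subgroup.orderOf_coe, Subgroup.orderOf_coe, hx]

/-- A factorised group with coprime factors has order `|A| |B|`. -/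
theorem card_of_factor [Finite G] {A B : Subgroup G} (hcop : (Nat.card A).Coprime (Nat.card B))
    (h : ∀ g : G, ∃ a ∈ A, ∃ b ∈ B, g = a * b) : Nat.card G = Nat.card A * Nat.card B := by
  have hd : A ⊓ B = ⊥ := Subgroup.inf_eq_bot_of_coprime hcop
  rw [← Nat.card_prod]
  refine (Nat.card_congr (Equiv.ofBijective (fun x : A × B => (x.1 : G) * x.2) ⟨?_, ?_⟩)).symm
  · exact Subgroup.mul_injective_of_disjoint (disjoint_iff.mpr hd)
  · intro g
    obtain ⟨a, ha, b, hb, rfl⟩ := h g
    exact ⟨(⟨a, ha⟩, ⟨b, hb⟩), rfl⟩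

/-- A factorised subgroup contains every normal subgroup of the right order inside the left
factor. -/
theorem le_left_factor [Finite G] {A B T R : Subgroup G}
    (hcop : (Nat.card A).Coprime (Nat.card B))
    (hfac : ∀ g ∈ T, ∃ a ∈ A ⊓ T, ∃ b ∈ B ⊓ T, g = a * b) (hRT : R ≤ T)
    (hRn : T ≤ Subgroup.normalizer (R : Set G)) (hR : (Nat.card R).Coprime (Nat.card B)) :
    R ≤ A := by
  have hA' : Nat.card ((A ⊓ T).subgroupOf T) = Nat.card (A ⊓ T : Subgroup G) :=
    Nat.card_congr (Subgroup.subgroupOfEquivOfLe inf_le_right).toEquiv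
  have hB' : Nat.card ((B ⊓ T).subgroupOf T) = Nat.card (B ⊓ T : Subgroup G) :=
    Nat.card_congr (Subgroup.subgroupOfEquivOfLe inf_le_right).toEquiv
  have hT : Nat.card T =
      Nat.card ((A ⊓ T).subgroupOf T) * Nat.card ((B ⊓ T).subgroupOf T) := by
    refine card_of_factor ?_ ?_
    · rw [hA', hB']
      exact (hcop.coprime_dvd_left (Subgroup.card_dvd_of_le inf_le_left)).coprime_dvd_right
        (Subgroup.card_dvd_of_le inf_le_left)
    · intro g
      obtain ⟨a, ha, b, hb, e⟩ := hfac g g.2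
      exact ⟨⟨a, ha.2⟩, ha, ⟨b, hb.2⟩, hb, Subtype.ext e⟩
  haveI : (R.subgroupOf T).Normal := Subgroup.normal_subgroupOf_of_le_normalizer hRn
  have hidx : ((A ⊓ T).subgroupOf T).index = Nat.card (B ⊓ T : Subgroup G) := by
    refine Nat.eq_of_mul_eq_mul_left (Nat.card_pos (α := (A ⊓ T).subgroupOf T)) ?_
    rw [Subgroup.card_mul_index, hT, hB']
  have h1 : R.subgroupOf T ≤ (A ⊓ T).subgroupOf T := by
    refine CfsgLib.Core.le_of_coprime_index Subgroup.le_normalizer_of_normal ?_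
    rw [hidx, Nat.card_congr (Subgroup.subgroupOfEquivOfLe hRT).toEquiv]
    exact hR.coprime_dvd_right (Subgroup.card_dvd_of_le inf_le_left)
  intro x hx
  exact (Subgroup.mem_subgroupOf.mp (h1 (x := ⟨x, hRT hx⟩) hx)).1

end CfsgLib.SolvStruct
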