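import Cfsg.Agent.Lib.SolvStruct.Chain
import Mathlib.GroupTheory.IndexNormal
import Mathlib.GroupTheory.SchurZassenhaus

/-!
# Structure of finite supersolvable groups
-/

set_option autoImplicit false
set_option linter.style.haveILetI false

open scoped commutatorElement

namespace CfsgLib.SolvStruct

open Subgroup

variable {G : Type*} [Group G]

theorem isCyclic_subgroup_of_le {A B : Subgroup G} (h : A ≤ B) [IsCyclic B] : IsCyclic A :=
  isCyclic_of_injective (Subgroup.inclusion h) (Subgroup.inclusion_injective h)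

/-- Subgroups of a normal cyclic subgroup are normal. -/
theorem normal_of_le_zpowers {g : G} (hn : (zpowers g).Normal) {A : Subgroup G}
    (hA : A ≤ zpowers g) : A.Normal := by
  refine ⟨fun a ha x => ?_⟩
  obtain ⟨k, rfl⟩ := mem_zpowers_iff.mp (hA ha)
  obtain ⟨m, hm⟩ := mem_zpowers_iff.mp (hn.conj_mem g (mem_zpowers g) x)
  rw [← conj_zpow, ← hm, ← zpow_mul, mul_comm, zpow_mul]
  exact zpow_mem ha m

theorem normal_of_le_isCyclic {N : Subgroup G} (hn : N.Normal) [IsCyclic N] {A : Subgroup G}
    (hA : A ≤ N) : A.Normal := by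
  obtain ⟨g, hg⟩ := IsCyclic.exists_generator (α := N)
  have h : N = zpowers (g : G) := le_antisymm (fun x hx => by
    obtain ⟨k, hk⟩ := mem_zpowers_iff.mp (hg ⟨x, hx⟩)
    exact ⟨k, congrArg Subtype.val hk⟩) (zpowers_le.mpr g.2)
  exact normal_of_le_zpowers (h ▸ hn) (h ▸ hA)

theorem exists_prime_normal_of_le_isCyclic [Finite G] {N : Subgroup G} (hn : N.Normal)
    [IsCyclic N] (hne : N ≠ ⊥) :
    ∃ P : Subgroup G, P.Normal ∧ P ≤ N ∧ (Nat.card P).Prime := by
  obtain ⟨p, hp, hdvd⟩ := Nat.exists_prime_and_dvd (mt Subgroup.card_eq_one.mp hne)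
  haveI := Fact.mk hp
  obtain ⟨x, hx⟩ := exists_prime_orderOf_dvd_card' (G := N) p hdvd
  refine ⟨zpowers (x : G), normal_of_le_isCyclic hn (zpowers_le.mpr x.2), zpowers_le.mpr x.2, ?_⟩
  rwa [Nat.card_zpowers, Subgroup.orderOf_coe, hx]

/-- A nontrivial chain starts with a normal subgroup of prime order. -/
theorem SChain.exists_prime_normal [Finite G] {M : Subgroup G} (h : SChain M) (hne : M ≠ ⊥) :
    ∃ P : Subgroup G, P.Normal ∧ P ≤ M ∧ (Nat.card P).Prime := by
  induction h with
  | bot => exact absurd rfl hne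
  | step N g hN hn ih =>
    by_cases hN0 : N = ⊥
    · subst hN0
      haveI : IsCyclic ↥((⊥ : Subgroup G) ⊔ zpowers g) := by rw [bot_sup_eq]; infer_instance
      exact exists_prime_normal_of_le_isCyclic hn hne
    · obtain ⟨P, h1, h2, h3⟩ := ih hN0
      exact ⟨P, h1, h2.trans le_sup_left, h3⟩

theorem exists_prime_normal_le [Finite G] (hG : Cfsg.IsSupersolvable G) {K : Subgroup G}
    (hK : K.Normal) (hne : K ≠ ⊥) :
    ∃ P : Subgroup G, P.Normal ∧ P ≤ K ∧ (Nat.card P).Prime := by
  have h := (isSupersolvable_iff.mp hG).inf K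
  rw [top_inf_eq] at h
  exact h.exists_prime_normal hne

theorem SChain.isSolvable [Finite G] {M : Subgroup G} (h : SChain M) : Group.IsSolvable M := by
  induction h with
  | bot => infer_instance
  | step N g hN hn ih =>
    refine CfsgLib.Components.isSolvable_sup ?_ ih (Group.isSolvable_of_comm fun a b => mul_comm' a b)
    haveI := hN.normal
    exact Subgroup.le_normalizer_of_normal

theorem isSolvable_of_isSupersolvable [Finite G] (hG : Cfsg.IsSupersolvable G) :
    Group.IsSolvable G := by
  haveI := (isSupersolvable_iff.mp hG).isSolvable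
  exact Group.isSolvable_of_surjective (f := Subgroup.topEquiv.toMonoidHom)
    Subgroup.topEquiv.surjective

theorem card_eq_card_mul_quotient [Finite G] (N : Subgroup G) [N.Normal] :
    Nat.card G = Nat.card N * Nat.card (G ⧸ N) := by
  rw [← N.card_mul_index, N.index_eq_card]

theorem card_comap_mk [Finite G] (N : Subgroup G) [N.Normal] (A : Subgroup (G ⧸ N)) :
    Nat.card (A.comap (QuotientGroup.mk' N)) = Nat.card N * Nat.card A := by
  have h1 := (A.comap (QuotientGroup.mk' N)).card_mul_index
  rw [Subgroup.index_comap_of_surjective _ (QuotientGroup.mk'_surjective N),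
    card_eq_card_mul_quotient N, ← A.card_mul_index, ← mul_assoc] at h1
  exact Nat.eq_of_mul_eq_mul_right (Nat.pos_of_ne_zero A.index_ne_zero_of_finite) h1

/-- A maximal subgroup of a supersolvable group has prime index. -/
theorem index_prime_of_isCoatom [Finite G] (hG : Cfsg.IsSupersolvable G) {M : Subgroup G}
    (hM : IsCoatom M) : M.index.Prime := by
  induction hn : Nat.card G using Nat.strong_induction_on generalizing G with
  | _ n ih =>
    rcases subsingleton_or_nontrivial G with h | h
    · exact absurd (Subsingleton.elim _ _) hM.1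
    obtain ⟨P, hPn, -, hPp⟩ := exists_prime_normal_le hG (inferInstance : (⊤ : Subgroup G).Normal)
      top_ne_bot
    have hP0 : P ≠ ⊥ := fun h0 => by simp [h0, Nat.not_prime_one] at hPp
    set f := QuotientGroup.mk' P with hf
    by_cases hPM : P ≤ M
    · have hcm : (M.map f).comap f = M := Subgroup.comap_map_eq_self (by rwa [hf, QuotientGroup.ker_mk'])
      have hco : IsCoatom (M.map f) := by
        refine ⟨fun ht => hM.1 (by rw [← hcm, ht, Subgroup.comap_top]), fun K hK => ?_⟩
        have hlt : M < K.comap f := hcm ▸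
          (Subgroup.comap_lt_comap_of_surjective (QuotientGroup.mk'_surjective P)).mpr hK
        rw [← Subgroup.map_comap_eq_self_of_surjective (QuotientGroup.mk'_surjective P) K, ← hf,
          hM.2 _ hlt, Subgroup.map_top_of_surjective f (QuotientGroup.mk'_surjective P)]
      have := ih _ (hn ▸ CfsgLib.Components.card_quotient_lt hP0) (isSupersolvable_quotient hG P) hco rfl
      rwa [← Subgroup.index_comap_of_surjective _ (QuotientGroup.mk'_surjective P), ← hf, hcm] at this
    · have htop : M ⊔ P = ⊤ := hM.2 _ (lt_of_le_of_ne le_sup_left fun he => hPM (he ▸ le_sup_right))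
      have h1 : P.relIndex M = P.index := by
        rw [← Subgroup.relIndex_sup_right M P, htop, Subgroup.relIndex_top_right]
      have h2 := Subgroup.card_mul_index (M ⊓ P)
      have hMP : M ⊓ P = ⊥ := by
        rcases hPp.eq_one_or_self_of_dvd _ (Subgroup.card_dvd_of_le (inf_le_right : M ⊓ P ≤ P))
          with h' | h'
        · exact Subgroup.card_eq_one.mp h'
        · exact absurd ((Subgroup.eq_of_le_of_card_ge inf_le_right h'.ge).ge.trans inf_le_left) hPM
      have hMc : Nat.card M = P.index := by
        rw [← h1, ← Subgroup.inf_relIndex_right, inf_comm, hMP, Subgroup.relIndex_bot_left]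
      have h3 := M.card_mul_index
      rw [hMc, ← P.card_mul_index, mul_comm _ P.index] at h3
      rw [Nat.eq_of_mul_eq_mul_left (Nat.pos_of_ne_zero P.index_ne_zero_of_finite) h3]
      exact hPp

/-- A subgroup of every order. -/
theorem hasSubgroupOfEveryOrder [Finite G] (hG : Cfsg.IsSupersolvable G) :
    Cfsg.HasSubgroupOfEveryOrder G := by
  induction hn : Nat.card G using Nat.strong_induction_on generalizing G with
  | _ n ih =>
    intro d hd
    rcases subsingleton_or_nontrivial G with h | h
    · refine ⟨⊤, ?_⟩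
      rw [Subgroup.card_top, Nat.card_of_subsingleton (1 : G)] at *
      exact (Nat.dvd_one.mp hd).symm
    obtain ⟨P, hPn, -, hPp⟩ := exists_prime_normal_le hG (inferInstance : (⊤ : Subgroup G).Normal)
      top_ne_bot
    have hP0 : P ≠ ⊥ := fun h0 => by simp [h0, Nat.not_prime_one] at hPp
    have IH := ih _ (hn ▸ CfsgLib.Components.card_quotient_lt hP0) (isSupersolvable_quotient hG P) rfl
    rw [card_eq_card_mul_quotient P] at hd
    by_cases hpd : Nat.card P ∣ d
    · obtain ⟨e, rfl⟩ := hpd
      obtain ⟨A, hA⟩ := IH e (Nat.dvd_of_mul_dvd_mul_left hPp.pos hd)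
      exact ⟨A.comap (QuotientGroup.mk' P), by rw [card_comap_mk, hA]⟩
    · have hcop : (Nat.card P).Coprime d := (Nat.Prime.coprime_iff_not_dvd hPp).mpr hpd
      obtain ⟨A, hA⟩ := IH d (hcop.symm.dvd_of_dvd_mul_left hd)
      set B := A.comap (QuotientGroup.mk' P) with hB
      have hPB : P ≤ B := by
        rw [hB]; conv_lhs => rw [← QuotientGroup.ker_mk' P]
        exact Subgroup.ker_le_comap _ _
      have hc1 : Nat.card (P.subgroupOf B) = Nat.card P :=
        Nat.card_congr (Subgroup.subgroupOfEquivOfLe hPB).toEquiv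
      have hidx : (P.subgroupOf B).index = d := by
        have := (P.subgroupOf B).card_mul_index
        rw [hc1, hB, card_comap_mk, hA] at this
        exact Nat.eq_of_mul_eq_mul_left hPp.pos this
      obtain ⟨C, hC⟩ := Subgroup.exists_right_complement'_of_coprime (N := P.subgroupOf B)
        (by rwa [hc1, hidx])
      refine ⟨C.map B.subtype, ?_⟩
      rw [Subgroup.card_map_of_injective B.subtype_injective, ← hC.symm.index_eq_card, hidx]

/-- In a chain, the derived group acts trivially on each factor. -/
theorem SChain.exists_iterate_commutator_eq_bot {M : Subgroup G} (h : SChain M) :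
    ∃ k : ℕ, (fun A : Subgroup G => ⁅A, commutator G⁆)^[k] (M ⊓ commutator G) = ⊥ := by
  induction h with
  | bot => exact ⟨0, by simp⟩
  | step N g hN hn ih =>
    obtain ⟨k, hk⟩ := ih
    refine ⟨k + 1, ?_⟩
    rw [Function.iterate_succ_apply]
    suffices hle : ⁅(N ⊔ zpowers g) ⊓ commutator G, commutator G⁆ ≤ N ⊓ commutator G by
      have hmono : ∀ (j : ℕ) (A B : Subgroup G), A ≤ B →
          (fun A : Subgroup G => ⁅A, commutator G⁆)^[j] A ≤
            (fun A : Subgroup G => ⁅A, commutator G⁆)^[j] B := by
        intro j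
        induction j with
        | zero => exact fun A B h => h
        | succ j ihj =>
          intro A B h
          rw [Function.iterate_succ_apply, Function.iterate_succ_apply]
          exact ihj _ _ (Subgroup.commutator_mono h le_rfl)
      exact le_bot_iff.mp ((hmono k _ _ hle).trans hk.le)
    refine le_inf ?_ (Subgroup.commutator_le_right _ _)
    haveI := hN.normal
    set f := QuotientGroup.mk' N with hf
    have hcyc : (N ⊔ zpowers g).map f = zpowers (f g) := by
      rw [Subgroup.map_sup, (Subgroup.map_eq_bot_iff N).mpr (QuotientGroup.ker_mk' N).ge,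
        bot_sup_eq, MonoidHom.map_zpowers]
    have hn' : (zpowers (f g)).Normal := hcyc ▸ hn.map f (QuotientGroup.mk'_surjective N)
    refine le_trans (Subgroup.commutator_mono inf_le_left le_rfl) ?_
    conv_rhs => rw [← QuotientGroup.ker_mk' N]
    rw [← Subgroup.map_eq_bot_iff, Subgroup.map_commutator, hcyc, Subgroup.commutator_comm,
      Subgroup.commutator_eq_bot_iff_le_centralizer, Subgroup.map_le_iff_le_comap, commutator_def,
      Subgroup.commutator_le]
    intro x _ y _
    rw [Subgroup.mem_comap, map_commutatorElement, Subgroup.zpowers_eq_closure,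
      Subgroup.centralizer_closure, Subgroup.mem_centralizer_singleton_iff]
    set c := f g
    obtain ⟨m, hm⟩ := mem_zpowers_iff.mp (hn'.conj_mem c (mem_zpowers c) (f x))
    obtain ⟨l, hl⟩ := mem_zpowers_iff.mp (hn'.conj_mem c (mem_zpowers c) (f y))
    have hx : MulAut.conj (f x) c = c ^ m := hm.symm
    have hy : MulAut.conj (f y) c = c ^ l := hl.symm
    have hxy : MulAut.conj (f x * f y) c = MulAut.conj (f y * f x) c := by
      rw [map_mul, map_mul, MulAut.mul_apply, MulAut.mul_apply, hx, hy, map_zpow, map_zpow, hx, hy,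
        ← zpow_mul, ← zpow_mul, mul_comm]
    obtain ⟨z, hz⟩ : ∃ z, z = (MulAut.conj (f y * f x))⁻¹ c := ⟨_, rfl⟩
    have hzmem : z ∈ zpowers c := by
      rw [hz, ← map_inv, MulAut.conj_apply]
      exact hn'.conj_mem c (mem_zpowers c) _
    obtain ⟨j, rfl⟩ := mem_zpowers_iff.mp hzmem
    have key : MulAut.conj ⁅f x, f y⁆ c = c := by
      rw [show ⁅f x, f y⁆ = (f x * f y) * (f y * f x)⁻¹ by rw [commutatorElement_def]; group,
        map_mul, MulAut.mul_apply, map_inv, ← hz, map_zpow, hxy, ← map_zpow, hz,
        MulAut.apply_inv_self]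
    rw [MulAut.conj_apply] at key
    exact mul_inv_eq_iff_eq_mul.mp key

/-- The derived group of a supersolvable group is nilpotent. -/
theorem commutator_isNilpotent (hG : Cfsg.IsSupersolvable G) :
    Group.IsNilpotent (commutator G) := by
  obtain ⟨k, hk⟩ := (isSupersolvable_iff.mp hG).exists_iterate_commutator_eq_bot
  rw [top_inf_eq] at hk
  refine Subgroup.isNilpotent_of_lowerCentralSeries_eq_bot (n := k) ?_
  rw [← hk]
  clear hk
  induction k with
  | zero => rfl
  | succ k ih => rw [Subgroup.lowerCentralSeries_succ, ih, Function.iterate_succ_apply']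

theorem sylow_normal_of_largest_prime [Finite G] (hG : Cfsg.IsSupersolvable G) {p : ℕ}
    [hp : Fact p.Prime] (hmax : ∀ q : ℕ, q.Prime → q ∣ Nat.card G → q ≤ p) (P : Sylow p G) :
    (P : Subgroup G).Normal := by
  induction hn : Nat.card G using Nat.strong_induction_on generalizing G with
  | _ n ih =>
    rcases subsingleton_or_nontrivial G with h | h
    · rw [Subsingleton.elim (P : Subgroup G) ⊥]; infer_instance
    obtain ⟨Q, hQn, -, hQp⟩ := exists_prime_normal_le hG (inferInstance : (⊤ : Subgroup G).Normal)
      top_ne_bot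
    have hQ0 : Q ≠ ⊥ := fun h0 => by simp [h0, Nat.not_prime_one] at hQp
    set f := QuotientGroup.mk' Q with hf
    have hPn : ((P : Subgroup G) ⊔ Q).Normal := by
      have := ih _ (hn ▸ CfsgLib.Components.card_quotient_lt hQ0) (isSupersolvable_quotient hG Q)
        (fun q hq hd => hmax q hq (hd.trans (Subgroup.card_quotient_dvd_card Q)))
        (P.mapSurjective (QuotientGroup.mk'_surjective Q)) rfl
      rw [Sylow.coe_mapSurjective] at this
      have := this.comap f
      rwa [Subgroup.comap_map_eq, hf, QuotientGroup.ker_mk'] at this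
    set P' := P.subtype (le_sup_left : (P : Subgroup G) ≤ (P : Subgroup G) ⊔ Q) with hP'
    suffices hchar : (P' : Subgroup ↥((P : Subgroup G) ⊔ Q)).Normal by
      haveI := P'.characteristic_of_normal hchar
      have : ((P' : Subgroup ↥((P : Subgroup G) ⊔ Q)).map ((P : Subgroup G) ⊔ Q).subtype).Normal :=
        inferInstance
      rwa [hP', Sylow.coe_subtype, Subgroup.map_subgroupOf_eq_of_le le_sup_left] at this
    have hqp : Nat.card Q ≤ p := hmax _ hQp (Subgroup.card_subgroup_dvd_card Q)
    have hidx : (P' : Subgroup ↥((P : Subgroup G) ⊔ Q)).index ∣ Nat.card Q := by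
      have h1 := Subgroup.card_mul_index (P' : Subgroup ↥((P : Subgroup G) ⊔ Q))
      have h2 : Nat.card ↥((P : Subgroup G) ⊔ Q) ∣ Nat.card Q * Nat.card (P : Subgroup G) := by
        rw [sup_comm]; exact CfsgLib.Components.card_sup_dvd_mul Subgroup.le_normalizer_of_normal
      have h3 : Nat.card (P' : Subgroup ↥((P : Subgroup G) ⊔ Q)) = Nat.card (P : Subgroup G) := by
        rw [hP', Sylow.coe_subtype]
        exact Nat.card_congr (Subgroup.subgroupOfEquivOfLe le_sup_left).toEquiv
      rw [← h1, h3, mul_comm (Nat.card Q)] at h2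
      exact Nat.dvd_of_mul_dvd_mul_left Nat.card_pos h2
    rw [← Subgroup.normalizer_eq_top_iff, ← Subgroup.index_eq_one]
    have h4 : Nat.card (Sylow p ↥((P : Subgroup G) ⊔ Q)) ∣ Nat.card Q :=
      P'.card_dvd_index.trans hidx
    refine (Sylow.card_eq_index_normalizer P').symm.trans ?_
    rcases hQp.eq_one_or_self_of_dvd _ h4 with h5 | h5
    · exact h5
    · exfalso
      have h6 := card_sylow_modEq_one p ↥((P : Subgroup G) ⊔ Q)
      rw [h5, Nat.ModEq, Nat.one_mod_eq_one.mpr hp.out.ne_one] at h6
      rcases lt_or_eq_of_le hqp with h7 | h7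
      · rw [Nat.mod_eq_of_lt h7] at h6
        exact hQp.ne_one h6
      · rw [h7, Nat.mod_self] at h6
        exact zero_ne_one h6

/-- A supersolvable group has a normal subgroup whose order is the largest prime divisor. -/
theorem exists_normal_largest_prime [Finite G] [Nontrivial G] (hG : Cfsg.IsSupersolvable G) :
    ∃ P : Subgroup G, P.Normal ∧ (Nat.card P).Prime ∧
      ∀ q : ℕ, q.Prime → q ∣ Nat.card G → q ≤ Nat.card P := by
  have h1 : 1 < Nat.card G := Finite.one_lt_card
  obtain ⟨p, hpmem, hmax⟩ := (Nat.card G).primeFactors.exists_maximal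
    (Nat.nonempty_primeFactors.mpr h1)
  have hp : p.Prime := (Nat.mem_primeFactors.mp hpmem).1
  have hmax' : ∀ q : ℕ, q.Prime → q ∣ Nat.card G → q ≤ p := by
    intro q hq hd
    rcases le_total q p with h | h
    · exact h
    · exact hmax (Nat.mem_primeFactors.mpr ⟨hq, hd, Nat.card_pos.ne'⟩) h
  haveI := Fact.mk hp
  obtain ⟨S⟩ : Nonempty (Sylow p G) := inferInstance
  have hne : (S : Subgroup G) ≠ ⊥ := S.ne_bot_of_dvd_card (Nat.mem_primeFactors.mp hpmem).2.1
  obtain ⟨P, hPn, hPS, hPp⟩ :=
    exists_prime_normal_le hG (sylow_normal_of_largest_prime hG hmax' S) hne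
  obtain ⟨k, hk⟩ := S.isPGroup'.exists_card_eq
  have : Nat.card P = p :=
    (Nat.prime_dvd_prime_iff_eq hPp hp).mp (hPp.dvd_of_dvd_pow (hk ▸ Subgroup.card_dvd_of_le hPS))
  exact ⟨P, hPn, hPp, this ▸ hmax'⟩

theorem exists_prime_chief_series [Finite G] (hG : Cfsg.IsSupersolvable G) :
    ∃ (n : ℕ) (H : Fin (n + 1) → Subgroup G), H 0 = ⊥ ∧ H (Fin.last n) = ⊤ ∧
      (∀ i, (H i).Normal) ∧
      (∀ i : Fin n, H i.castSucc ≤ H i.succ ∧ ((H i.castSucc).relIndex (H i.succ)).Prime) ∧
      ∀ i j : Fin n, i ≤ j →
        (H j.castSucc).relIndex (H j.succ) ≤ (H i.castSucc).relIndex (H i.succ) := by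
  induction hn : Nat.card G using Nat.strong_induction_on generalizing G with
  | _ n ih =>
    rcases subsingleton_or_nontrivial G with h | h
    · exact ⟨0, fun _ => ⊥, rfl, Subsingleton.elim _ _, fun _ => inferInstance, fun i => i.elim0,
        fun i => i.elim0⟩
    obtain ⟨P, hPn, hPp, hmax⟩ := exists_normal_largest_prime hG
    have hP0 : P ≠ ⊥ := fun h0 => by simp [h0, Nat.not_prime_one] at hPp
    obtain ⟨m, H, h0, hl, hnorm, hstep, hdec⟩ :=
      ih _ (hn ▸ CfsgLib.Components.card_quotient_lt hP0) (isSupersolvable_quotient hG P) rfl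
    set f := QuotientGroup.mk' P with hf
    have hfs : Function.Surjective f := QuotientGroup.mk'_surjective P
    have hP : (H 0).comap f = P := by rw [h0, MonoidHom.comap_bot, hf, QuotientGroup.ker_mk']
    have hfirst : ∀ {A : Subgroup G}, A = P → (⊥ : Subgroup G).relIndex A = Nat.card P := by
      rintro _ rfl; rw [Subgroup.relIndex_bot_left]
    have hlift : ∀ i : Fin m, ((H i.castSucc).comap f).relIndex ((H i.succ).comap f) =
        (H i.castSucc).relIndex (H i.succ) := fun i => by
      rw [Subgroup.relIndex_comap, Subgroup.map_comap_eq_self_of_surjective hfs]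
    refine ⟨m + 1, Fin.cons ⊥ (fun i => (H i).comap f), rfl, ?_, ?_, ?_, ?_⟩
    · rw [← Fin.succ_last, Fin.cons_succ, hl, Subgroup.comap_top]
    · intro i
      refine Fin.cases ?_ (fun j => ?_) i
      · rw [Fin.cons_zero]; infer_instance
      · rw [Fin.cons_succ]; exact (hnorm j).comap f
    · intro i
      refine Fin.cases ?_ (fun j => ?_) i
      · rw [Fin.castSucc_zero, Fin.cons_zero, Fin.cons_succ]
        exact ⟨bot_le, by rw [hfirst hP]; exact hPp⟩
      · rw [Fin.castSucc_succ, Fin.cons_succ, Fin.cons_succ, hlift]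
        exact ⟨Subgroup.comap_mono (hstep j).1, (hstep j).2⟩
    · intro i j hij
      induction i using Fin.cases with
      | zero =>
        induction j using Fin.cases with
        | zero => exact le_rfl
        | succ j =>
          simp only [Fin.castSucc_zero, Fin.cons_zero, Fin.castSucc_succ, Fin.cons_succ, hfirst hP, hlift]
          refine hmax _ (hstep j).2 (dvd_trans ?_ (Subgroup.card_quotient_dvd_card P))
          exact (Subgroup.relIndex_dvd_card _ _).trans (Subgroup.card_subgroup_dvd_card _)
      | succ i =>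
        induction j using Fin.cases with
        | zero => exact absurd hij (not_le.mpr (Fin.succ_pos i))
        | succ j =>
          rw [Fin.castSucc_succ, Fin.castSucc_succ, Fin.cons_succ, Fin.cons_succ, Fin.cons_succ,
            Fin.cons_succ, hlift, hlift]
          exact hdec i j (Fin.succ_le_succ_iff.mp hij)

theorem exists_mem_center_orderOf [Finite G] [Group.IsNilpotent G] [Nontrivial G] :
    ∃ z ∈ Subgroup.center G, z ≠ 1 := by
  obtain ⟨⟨z, hz⟩, hz1⟩ := ((Subgroup.center G).ne_bot_iff_exists_ne_one).mp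
    (Group.IsNilpotent.center_ne_bot (G := G))
  exact ⟨z, hz, fun h => hz1 (Subtype.ext h)⟩

/-- Finite nilpotent groups are supersolvable. -/
theorem isSupersolvable_of_isNilpotent [Finite G] [Group.IsNilpotent G] :
    Cfsg.IsSupersolvable G := by
  induction hn : Nat.card G using Nat.strong_induction_on generalizing G with
  | _ n ih =>
    rcases subsingleton_or_nontrivial G with h | h
    · exact isSupersolvable_of_subsingleton
    obtain ⟨z, hz, hz1⟩ := exists_mem_center_orderOf (G := G)
    haveI : (zpowers z).Normal :=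
      ⟨fun a ha x => by
        have hac : a ∈ Subgroup.center G := (zpowers_le.mpr hz) ha
        rwa [Subgroup.mem_center_iff.mp hac x, mul_inv_cancel_right]⟩
    exact isSupersolvable_of_quotient_cyclic (zpowers z)
      (ih _ (hn ▸ CfsgLib.Components.card_quotient_lt (by simpa using hz1)) rfl)

theorem isSupersolvable_two_mul_prime_pow [Finite G] (p n : ℕ) (hp : p.Prime)
    (hG : Nat.card G = 2 * p ^ n) : Cfsg.IsSupersolvable G := by
  induction n generalizing G with
  | zero =>
    haveI : Fact (Nat.Prime 2) := ⟨Nat.prime_two⟩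
    haveI := isCyclic_of_prime_card (p := 2) (α := G) (by simpa using hG)
    exact isSupersolvable_of_isCyclic
  | succ n ih =>
    haveI := Fact.mk hp
    suffices h : ∃ C : Subgroup G, C.Normal ∧ IsCyclic C ∧ Nat.card C = p by
      obtain ⟨C, hCn, hCc, hC⟩ := h
      refine isSupersolvable_of_quotient_cyclic C (ih ?_)
      have := card_eq_card_mul_quotient C
      rw [hC, hG, pow_succ, ← mul_assoc, mul_comm p] at this
      exact (Nat.eq_of_mul_eq_mul_right hp.pos this).symm
    obtain ⟨P⟩ : Nonempty (Sylow p G) := inferInstance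
    have hPd : p ∣ Nat.card G := by rw [hG, pow_succ]; exact ⟨2 * p ^ n, by ring⟩
    by_cases hp2 : p = 2
    · subst hp2
      haveI : Group.IsNilpotent G :=
        (IsPGroup.of_card (n := n + 2) (by rw [hG, pow_succ' 2 (n + 1)])).isNilpotent
      haveI : Nontrivial G :=
        Finite.one_lt_card_iff_nontrivial.mp (Nat.le_of_dvd Nat.card_pos hPd)
      obtain ⟨C, hC1, -, hC2⟩ := exists_prime_normal_le (isSupersolvable_of_isNilpotent (G := G))
        (inferInstance : (⊤ : Subgroup G).Normal) top_ne_bot
      haveI := Fact.mk hC2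
      refine ⟨C, hC1, isCyclic_of_prime_card rfl, ?_⟩
      have hd := Subgroup.card_subgroup_dvd_card C
      rw [hG, ← pow_succ' 2 (n + 1)] at hd
      exact (Nat.prime_dvd_prime_iff_eq hC2 Nat.prime_two).mp (hC2.dvd_of_dvd_pow hd)
    · have hPi : (P : Subgroup G).index = 2 := by
        obtain ⟨k, hk⟩ := P.isPGroup'.exists_card_eq
        have h1 := (P : Subgroup G).card_mul_index
        have hcop : Nat.Coprime p 2 := (Nat.coprime_primes hp Nat.prime_two).mpr hp2
        have hi : (P : Subgroup G).index ∣ 2 := by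
          have hd : (P : Subgroup G).index ∣ 2 * p ^ (n + 1) := hG ▸ Subgroup.index_dvd_card _
          refine Nat.Coprime.dvd_of_dvd_mul_right ?_ hd
          exact ((Nat.Prime.coprime_iff_not_dvd hp).mpr P.not_dvd_index).symm.pow_right _
        rcases (Nat.dvd_prime Nat.prime_two).mp hi with h | h
        · exfalso
          rw [h, mul_one, hk, hG] at h1
          have h2 : 2 ∣ p ^ k := h1 ▸ dvd_mul_right 2 _
          exact hp2 ((Nat.prime_dvd_prime_iff_eq Nat.prime_two hp).mp
            (Nat.prime_two.dvd_of_dvd_pow h2)).symm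
        · exact h
      haveI hPn : (P : Subgroup G).Normal := Subgroup.normal_of_index_eq_two hPi
      haveI : Nontrivial (P : Subgroup G) :=
        (Subgroup.nontrivial_iff_ne_bot _).mpr (P.ne_bot_of_dvd_card hPd)
      haveI := P.isPGroup'.center_nontrivial
      have hpc : p ∣ Nat.card (Subgroup.center (P : Subgroup G)) := by
        obtain ⟨k, hk⟩ := (P.isPGroup'.to_subgroup (Subgroup.center _)).exists_card_eq
        have h1 : 1 < Nat.card (Subgroup.center (P : Subgroup G)) := Finite.one_lt_card
        rcases k with _ | k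
        · simp [hk] at h1
        · exact hk ▸ dvd_pow_self p (Nat.succ_ne_zero k)
      obtain ⟨⟨⟨z, hzP⟩, hzc⟩, hz⟩ := exists_prime_orderOf_dvd_card' p hpc
      rw [← Subgroup.orderOf_coe, ← Subgroup.orderOf_coe] at hz
      have hcen : ∀ x ∈ (P : Subgroup G), x * z = z * x := fun x hx =>
        congrArg Subtype.val (Subgroup.mem_center_iff.mp hzc ⟨x, hx⟩)
      obtain ⟨t, ht⟩ : ∃ t : G, t ∉ (P : Subgroup G) := by
        by_contra h
        push Not at h
        rw [(eq_top_iff.mpr (fun x _ => h x) : (P : Subgroup G) = ⊤), Subgroup.index_top] at hPi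
        omega
      have ht2 : ∀ a b : G, a ∉ (P : Subgroup G) → b ∉ (P : Subgroup G) → a * b ∈ (P : Subgroup G) :=
        fun a b ha hb => by
          rw [Subgroup.mul_mem_iff_of_index_two hPi]; simp [ha, hb]
      set z' := t * z * t⁻¹ with hz'
      have hz'P : z' ∈ (P : Subgroup G) := hPn.conj_mem z hzP t
      have hz'c : ∀ x ∈ (P : Subgroup G), x * z' = z' * x := fun x hx => by
        have := hcen _ (hPn.conj_mem x hx t⁻¹)
        rw [inv_inv] at this
        calc x * z' = t * (t⁻¹ * x * t * z) * t⁻¹ := by rw [hz']; group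
          _ = t * (z * (t⁻¹ * x * t)) * t⁻¹ := by rw [this]
          _ = z' * x := by rw [hz']; group
      have hflip : t * z' * t⁻¹ = z := by
        have htt := hcen _ (ht2 t t ht ht)
        calc t * z' * t⁻¹ = t * t * z * (t * t)⁻¹ := by rw [hz']; group
          _ = z := by rw [htt]; group
      suffices h : ∃ w : G, orderOf w = p ∧ w ∈ (P : Subgroup G) ∧
          (∀ x ∈ (P : Subgroup G), x * w = w * x) ∧ t * w * t⁻¹ ∈ zpowers w by
        obtain ⟨w, hw, hwP, hwc, hwt⟩ := h
        refine ⟨zpowers w, ?_, inferInstance, by rw [Nat.card_zpowers, hw]⟩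
        rw [← Subgroup.normalizer_eq_top_iff, eq_top_iff]
        intro x _
        have hmap : ∀ y : G, y * w * y⁻¹ ∈ zpowers w → y ∈ Subgroup.normalizer (zpowers w : Set G) := by
          intro y hy
          refine Subgroup.mem_normalizer_iff_map_conj_eq.mpr ?_
          refine Subgroup.eq_of_le_of_card_ge ?_
            (Subgroup.card_map_of_injective (MulAut.conj y).injective).ge
          rw [MonoidHom.map_zpowers, zpowers_le]
          exact hy
        apply hmap
        by_cases hx : x ∈ (P : Subgroup G)
        · rw [hwc x hx, mul_inv_cancel_right]; exact mem_zpowers w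
        · have hp' : x * t⁻¹ ∈ (P : Subgroup G) :=
            ht2 x t⁻¹ hx (fun h => ht (inv_inv t ▸ inv_mem h))
          obtain ⟨m, hm⟩ := mem_zpowers_iff.mp hwt
          refine ⟨m, ?_⟩
          calc w ^ m = (x * t⁻¹) * w ^ m * (x * t⁻¹)⁻¹ := by
                rw [(Commute.zpow_right (hwc _ hp') m).eq, mul_inv_cancel_right]
            _ = x * w * x⁻¹ := by rw [hm]; group
      by_cases hw : z * z' = 1
      · refine ⟨z, hz, hzP, hcen, ?_⟩
        rw [← hz', show z' = z⁻¹ from (inv_eq_of_mul_eq_one_right hw).symm]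
        exact inv_mem (mem_zpowers z)
      · refine ⟨z * z', ?_, mul_mem hzP hz'P, fun x hx => ?_, ?_⟩
        · refine orderOf_eq_prime ?_ hw
          have e : orderOf z' = p := by
            rw [hz', ← MulAut.conj_apply, MulEquiv.orderOf_eq]; exact hz
          rw [(show Commute z z' from hz'c z hzP).mul_pow]
          rw [orderOf_dvd_iff_pow_eq_one.mp e.dvd, orderOf_dvd_iff_pow_eq_one.mp hz.dvd, mul_one]
        · rw [← mul_assoc, hcen x hx, mul_assoc, hz'c x hx, ← mul_assoc]
        · have : t * (z * z') * t⁻¹ = z * z' := by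
            calc t * (z * z') * t⁻¹ = (t * z * t⁻¹) * (t * z' * t⁻¹) := by group
              _ = z' * z := by rw [hflip, ← hz']
              _ = z * z' := (hz'c z hzP).symm
          rw [this]
          exact mem_zpowers _

end CfsgLib.SolvStruct
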