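import Cfsg.Agent.S0572
import Cfsg.Agent.Lib.SolvStruct.Supersolvable
import Cfsg.Agent.Lib.Transfer.Tate

/-!
# Products of two abelian groups

A nontrivial finite product of two abelian subgroups has a nontrivial normal subgroup inside one of
the factors; products of two cyclic groups are supersolvable.
-/

set_option autoImplicit false
set_option linter.style.haveILetI false

open scoped IsMulCommutative

namespace CfsgLib.SolvStruct

open Subgroup

variable {G : Type*} [Group G] [Finite G]

theorem ito_bijective_cocycle_false (A N : Subgroup G) [N.Normal] [IsMulCommutative A]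
    [IsMulCommutative N] (hN : N ≠ ⊥) (hfix : N ⊓ Subgroup.centralizer (A : Set G) = ⊥)
    (f : A → N) (hf : Function.Surjective f)
    (hcoc : ∀ a a' : A, f (a * a') = f a * MulAut.conjNormal (H := N) (a : G) (f a')) : False := by
  classical
  obtain ⟨p, hp, hdvd⟩ := Nat.exists_prime_and_dvd (mt Subgroup.card_eq_one.mp hN)
  haveI := Fact.mk hp
  set m := Nat.card N / p ^ (Nat.card N).factorization p with hm
  set k := (Nat.card N).factorization p with hk
  have hmk : p ^ k * m = Nat.card N := Nat.ordProj_mul_ordCompl_eq_self _ p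
  have hpm : p.Coprime m := Nat.coprime_ordCompl hp Nat.card_pos.ne'
  set r := Nat.card A / p ^ (Nat.card A).factorization p with hr
  set l := (Nat.card A).factorization p with hl
  have hlr : p ^ l * r = Nat.card A := Nat.ordProj_mul_ordCompl_eq_self _ p
  have hpr : p.Coprime r := Nat.coprime_ordCompl hp Nat.card_pos.ne'
  let U : Subgroup A := (powMonoidHom r : A →* A).ker
  let V : Subgroup A := (powMonoidHom (p ^ l) : A →* A).ker
  haveI : Fintype U := Fintype.ofFinite U
  have hUcard : p.Coprime (Fintype.card U) := by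
    rw [hp.coprime_iff_not_dvd]
    intro hd
    obtain ⟨x, hx⟩ := exists_prime_orderOf_dvd_card p hd
    have hxr : ((x : A)) ^ r = 1 := x.2
    have := orderOf_dvd_of_pow_eq_one hxr
    rw [Subgroup.orderOf_coe, hx] at this
    exact hp.coprime_iff_not_dvd.mp hpr this
  let φ : A → MulAut N := fun a => MulAut.conjNormal (a : G)
  have hφmul : ∀ a b : A, ∀ x : N, φ a (φ b x) = φ (a * b) x := fun a b x => by
    simp [φ]
  set S : N := ∏ u : U, f u with hS
  have hswap : ∀ a a' : A, f a * φ a (f a') = f a' * φ a' (f a) := fun a a' => by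
    rw [← hcoc, ← hcoc, mul_comm]
  let P : N → N := fun x => ∏ u : U, φ u x
  have hPfix : ∀ (x : N) (v : U), φ v (P x) = P x := by
    intro x v
    simp only [P, map_prod, hφmul]
    exact Fintype.prod_equiv (Equiv.mulLeft v) _ _ (fun u => rfl)
  -- the only `p`-element of `N` fixed by `U` is trivial
  have hW : ∀ y : N, y ^ p ^ k = 1 → (∀ v : U, φ v y = y) → y = 1 := by
    intro y hy hyfix
    let W : Subgroup G :=
      { carrier := {g | ∃ z : N, (z : G) = g ∧ z ^ p ^ k = 1 ∧ ∀ v : U, φ v z = z}
        one_mem' := ⟨1, rfl, one_pow _, fun v => map_one _⟩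
        mul_mem' := by
          rintro _ _ ⟨a, rfl, ha, ha'⟩ ⟨b, rfl, hb, hb'⟩
          exact ⟨a * b, rfl, by rw [mul_pow, ha, hb, one_mul], fun v => by rw [map_mul, ha', hb']⟩
        inv_mem' := by
          rintro _ ⟨a, rfl, ha, ha'⟩
          exact ⟨a⁻¹, rfl, by rw [inv_pow, ha, inv_one], fun v => by rw [map_inv, ha']⟩ }
    have hWp : IsPGroup p W := by
      rintro ⟨g, z, rfl, hz, -⟩
      exact ⟨k, Subtype.ext (by simpa using congrArg Subtype.val hz)⟩
    have hVp : IsPGroup p (V.map A.subtype) := by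
      refine IsPGroup.map ?_ _
      rintro ⟨v, hv⟩
      exact ⟨l, Subtype.ext hv⟩
    have hVW : V.map A.subtype ≤ Subgroup.normalizer (W : Set G) := by
      rw [Subgroup.le_normalizer_iff]
      rintro _ ⟨a, -, rfl⟩ _ ⟨z, rfl, hz, hz'⟩
      refine ⟨φ a z, rfl, by rw [← map_pow, hz, map_one], fun v => ?_⟩
      rw [hφmul, mul_comm, ← hφmul, hz']
    have hK := CfsgLib.Components.isPGroup_sup hVW hWp hVp
    by_contra hy1
    have hne : W.subgroupOf (W ⊔ V.map A.subtype) ≠ ⊥ := by
      intro h0
      apply hy1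
      have hmem : (y : G) ∈ W := ⟨y, rfl, hy, hyfix⟩
      have : (⟨y, le_sup_left (a := W) hmem⟩ : ↥(W ⊔ V.map A.subtype)) ∈
          W.subgroupOf (W ⊔ V.map A.subtype) := hmem
      rw [h0, Subgroup.mem_bot] at this
      exact Subtype.ext (congrArg Subtype.val this :)
    haveI : (W.subgroupOf (W ⊔ V.map A.subtype)).Normal :=
      (Subgroup.normal_subgroupOf_iff_le_normalizer le_sup_left).mpr
        (sup_le Subgroup.le_normalizer hVW)
    obtain ⟨z, ⟨w, hwz, -, hw⟩, hzc, hzo⟩ := CfsgLib.Transfer.exists_mem_center_orderOf_eq hK hne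
    replace hwz : (w : G) = (z : G) := hwz
    have hzA : (z : G) ∈ N ⊓ Subgroup.centralizer (A : Set G) := by
      refine Subgroup.mem_inf.mpr ⟨hwz ▸ w.2, Subgroup.mem_centralizer_iff.mpr fun a ha => ?_⟩
      have hcop : (p ^ l).Coprime r := Nat.Coprime.pow_left _ hpr
      set a' : A := ⟨a, ha⟩ with ha'
      have hpow : a' ^ (p ^ l * r) = 1 := by rw [hlr, pow_card_eq_one']
      obtain ⟨i, hi⟩ : ∃ i : ℤ, ∃ j : ℤ, i * (p ^ l : ℕ) + j * r = 1 := by
        refine ⟨(p ^ l).gcdA r, (p ^ l).gcdB r, ?_⟩
        have := (Nat.gcd_eq_gcd_ab (p ^ l) r).symm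
        rw [hcop.gcd_eq_one] at this
        push_cast at this ⊢
        linarith
      obtain ⟨j, hij⟩ := hi
      set u : A := a' ^ (i * (p ^ l : ℕ))
      set v : A := a' ^ (j * r)
      have huv : u * v = a' := by rw [← zpow_add, hij, zpow_one]
      have hu : u ∈ U := by
        show (a' ^ (i * (p ^ l : ℕ))) ^ r = 1
        rw [← zpow_natCast (a' ^ _), ← zpow_mul, mul_assoc, mul_comm i, zpow_mul, ← Nat.cast_mul,
          zpow_natCast, hpow, one_zpow]
      have hv : v ∈ V := by
        show (a' ^ (j * r)) ^ (p ^ l) = 1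
        rw [← zpow_natCast (a' ^ _), ← zpow_mul, mul_assoc, mul_comm j, ← Nat.cast_mul, zpow_mul,
          zpow_natCast, mul_comm r, hpow, one_zpow]
      have h1 : (u : G) * w * (u : G)⁻¹ = w := congrArg Subtype.val (hw ⟨u, hu⟩)
      have h2 : (v : G) * z = z * v := congrArg Subtype.val (Subgroup.mem_center_iff.mp hzc
        ⟨v, le_sup_right (a := W) (Subgroup.mem_map_of_mem A.subtype hv)⟩)
      rw [hwz] at h1
      have e : a = (u : G) * v := by rw [← Subgroup.coe_mul, huv]
      rw [e, mul_assoc, h2, ← mul_assoc, mul_inv_eq_iff_eq_mul.mp h1, mul_assoc]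
    rw [hfix, Subgroup.mem_bot] at hzA
    have : z = 1 := Subtype.ext hzA
    rw [this, orderOf_one] at hzo
    exact hp.ne_one hzo.symm
  set T : N := S ^ m with hT
  have hTpow : T ^ p ^ k = 1 := by
    rw [hT, ← pow_mul, mul_comm, hmk, pow_card_eq_one']
  have key : ∀ a : A, f a ^ (Fintype.card U * m) * φ a T = T := by
    intro a
    have h1 : ∏ u : U, (f a * φ a (f u)) = ∏ u : U, (f u * φ u (f a)) :=
      Finset.prod_congr rfl fun u _ => hswap a u
    rw [Finset.prod_mul_distrib, Finset.prod_mul_distrib, Finset.prod_const, Finset.card_univ,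
      ← map_prod, ← hS] at h1
    have h2 : P (f a) ^ m = 1 := by
      refine hW _ ?_ fun v => by rw [map_pow, hPfix]
      rw [← pow_mul, mul_comm, hmk, pow_card_eq_one']
    have h3 := congrArg (· ^ m) h1
    simp only [mul_pow, ← pow_mul, ← map_pow] at h3
    rwa [show (∏ u : U, φ u (f a)) = P (f a) from rfl, h2, mul_one, ← hT] at h3
  have hcop : (orderOf T).Coprime (Fintype.card U * m) := by
    refine Nat.Coprime.coprime_dvd_left (orderOf_dvd_of_pow_eq_one hTpow) ?_
    exact (Nat.Coprime.mul_right hUcard hpm).pow_left k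
  obtain ⟨e, he⟩ := exists_pow_eq_self_of_coprime hcop.symm
  obtain ⟨a, ha⟩ := hf (T ^ e)
  have hT1 : T = 1 := by
    have h := key a
    rw [ha, ← pow_mul, mul_comm e, pow_mul, he, mul_eq_left] at h
    exact (map_eq_one_iff (φ a) (φ a).injective).mp h
  obtain ⟨x, hx⟩ := exists_prime_orderOf_dvd_card' p hdvd
  obtain ⟨b, hb⟩ := hf x
  have h := key b
  rw [hb, hT1, map_one, mul_one] at h
  exact hp.coprime_iff_not_dvd.mp (Nat.Coprime.mul_right hUcard hpm)
    (hx ▸ orderOf_dvd_of_pow_eq_one h)

/-- A nontrivial product of two abelian subgroups has a nontrivial normal subgroup in a factor. -/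
theorem exists_normal_le_factor [Nontrivial G] (A B : Subgroup G) [hA : IsMulCommutative A]
    [hB : IsMulCommutative B] (hAB : ∀ g : G, ∃ a ∈ A, ∃ b ∈ B, g = a * b) :
    ∃ N : Subgroup G, N.Normal ∧ N ≠ ⊥ ∧ (N ≤ A ∨ N ≤ B) := by
  induction hn : Nat.card G using Nat.strong_induction_on generalizing G with
  | _ n ih =>
    have cA : ∀ {a a' : G}, a ∈ A → a' ∈ A → a * a' = a' * a := fun {a a'} ha ha' =>
      congrArg Subtype.val (hA.is_comm.comm ⟨a, ha⟩ ⟨a', ha'⟩)
    have cB : ∀ {a a' : G}, a ∈ B → a' ∈ B → a * a' = a' * a := fun {a a'} ha ha' =>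
      congrArg Subtype.val (hB.is_comm.comm ⟨a, ha⟩ ⟨a', ha'⟩)
    by_cases hZ : Subgroup.center G = ⊥
    swap
    · obtain ⟨⟨z, hz⟩, hz1⟩ := Subgroup.ne_bot_iff_exists_ne_one.mp hZ
      have hz1' : z ≠ 1 := fun h => hz1 (Subtype.ext h)
      have central : ∀ w ∈ Subgroup.center G, (Subgroup.zpowers w).Normal := fun w hw =>
        ⟨fun x hx g => by
          rwa [Subgroup.mem_center_iff.mp ((Subgroup.zpowers_le.mpr hw) hx) g,
            mul_inv_cancel_right]⟩
      obtain ⟨a, ha, b, hb, rfl⟩ := hAB z
      by_cases ha1 : a = 1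
      · subst ha1
        rw [one_mul] at hz hz1'
        exact ⟨_, central b hz, Subgroup.zpowers_ne_bot.mpr hz1',
          Or.inr (Subgroup.zpowers_le.mpr hb)⟩
      · have hac : a ∈ Subgroup.center G := by
          refine Subgroup.mem_center_iff.mpr fun g => ?_
          obtain ⟨a', ha', b', hb', rfl⟩ := hAB g
          have h2 : b' * a = a * b' := by
            have := Subgroup.mem_center_iff.mp hz b'
            rw [← mul_assoc, mul_assoc a b b', cB hb hb', ← mul_assoc a b' b] at this
            exact mul_right_cancel this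
          rw [mul_assoc, h2, ← mul_assoc, cA ha' ha, mul_assoc]
        exact ⟨_, central a hac, Subgroup.zpowers_ne_bot.mpr ha1,
          Or.inl (Subgroup.zpowers_le.mpr ha)⟩
    set N := commutator G with hN
    haveI hNab : IsMulCommutative N := by
      rw [← Subgroup.commutator_self_eq_bot_iff]
      have := Cfsg.Agent.S0572.result A B hAB
      rwa [derivedSeries_succ, derivedSeries_one] at this
    have hN0 : N ≠ ⊥ := fun h => by
      rw [hN, commutator_eq_bot_iff_center_eq_top, hZ] at h
      exact bot_ne_top h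
    have hTI : ∀ (A' B' : Subgroup G), IsMulCommutative A' → IsMulCommutative B' →
        (∀ g : G, ∃ a ∈ A', ∃ b ∈ B', g = a * b) →
        A' ⊓ Subgroup.centralizer (N : Set G) ≠ ⊥ →
          ∃ K : Subgroup G, K.Normal ∧ K ≠ ⊥ ∧ K ≤ A' := by
      intro A' B' hA' hB' hAB' hne
      have hM : (A' ⊔ N).Normal := Subgroup.Normal.of_commutator_le G le_sup_right
      haveI := hM
      refine ⟨(A' ⊔ N) ⊓ Subgroup.centralizer ((A' ⊔ N : Subgroup G) : Set G), inferInstance,
        fun h => hne (le_bot_iff.mp (le_trans ?_ h.le)), ?_⟩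
      · refine le_inf (inf_le_left.trans le_sup_left) ?_
        rw [← Subgroup.commutator_eq_bot_iff_le_centralizer,
          CfsgLib.Components.commutator_sup_right_eq_bot]
        exact ⟨le_bot_iff.mp ((Subgroup.commutator_mono inf_le_left le_rfl).trans
            (Subgroup.commutator_self_eq_bot_iff.mpr hA').le),
          Subgroup.commutator_eq_bot_iff_le_centralizer.mpr inf_le_right⟩
      · rintro x hx
        obtain ⟨a, ha, b, hb, rfl⟩ := hAB' x
        have hcent := (Subgroup.centralizer_le (show (A' : Set G) ⊆ ((A' ⊔ N : Subgroup G) : Set G)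
          from (le_sup_left : A' ≤ A' ⊔ N))) (Subgroup.mem_inf.mp hx).2
        have hbA : ∀ a' ∈ A', a' * b = b * a' := fun a' ha' => by
          have h1 := Subgroup.mem_centralizer_iff.mp hcent a' ha'
          have e : a' * a = a * a' := congrArg Subtype.val (hA'.is_comm.comm ⟨a', ha'⟩ ⟨a, ha⟩)
          rw [← mul_assoc, e, mul_assoc, mul_assoc] at h1
          exact mul_left_cancel h1
        have hbc : b ∈ Subgroup.center G := by
          refine Subgroup.mem_center_iff.mpr fun g => ?_
          obtain ⟨a', ha', b', hb', rfl⟩ := hAB' g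
          have e : b' * b = b * b' := congrArg Subtype.val (hB'.is_comm.comm ⟨b', hb'⟩ ⟨b, hb⟩)
          rw [mul_assoc, e, ← mul_assoc, hbA a' ha', mul_assoc]
        rw [hZ, Subgroup.mem_bot] at hbc
        rwa [hbc, mul_one]
    by_cases hcA : A ⊓ Subgroup.centralizer (N : Set G) = ⊥
    swap
    · obtain ⟨K, h1, h2, h3⟩ := hTI A B hA hB hAB hcA
      exact ⟨K, h1, h2, Or.inl h3⟩
    have hBA : ∀ g : G, ∃ b ∈ B, ∃ a ∈ A, g = b * a := Cfsg.Agent.S0572.comm_inv_of_factor hAB
    by_cases hcB : B ⊓ Subgroup.centralizer (N : Set G) = ⊥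
    swap
    · obtain ⟨K, h1, h2, h3⟩ := hTI B A hB hA hBA hcB
      exact ⟨K, h1, h2, Or.inr h3⟩
    have hNC : N ≤ Subgroup.centralizer (N : Set G) :=
      Subgroup.le_centralizer_iff_isMulCommutative.mpr hNab
    exfalso
    set D := (A ⊔ N) ⊓ (B ⊔ N) with hD
    by_cases hDtop : D = ⊤
    · have hAN : A ⊔ N = ⊤ := top_le_iff.mp (hDtop ▸ inf_le_left)
      have hBN : B ⊔ N = ⊤ := top_le_iff.mp (hDtop ▸ inf_le_right)
      have hex : ∀ a : A, ∃ x : N, (x : G) * a ∈ B := fun a => by
        obtain ⟨y, hy, b, hb, e⟩ := Subgroup.mem_sup_of_normal_left.mp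
          (show (a : G) ∈ N ⊔ B by rw [sup_comm, hBN]; trivial)
        exact ⟨⟨y⁻¹, inv_mem hy⟩, by simpa [← e] using hb⟩
      choose f hf using hex
      have huniq : ∀ (a : A) (x : N), (x : G) * a ∈ B → f a = x := fun a x hx => by
        have hmem : (f a : G) * (x : G)⁻¹ ∈ B ⊓ Subgroup.centralizer (N : Set G) := by
          refine Subgroup.mem_inf.mpr ⟨?_, hNC (mul_mem (f a).2 (inv_mem x.2))⟩
          have := mul_mem (hf a) (inv_mem hx)
          simpa [mul_assoc] using this
        rw [hcB, Subgroup.mem_bot, mul_inv_eq_one] at hmem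
        exact Subtype.ext hmem
      refine ito_bijective_cocycle_false A N hN0 ?_ f ?_ ?_
      · refine le_bot_iff.mp ?_
        rintro x hx
        have hxc : x ∈ Subgroup.center G := by
          refine Subgroup.mem_center_iff.mpr fun g => ?_
          have hg : g ∈ Subgroup.centralizer ({x} : Set G) := by
            refine (sup_le ?_ ?_ : A ⊔ N ≤ _) (hAN ▸ Subgroup.mem_top g)
            · intro a ha
              rw [Subgroup.mem_centralizer_singleton_iff]
              exact Subgroup.mem_centralizer_iff.mp (Subgroup.mem_inf.mp hx).2 a ha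
            · intro y hy
              rw [Subgroup.mem_centralizer_singleton_iff]
              exact (Subgroup.mem_centralizer_iff.mp (hNC hy) x (Subgroup.mem_inf.mp hx).1).symm
          exact Subgroup.mem_centralizer_singleton_iff.mp hg
        rwa [hZ] at hxc
      · intro y
        obtain ⟨a, ha, b, hb, e⟩ := hAB (y⁻¹ : N)
        exact ⟨⟨a, ha⟩, huniq _ y (by
          show (y : G) * a ∈ B
          rw [show (y : G) * a = b⁻¹ by
            rw [eq_inv_iff_mul_eq_one, mul_assoc, ← e]; simp]
          exact inv_mem hb)⟩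
      · intro a a'
        refine huniq _ _ ?_
        have := mul_mem (hf a) (hf a')
        simp only [Subgroup.coe_mul, MulAut.conjNormal_apply]
        rwa [show (f a : G) * ((a : G) * (f a') * (a : G)⁻¹) * ((a : G) * a') =
          (f a : G) * a * ((f a' : G) * a') by group]
    · have hND : N ≤ D := le_inf le_sup_right le_sup_right
      haveI : Nontrivial D := (Subgroup.nontrivial_iff_ne_bot _).mpr fun h =>
        hN0 (le_bot_iff.mp (hND.trans h.le))
      haveI : IsMulCommutative (A.subgroupOf D) :=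
        ⟨⟨fun x y => Subtype.ext (Subtype.ext (cA x.2 y.2))⟩⟩
      haveI : IsMulCommutative (B.subgroupOf D) :=
        ⟨⟨fun x y => Subtype.ext (Subtype.ext (cB x.2 y.2))⟩⟩
      obtain ⟨M, hMn, hM0, hMle⟩ := ih (Nat.card D)
        (hn ▸ CfsgLib.Components.card_lt_of_ne_top hDtop) (A.subgroupOf D) (B.subgroupOf D)
        (fun g => by
          obtain ⟨a, ha, b, hb, e⟩ := hAB g
          have hb' : b ∈ D := by
            refine Subgroup.mem_inf.mpr ⟨?_, Subgroup.mem_sup_left hb⟩
            have := mul_mem (inv_mem (Subgroup.mem_sup_left ha : a ∈ A ⊔ N))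
              (Subgroup.mem_inf.mp g.2).1
            rwa [e, inv_mul_cancel_left] at this
          have ha' : a ∈ D := by
            have := mul_mem g.2 (inv_mem hb')
            rwa [e, mul_inv_cancel_right] at this
          exact ⟨⟨a, ha'⟩, ha, ⟨b, hb'⟩, hb, Subtype.ext e⟩) rfl
      apply hM0
      have main : ∀ A' : Subgroup G, A' ⊓ Subgroup.centralizer (N : Set G) = ⊥ →
          M ≤ A'.subgroupOf D → M = ⊥ := by
        intro A' hA' hle
        have hd : M ⊓ N.subgroupOf D = ⊥ := le_bot_iff.mp fun x hx => by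
          have : (x : G) ∈ A' ⊓ Subgroup.centralizer (N : Set G) :=
            ⟨hle hx.1, hNC hx.2⟩
          rw [hA', Subgroup.mem_bot] at this
          exact Subtype.ext this
        have hc := Subgroup.commutator_eq_bot_of_disjoint (disjoint_iff.mpr hd)
        refine le_bot_iff.mp fun x hx => ?_
        have : (x : G) ∈ A' ⊓ Subgroup.centralizer (N : Set G) := by
          refine ⟨hle hx, Subgroup.mem_centralizer_iff.mpr fun y hy => ?_⟩
          exact congrArg Subtype.val (Subgroup.mem_centralizer_iff.mp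
            (Subgroup.commutator_eq_bot_iff_le_centralizer.mp hc hx) ⟨y, hND hy⟩ hy)
        rw [hA', Subgroup.mem_bot] at this
        exact Subtype.ext this
      exact hMle.elim (main A hcA) (main B hcB)

/-- Huppert: a product of two cyclic groups is supersolvable. -/
theorem isSupersolvable_of_cyclic_product (A B : Subgroup G) [IsCyclic A] [IsCyclic B]
    (hAB : ∀ g : G, ∃ a ∈ A, ∃ b ∈ B, g = a * b) : Cfsg.IsSupersolvable G := by
  induction hn : Nat.card G using Nat.strong_induction_on generalizing G with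
  | _ n ih =>
    rcases subsingleton_or_nontrivial G with h | h
    · exact isSupersolvable_of_subsingleton
    obtain ⟨N, hNn, hN0, hle⟩ := exists_normal_le_factor A B hAB
    haveI : IsCyclic N := hle.elim (fun h => isCyclic_subgroup_of_le h)
      (fun h => isCyclic_subgroup_of_le h)
    set f := QuotientGroup.mk' N
    haveI : IsCyclic (A.map f) := isCyclic_of_surjective (f.subgroupMap A) (f.subgroupMap_surjective A)
    haveI : IsCyclic (B.map f) := isCyclic_of_surjective (f.subgroupMap B) (f.subgroupMap_surjective B)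
    refine isSupersolvable_of_quotient_cyclic N (ih _ (hn ▸ CfsgLib.Components.card_quotient_lt hN0)
      (A.map f) (B.map f) (fun q => ?_) rfl)
    obtain ⟨g, rfl⟩ := QuotientGroup.mk'_surjective N q
    obtain ⟨a, ha, b, hb, rfl⟩ := hAB g
    exact ⟨f a, ⟨a, ha, rfl⟩, f b, ⟨b, hb, rfl⟩, map_mul _ _ _⟩

end CfsgLib.SolvStruct
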