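import Mathlib
import Cfsg.Prelude.Def_SolvableStructure
import Cfsg.Agent.Lib.SolvStruct.Permute
import Cfsg.Agent.Lib.SolvStruct.NilProduct
import Cfsg.Agent.Lib.Core.Hall
import Cfsg.Agent.Lib.Core.HallConverse
import Cfsg.Agent.Lib.Core.MinNormal
import Cfsg.Agent.Lib.Core.Nilpotent
import Cfsg.Agent.Lib.Components.Subnormal

/-!
# Hall complement systems and system normalizers of finite solvable groups

* `exists_conj_system`: two systems agreeing modulo a normal subgroup `N` are conjugate by an
  element of `N`; `N = G` gives conjugacy of systems;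
* `systemNormalizer_map`, `systemNormalizer_isNilpotent`;
* covering of central chief factors and avoidance of eccentric ones.
-/

set_option autoImplicit false
set_option linter.style.haveILetI false

namespace CfsgLib.SolvStruct

open Pointwise

variable {G : Type*} [Group G]

theorem index_conj (g : G) (H : Subgroup G) :
    (MulAut.conj g • H : Subgroup G).index = H.index :=
  Subgroup.index_map_equiv H (MulAut.conj g)

theorem system_conj {K : Nat.Primes → Subgroup G} (hK : Cfsg.IsComplementSystem K) (g : G) :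
    Cfsg.IsComplementSystem fun p => MulAut.conj g • K p := fun p => by
  rw [index_conj]
  exact hK p

variable [Finite G]

theorem system_coprime {K : Nat.Primes → Subgroup G} (hK : Cfsg.IsComplementSystem K)
    (p : Nat.Primes) : (Nat.card (K p)).Coprime p := by
  refine (p.2.coprime_iff_not_dvd.mpr fun hd => ?_).symm
  have h1 : (p : ℕ) ^ ((Nat.card G).factorization p + 1) ∣ Nat.card G := by
    have h2 := mul_dvd_mul hd (dvd_refl (K p).index)
    rw [(K p).card_mul_index, hK p, ← pow_succ'] at h2
    exact h2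
  rw [p.2.pow_dvd_iff_le_factorization Nat.card_pos.ne'] at h1
  omega

omit [Finite G] in
theorem coprime_index_finset_inf {K : Nat.Primes → Subgroup G} {s : Finset Nat.Primes}
    {p : Nat.Primes} {e : Nat.Primes → ℕ} (hp : p ∉ s) :
    (∏ q ∈ s, (q : ℕ) ^ e q).Coprime p :=
  Nat.Coprime.prod_left fun q hq => Nat.Coprime.pow_left _
    ((Nat.coprime_primes q.2 p.2).mpr fun h => hp (Subtype.ext h ▸ hq))

/-- For a normal `N`, `|N : M ∩ N|` divides `|G : M|`. -/
theorem relIndex_dvd_of_normal (M N : Subgroup G) [N.Normal] : M.relIndex N ∣ M.index := by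
  have h3 : Nat.card ↥(M ⊓ N) * M.relIndex N = Nat.card N := by
    rw [← Subgroup.inf_relIndex_right M N, ← Subgroup.relIndex_bot_left (M ⊓ N),
      Subgroup.relIndex_mul_relIndex _ _ _ bot_le inf_le_right, Subgroup.relIndex_bot_left]
  have h2 := CfsgLib.Core.card_sup_mul_card_inf M N Subgroup.le_normalizer_of_normal
  refine Dvd.intro (M ⊔ N).index ?_
  refine Nat.eq_of_mul_eq_mul_left (Nat.card_pos (α := M)) ?_
  rw [M.card_mul_index, ← (M ⊔ N).card_mul_index, ← mul_assoc]
  congr 1
  refine Nat.eq_of_mul_eq_mul_right (Nat.card_pos (α := ↥(M ⊓ N))) ?_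
  rw [h2, ← h3]
  ring

/-- Two complement systems that agree modulo `N` are conjugate by an element of `N`. -/
theorem exists_conj_system [Group.IsSolvable G] (N : Subgroup G) [N.Normal]
    {K L : Nat.Primes → Subgroup G} (hK : Cfsg.IsComplementSystem K)
    (hL : Cfsg.IsComplementSystem L) (h : ∀ p, K p ⊔ N = L p ⊔ N) :
    ∃ g ∈ N, ∀ p, MulAut.conj g • K p = L p := by
  classical
  have key : ∀ s : Finset Nat.Primes, ∃ g ∈ N, ∀ p ∈ s, MulAut.conj g • K p = L p := by
    intro s
    induction s using Finset.induction with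
    | empty => exact ⟨1, one_mem _, fun p hp => absurd hp (Finset.notMem_empty p)⟩
    | insert p s hps ih =>
      obtain ⟨g, hg, hgs⟩ := ih
      set M := s.inf L with hM
      have hMi : M.index.Coprime p := by
        rw [hM, CfsgLib.Core.index_finset_inf L (fun q => (Nat.card G).factorization q) hL s]
        exact coprime_index_finset_inf (K := L) hps
      set K' := MulAut.conj g • K p with hK'
      set X := L p ⊔ N with hX
      have hK'X : K' ≤ X := by
        intro y hy
        rw [mem_conj_smul] at hy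
        have hgX : g ∈ X := Subgroup.mem_sup_right hg
        have h1 : g⁻¹ * y * g ∈ X := (h p).le (Subgroup.mem_sup_left hy)
        have := mul_mem (mul_mem hgX h1) (inv_mem hgX)
        rwa [show g * (g⁻¹ * y * g) * g⁻¹ = y by group] at this
      have hLX : L p ≤ X := le_sup_left
      have hK'i : K'.index = (p : ℕ) ^ (Nat.card G).factorization p := system_conj hK g p
      have hcardK : Nat.card K' = Nat.card (L p) := by
        refine Nat.eq_of_mul_eq_mul_right (Nat.pos_of_ne_zero (Subgroup.index_ne_zero_of_finite (H := L p))) ?_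
        rw [(L p).card_mul_index, hL p, ← hK'i, K'.card_mul_index]
      have hcop : (Nat.card ((L p).subgroupOf X)).Coprime ((L p).subgroupOf X).index := by
        rw [Nat.card_congr (Subgroup.subgroupOfEquivOfLe hLX).toEquiv]
        exact ((system_coprime hL p).pow_right _).coprime_dvd_right
          ((Subgroup.relIndex_dvd_index_of_le hLX).trans (hL p).dvd)
      obtain ⟨⟨x, hx⟩, hxK⟩ := CfsgLib.Core.exists_conj_eq_of_card_eq
        ((L p).subgroupOf X).card_mul_index.symm hcop (H := K'.subgroupOf X) (K := (L p).subgroupOf X)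
        (by rw [Nat.card_congr (Subgroup.subgroupOfEquivOfLe hK'X).toEquiv, hcardK,
          Nat.card_congr (Subgroup.subgroupOfEquivOfLe hLX).toEquiv]) rfl
      have hxK' : MulAut.conj x • K' = L p := by
        refine Subgroup.eq_of_le_of_card_ge (fun y hy => ?_) (by rw [card_conj, hcardK])
        rw [mem_conj_smul] at hy
        have hyX : y ∈ X := by
          have := mul_mem (mul_mem hx (hK'X hy)) (inv_mem hx)
          rwa [show x * (x⁻¹ * y * x) * x⁻¹ = y by group] at this
        have h1 : (⟨y, hyX⟩ : X) ∈ MulAut.conj (⟨x, hx⟩ : X) • K'.subgroupOf X := by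
          rw [mem_conj_smul, Subgroup.mem_subgroupOf]
          exact hy
        rwa [hxK, Subgroup.mem_subgroupOf] at h1
      -- replace `x` by an element of `N`
      have hLN : K' ⊔ N = X := by
        have h1 := congrArg (MulAut.conj g • ·) (h p)
        simp only [Subgroup.smul_sup] at h1
        rw [← hK', conj_smul_self_of_mem (Subgroup.le_normalizer_of_normal (K := ⊤)
          (Subgroup.mem_top g) : g ∈ Subgroup.normalizer (N : Set G))] at h1
        refine le_antisymm (sup_le hK'X le_sup_right) (sup_le (fun y hy => ?_) le_sup_right)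
        rw [h1]
        have hgX : g ∈ MulAut.conj g • L p ⊔ N := Subgroup.mem_sup_right hg
        have h2 : g * y * g⁻¹ ∈ MulAut.conj g • L p ⊔ N :=
          Subgroup.mem_sup_left (Subgroup.smul_mem_pointwise_smul y (MulAut.conj g) (L p) hy)
        have := mul_mem (mul_mem (inv_mem hgX) h2) hgX
        rwa [show g⁻¹ * (g * y * g⁻¹) * g = y by group] at this
      have hxmem : x ∈ ((N ⊔ K' : Subgroup G) : Set G) := by
        rw [sup_comm, hLN]
        exact hx
      rw [Subgroup.normal_mul] at hxmem
      obtain ⟨n, hn, k, hk, hnk⟩ := hxmem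
      have hnK : MulAut.conj n • K' = L p := by
        rw [← hxK', ← hnk]
        show MulAut.conj n • K' = MulAut.conj (n * k) • K'
        rw [map_mul, mul_smul, conj_smul_self_of_mem (Subgroup.le_normalizer hk)]
      -- split `n` along `M`
      have hco : (M.subgroupOf N).index.Coprime (K'.subgroupOf N).index := by
        have h1 : (M.subgroupOf N).index ∣ M.index := relIndex_dvd_of_normal M N
        have h2 : (K'.subgroupOf N).index ∣ (p : ℕ) ^ (Nat.card G).factorization p := by
          rw [← hK'i]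
          exact relIndex_dvd_of_normal K' N
        exact ((hMi.pow_right _).coprime_dvd_left h1).coprime_dvd_right h2
      obtain ⟨m, hm, k', hk', e⟩ := CfsgLib.Core.exists_mul_of_coprime_index hco ⟨n, hn⟩
      have e' : n = (m : G) * (k' : G) := congrArg Subtype.val e
      have hmK : MulAut.conj (m : G) • K' = L p := by
        rw [← hnK, e', map_mul, mul_smul, conj_smul_self_of_mem (Subgroup.le_normalizer
          (Subgroup.mem_subgroupOf.mp hk' : (k' : G) ∈ K'))]
      refine ⟨(m : G) * g, mul_mem m.2 hg, fun q hq => ?_⟩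
      rw [map_mul, mul_smul]
      rcases Finset.mem_insert.mp hq with rfl | hq
      · exact hmK
      · rw [hgs q hq]
        have : (m : G) ∈ L q := (Finset.inf_le hq : M ≤ L q) (Subgroup.mem_subgroupOf.mp hm)
        exact conj_smul_self_of_mem (Subgroup.le_normalizer this)
  obtain ⟨g, hg, hgs⟩ := key ((Finset.range (Nat.card G + 1)).subtype Nat.Prime)
  refine ⟨g, hg, fun p => ?_⟩
  by_cases hp : (p : ℕ) ∣ Nat.card G
  · exact hgs p (Finset.mem_subtype.mpr
      (Finset.mem_range.mpr (Nat.lt_succ_of_le (Nat.le_of_dvd Nat.card_pos hp))))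
  · have h1 : ∀ {S : Nat.Primes → Subgroup G}, Cfsg.IsComplementSystem S → S p = ⊤ := fun hS =>
      Subgroup.index_eq_one.mp (by rw [hS p, Nat.factorization_eq_zero_of_not_dvd hp, pow_zero])
    rw [h1 hK, h1 hL, eq_top_iff]
    intro y _
    rw [mem_conj_smul]
    trivial

theorem mem_systemNormalizer {K : Nat.Primes → Subgroup G} {x : G} :
    x ∈ Cfsg.systemNormalizer K ↔ ∀ p, x ∈ Subgroup.normalizer (K p : Set G) := by
  simp only [Cfsg.systemNormalizer, Subgroup.mem_iInf]

omit [Finite G] in
theorem index_map_mk (K N : Subgroup G) [N.Normal] :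
    (K.map (QuotientGroup.mk' N)).index = (K ⊔ N).index := by
  rw [Subgroup.index_map, QuotientGroup.ker_mk',
    MonoidHom.range_eq_top.mpr (QuotientGroup.mk'_surjective N), Subgroup.index_top, mul_one]

theorem system_map {K : Nat.Primes → Subgroup G} (hK : Cfsg.IsComplementSystem K) (N : Subgroup G)
    [N.Normal] : Cfsg.IsComplementSystem fun p => (K p).map (QuotientGroup.mk' N) := by
  intro p
  have hd : ((K p).map (QuotientGroup.mk' N)).index ∣ (p : ℕ) ^ (Nat.card G).factorization p := by
    rw [index_map_mk, ← hK p]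
    exact Subgroup.index_dvd_of_le le_sup_left
  obtain ⟨b, -, hb⟩ := (Nat.dvd_prime_pow p.2).mp hd
  show ((K p).map (QuotientGroup.mk' N)).index = _
  have hcop : ¬ (p : ℕ) ∣ Nat.card ((K p).map (QuotientGroup.mk' N)) :=
    p.2.coprime_iff_not_dvd.mp
      ((system_coprime hK p).coprime_dvd_left ((K p).card_map_dvd _)).symm
  rw [← ((K p).map (QuotientGroup.mk' N)).card_mul_index, Nat.factorization_mul
    Nat.card_pos.ne' Subgroup.index_ne_zero_of_finite, Finsupp.add_apply,
    Nat.factorization_eq_zero_of_not_dvd hcop, zero_add, hb, p.2.factorization_pow,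
    Finsupp.single_eq_same]

theorem systemNormalizer_map [Group.IsSolvable G] {K : Nat.Primes → Subgroup G}
    (hK : Cfsg.IsComplementSystem K) (N : Subgroup G) [N.Normal] :
    Cfsg.systemNormalizer (fun p => (K p).map (QuotientGroup.mk' N)) =
      (Cfsg.systemNormalizer K).map (QuotientGroup.mk' N) := by
  refine le_antisymm ?_ ?_
  · intro y hy
    obtain ⟨x, rfl⟩ := QuotientGroup.mk'_surjective N y
    rw [mem_systemNormalizer] at hy
    obtain ⟨n, hn, hnK⟩ := exists_conj_system N (system_conj hK x) hK fun p => by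
      have h1 := Subgroup.mem_normalizer_iff_map_conj_eq.mp (hy p)
      have h2 : ((MulAut.conj x • K p).map (QuotientGroup.mk' N)) =
          (K p).map (QuotientGroup.mk' N) := by
        refine Eq.trans ?_ h1
        show ((K p).map (MulAut.conj x).toMonoidHom).map _ = _
        rw [Subgroup.map_map, Subgroup.map_map]
        congr 1
      have h3 := congrArg (Subgroup.comap (QuotientGroup.mk' N)) h2
      rwa [Subgroup.comap_map_eq, Subgroup.comap_map_eq, QuotientGroup.ker_mk'] at h3
    refine ⟨n * x, mem_systemNormalizer.mpr fun p => ?_, ?_⟩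
    · refine Subgroup.mem_normalizer_iff_map_conj_eq.mpr ?_
      show MulAut.conj (n * x) • K p = K p
      rw [map_mul, mul_smul]
      exact hnK p
    · rw [map_mul, show QuotientGroup.mk' N n = 1 from (QuotientGroup.eq_one_iff _).mpr hn, one_mul]
  · rintro _ ⟨x, hx, rfl⟩
    rw [SetLike.mem_coe, mem_systemNormalizer] at hx
    exact mem_systemNormalizer.mpr fun p =>
      Subgroup.le_normalizer_map (QuotientGroup.mk' N) ⟨x, hx p, rfl⟩

theorem systemNormalizer_conj (K : Nat.Primes → Subgroup G) (g : G) :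
    Cfsg.systemNormalizer (fun p => MulAut.conj g • K p) =
      MulAut.conj g • Cfsg.systemNormalizer K := by
  ext x
  rw [mem_systemNormalizer, mem_conj_smul, mem_systemNormalizer]
  refine forall_congr' fun p => ?_
  rw [Subgroup.mem_normalizer_iff_map_conj_eq, Subgroup.mem_normalizer_iff_map_conj_eq]
  show MulAut.conj x • MulAut.conj g • K p = MulAut.conj g • K p ↔
    MulAut.conj (g⁻¹ * x * g) • K p = K p
  rw [← mul_smul, ← map_mul]
  constructor
  · intro h
    rw [mul_assoc, map_mul, mul_smul, h, ← mul_smul, ← map_mul, inv_mul_cancel, map_one, one_smul]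
  · intro h
    conv_rhs => rw [← h]
    rw [← mul_smul, ← map_mul]
    congr 2
    group

/-- An element normalising `K p` of order prime to `p`... lies in `K p` if it is a `q`-element,
`q ≠ p`. -/
theorem mem_of_normalizes {K : Nat.Primes → Subgroup G} (hK : Cfsg.IsComplementSystem K)
    {p : Nat.Primes} {x : G} (hx : x ∈ Subgroup.normalizer (K p : Set G))
    (hc : (orderOf x).Coprime p) : x ∈ K p := by
  set M := Subgroup.normalizer (K p : Set G) with hM
  rw [← Subgroup.mem_subgroupOf (K := M) (h := ⟨x, hx⟩), ← QuotientGroup.eq_one_iff,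
    ← orderOf_eq_one_iff]
  refine Nat.eq_one_of_dvd_coprimes (hc.pow_right ((Nat.card G).factorization p)) ?_ ?_
  · exact (orderOf_map_dvd (QuotientGroup.mk' _) (⟨x, hx⟩ : M)).trans (Subgroup.orderOf_mk _ _).dvd
  · rw [← hK p]
    refine dvd_trans ?_ (Subgroup.relIndex_dvd_index_of_le (Subgroup.le_normalizer : K p ≤ M))
    rw [Subgroup.relIndex, Subgroup.index_eq_card]
    exact orderOf_dvd_natCard _

theorem systemNormalizer_isNilpotent {K : Nat.Primes → Subgroup G}
    (hK : Cfsg.IsComplementSystem K) : Group.IsNilpotent (Cfsg.systemNormalizer K) := by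
  set D := Cfsg.systemNormalizer K with hD
  refine ((Group.isNilpotent_of_finite_tfae (G := D)).out 0 3).mpr fun q hq Q => ?_
  haveI := hq
  set S : Subgroup G := ⨅ p : {p : Nat.Primes // (p : ℕ) ≠ q}, K p with hS
  have hDS : D ≤ Subgroup.normalizer (S : Set G) := by
    intro d hd
    refine mem_normalizer_of_conj_le fun y hy => ?_
    rw [mem_conj_smul, hS, Subgroup.mem_iInf] at hy
    rw [hS, Subgroup.mem_iInf]
    intro p
    have := (Subgroup.mem_normalizer_iff.mp (mem_systemNormalizer.mp hd p) _).mp (hy p)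
    rwa [show d * (d⁻¹ * y * d) * d⁻¹ = y by group] at this
  have hQS : (Q : Subgroup D) ≤ S.subgroupOf D := by
    intro x hx
    rw [Subgroup.mem_subgroupOf, hS, Subgroup.mem_iInf]
    intro p
    refine mem_of_normalizes hK (mem_systemNormalizer.mp x.2 p) ?_
    obtain ⟨i, hi⟩ := IsPGroup.iff_orderOf.mp Q.isPGroup' ⟨x, hx⟩
    rw [Subgroup.orderOf_mk] at hi
    rw [Subgroup.orderOf_coe, hi]
    exact Nat.Coprime.pow_left _ ((Nat.coprime_primes hq.out p.1.2).mpr (Ne.symm p.2))
  have hSq : IsPGroup q (S.subgroupOf D) := by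
    have h1 : IsPGroup q S := by
      refine IsPGroup.of_card (n := (Nat.card S).factorization q) ?_
      refine Nat.eq_pow_of_factorization_eq_single Nat.card_pos.ne' ?_ |>.trans rfl
      ext r
      by_cases hrq : r = q
      · subst hrq; rw [Finsupp.single_eq_same]
      · rw [Finsupp.single_eq_of_ne hrq]
        by_cases hr : r.Prime
        · refine Nat.factorization_eq_zero_of_not_dvd fun hd => ?_
          have hle : S ≤ K ⟨r, hr⟩ := iInf_le (fun p : {p : Nat.Primes // (p : ℕ) ≠ q} => K p)
            ⟨⟨r, hr⟩, hrq⟩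
          exact hr.coprime_iff_not_dvd.mp (system_coprime hK ⟨r, hr⟩).symm
            (hd.trans (Subgroup.card_dvd_of_le hle))
        · exact Nat.factorization_eq_zero_of_not_prime _ hr
    exact IsPGroup.comap_of_injective h1 D.subtype D.subtype_injective
  haveI hn : (S.subgroupOf D).Normal := Subgroup.normal_subgroupOf_of_le_normalizer hDS
  rw [← Q.is_maximal' hSq hQS]
  exact hn

omit [Finite G] in
theorem center_le_systemNormalizer (K : Nat.Primes → Subgroup G) {x : G}
    (hx : x ∈ Subgroup.center G) : x ∈ Cfsg.systemNormalizer K := by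
  simp only [Cfsg.systemNormalizer, Subgroup.mem_iInf]
  intro p
  exact Subgroup.center_le_normalizer _ hx

/-- A noncentral minimal normal subgroup meets the system normalizer trivially. -/
theorem inf_systemNormalizer_eq_bot [Group.IsSolvable G] {K : Nat.Primes → Subgroup G}
    (hK : Cfsg.IsComplementSystem K) {N : Subgroup G} [N.Normal] (hN : N ≠ ⊥)
    (hmin : ∀ M : Subgroup G, M.Normal → M ≤ N → M = ⊥ ∨ M = N)
    (hnc : ¬ N ≤ Subgroup.center G) : N ⊓ Cfsg.systemNormalizer K = ⊥ := by
  obtain ⟨p, hp, hNp, hNc, -⟩ := CfsgLib.Core.isPGroup_of_minimal_normal N inferInstance hN hmin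
  haveI := hNc
  haveI := Fact.mk hp
  set P : Nat.Primes := ⟨p, hp⟩
  obtain ⟨k, hk⟩ := hNp.exists_card_eq
  have hNK : N ⊓ K P = ⊥ := Subgroup.inf_eq_bot_of_coprime
    (hk ▸ (system_coprime hK P).symm.pow_left k)
  rw [eq_bot_iff]
  rintro b ⟨hbN, hbD⟩
  have hbK : ∀ y ∈ K P, y * b = b * y := by
    intro y hy
    have h1 : b * y * b⁻¹ ∈ K P :=
      (Subgroup.mem_normalizer_iff.mp (mem_systemNormalizer.mp hbD P) y).mp hy
    have h2 : b * y * b⁻¹ * y⁻¹ ∈ N ⊓ K P := by
      refine Subgroup.mem_inf.mpr ⟨?_, mul_mem h1 (inv_mem hy)⟩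
      have := mul_mem hbN ((inferInstance : N.Normal).conj_mem _ (inv_mem hbN) y)
      rwa [show b * (y * b⁻¹ * y⁻¹) = b * y * b⁻¹ * y⁻¹ by group] at this
    rw [hNK, Subgroup.mem_bot] at h2
    exact (mul_inv_eq_iff_eq_mul.mp (mul_inv_eq_one.mp h2)).symm
  by_contra hb1
  rw [Subgroup.mem_bot] at hb1
  set C := Subgroup.centralizer (N : Set G) with hC
  haveI : C.Normal := by rw [hC]; infer_instance
  have hCt : C ≠ ⊤ := fun e => hnc fun y hy => Subgroup.mem_center_iff.mpr fun g =>
    (Subgroup.mem_centralizer_iff.mp (e ▸ Subgroup.mem_top g : g ∈ C) y hy).symm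
  haveI : Nontrivial (G ⧸ C) := by
    rw [← Finite.one_lt_card_iff_nontrivial, ← Subgroup.index_eq_card]
    exact Subgroup.one_lt_index_of_ne_top hCt
  obtain ⟨L₀, hL₀n, hL₀0, hL₀min⟩ := CfsgLib.Components.exists_minimal_normal (G := G ⧸ C)
  haveI := hL₀n
  obtain ⟨r, hr, hLr, -, -⟩ :=
    CfsgLib.Core.isPGroup_of_minimal_normal L₀ inferInstance hL₀0 hL₀min
  haveI := Fact.mk hr
  set L := L₀.comap (QuotientGroup.mk' C) with hL
  haveI : L.Normal := Subgroup.Normal.comap hL₀n _
  -- a normal subgroup of fixed points is everything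
  have hfix : ∀ u ∈ N, u ≠ 1 → (∀ y ∈ L, y * u = u * y) → False := by
    intro u hu hu1 hLu
    set U := N ⊓ Subgroup.centralizer (L : Set G) with hU
    have hUn : U.Normal := by rw [hU]; infer_instance
    rcases hmin U hUn inf_le_left with h | h
    · exact hu1 (Subgroup.mem_bot.mp (h ▸ ⟨hu, Subgroup.mem_centralizer_iff.mpr hLu⟩))
    · refine hL₀0 (le_bot_iff.mp ?_)
      rw [← Subgroup.map_comap_eq_self_of_surjective (QuotientGroup.mk'_surjective C) L₀, ← hL]
      rintro _ ⟨y, hy, rfl⟩
      refine Subgroup.mem_bot.mpr ((QuotientGroup.eq_one_iff _).mpr ?_)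
      rw [hC, Subgroup.mem_centralizer_iff]
      intro v hv
      exact (Subgroup.mem_centralizer_iff.mp (h.ge hv).2 y hy).symm
  by_cases hrp : r = p
  · subst hrp
    obtain ⟨S⟩ : Nonempty (Sylow r L) := inferInstance
    set S' := (S : Subgroup L).map L.subtype with hS'
    have hp2 : IsPGroup r (S' ⊔ N : Subgroup G) :=
      (S.isPGroup'.map _).to_sup_of_normal_right hNp
    haveI := hp2.isNilpotent
    have hne : N.subgroupOf (S' ⊔ N) ≠ ⊥ := fun e => hN (by
      rw [← Subgroup.map_subgroupOf_eq_of_le (le_sup_right : N ≤ S' ⊔ N), e, Subgroup.map_bot])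
    obtain ⟨⟨u, hu⟩, hu1⟩ := (Subgroup.ne_bot_iff_exists_ne_one).mp
      (CfsgLib.Core.inf_center_ne_bot_of_isNilpotent _ hne)
    have hu1' : (u : G) ≠ 1 := fun e => hu1 (Subtype.ext (Subtype.ext e))
    refine hfix u hu.1 hu1' fun y hy => ?_
    have hLeq : (⊤ : Subgroup L) = (S : Subgroup L) ⊔ C.subgroupOf L := by
      symm
      rw [← Subgroup.index_eq_one]
      refine Nat.eq_one_of_dvd_coprimes (a := (C.subgroupOf L).index) ?_
        (Subgroup.index_dvd_of_le le_sup_right)
        ((Subgroup.index_dvd_of_le le_sup_left).trans (dvd_refl (S : Subgroup L).index))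
      have hCL : (C.subgroupOf L).index = Nat.card L₀ := by
        show C.relIndex L = _
        rw [← CfsgLib.Core.card_map_mk' C L, hL,
          Subgroup.map_comap_eq_self_of_surjective (QuotientGroup.mk'_surjective C)]
      obtain ⟨j, hj⟩ := hLr.exists_card_eq
      rw [hCL, hj]
      exact Nat.Coprime.pow_left _ (hr.coprime_iff_not_dvd.mpr S.not_dvd_index)
    have hle : (S : Subgroup L) ⊔ C.subgroupOf L ≤
        (Subgroup.centralizer ({(u : G)} : Set G)).subgroupOf L := by
      refine sup_le (fun s hs => ?_) (fun s hs => ?_) <;>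
        rw [Subgroup.mem_subgroupOf, Subgroup.mem_centralizer_singleton_iff]
      · exact congrArg Subtype.val (Subgroup.mem_center_iff.mp hu.2
          ⟨s, Subgroup.mem_sup_left ⟨s, hs, rfl⟩⟩)
      · exact (Subgroup.mem_centralizer_iff.mp (Subgroup.mem_subgroupOf.mp hs) _ hu.1).symm
    exact Subgroup.mem_centralizer_singleton_iff.mp
      (hle (hLeq.le (Subgroup.mem_top (⟨y, hy⟩ : L))))
  · refine hfix b hbN hb1 fun y hy => ?_
    have hle : L₀ ≤ (K P).map (QuotientGroup.mk' C) := by
      refine CfsgLib.Core.le_of_coprime_index Subgroup.le_normalizer_of_normal ?_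
      obtain ⟨j, hj⟩ := hLr.exists_card_eq
      have h := system_map hK C P
      simp only at h
      rw [h, hj]
      exact Nat.Coprime.pow _ _ ((Nat.coprime_primes hr hp).mpr hrp)
    obtain ⟨c, hc, e⟩ := hle (Subgroup.mem_comap.mp hy)
    have h1 : c⁻¹ * y ∈ C := QuotientGroup.eq.mp e
    have h2 : c⁻¹ * y * b = b * (c⁻¹ * y) := (Subgroup.mem_centralizer_iff.mp h1 b hbN).symm
    calc y * b = c * (c⁻¹ * y * b) := by group
      _ = (c * b) * (c⁻¹ * y) := by rw [h2]; group
      _ = b * y := by rw [hbK c hc]; group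

/-- A system normalizer covers central chief factors and avoids the others. -/
theorem systemNormalizer_covers_avoids [Group.IsSolvable G] {K : Nat.Primes → Subgroup G}
    (hK : Cfsg.IsComplementSystem K) {A B : Subgroup G} [A.Normal] [B.Normal] (hAB : A < B)
    (hchief : ∀ N : Subgroup G, N.Normal → A ≤ N → N ≤ B → N = A ∨ N = B) :
    (⁅B, (⊤ : Subgroup G)⁆ ≤ A → B ≤ A ⊔ Cfsg.systemNormalizer K) ∧
      (¬ ⁅B, (⊤ : Subgroup G)⁆ ≤ A → B ⊓ Cfsg.systemNormalizer K ≤ A) := by
  set f := QuotientGroup.mk' A with hf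
  set B' := B.map f with hB'
  haveI : B'.Normal := Subgroup.Normal.map inferInstance f (QuotientGroup.mk'_surjective A)
  have hcomap : B'.comap f = B := by
    rw [hB', Subgroup.comap_map_eq, hf, QuotientGroup.ker_mk', sup_eq_left.mpr hAB.le]
  have hcent : ⁅B, (⊤ : Subgroup G)⁆ ≤ A ↔ B' ≤ Subgroup.center (G ⧸ A) := by
    have h1 : A = f.ker := by rw [hf, QuotientGroup.ker_mk']
    conv_lhs => rw [h1]
    rw [← Subgroup.map_eq_bot_iff, Subgroup.map_commutator,
      Subgroup.map_top_of_surjective f (QuotientGroup.mk'_surjective A),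
      Subgroup.commutator_eq_bot_iff_le_centralizer, Subgroup.coe_top,
      Subgroup.centralizer_univ]
  refine ⟨fun h => ?_, fun h => ?_⟩
  · have h1 : B' ≤ (Cfsg.systemNormalizer K).map f := by
      rw [hf, ← systemNormalizer_map hK A]
      exact fun y hy => center_le_systemNormalizer _ (hcent.mp h hy)
    have h2 := Subgroup.comap_mono (f := f) h1
    rw [hcomap, Subgroup.comap_map_eq, hf, QuotientGroup.ker_mk', sup_comm] at h2
    exact h2
  · have hB0 : B' ≠ ⊥ := fun e => hAB.ne (le_antisymm hAB.le (by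
      rw [← hcomap, e, MonoidHom.comap_bot, hf, QuotientGroup.ker_mk']))
    have hmin : ∀ M : Subgroup (G ⧸ A), M.Normal → M ≤ B' → M = ⊥ ∨ M = B' := by
      intro M hM hMB
      have h1 : A ≤ M.comap f := by
        conv_lhs => rw [← QuotientGroup.ker_mk' A]
        exact Subgroup.ker_le_comap _ _
      have h2 : M.comap f ≤ B := hcomap ▸ Subgroup.comap_mono hMB
      rw [← Subgroup.map_comap_eq_self_of_surjective (QuotientGroup.mk'_surjective A) M, ← hf]
      rcases hchief _ (hM.comap f) h1 h2 with e | e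
      · left; rw [e, hf, QuotientGroup.map_mk'_self]
      · right; rw [e]
    have h1 := inf_systemNormalizer_eq_bot (system_map hK A) hB0 hmin (mt hcent.mpr h)
    rw [systemNormalizer_map hK A] at h1
    rintro y ⟨hyB, hyD⟩
    have h2 : f y ∈ B' ⊓ (Cfsg.systemNormalizer K).map (QuotientGroup.mk' A) :=
      ⟨⟨y, hyB, rfl⟩, ⟨y, hyD, rfl⟩⟩
    rw [h1, Subgroup.mem_bot] at h2
    exact (QuotientGroup.eq_one_iff _).mp h2

theorem normalClosure_systemNormalizer [Group.IsSolvable G] {K : Nat.Primes → Subgroup G}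
    (hK : Cfsg.IsComplementSystem K) :
    Subgroup.normalClosure ((Cfsg.systemNormalizer K : Subgroup G) : Set G) = ⊤ := by
  set E := Subgroup.normalClosure ((Cfsg.systemNormalizer K : Subgroup G) : Set G) with hE
  by_contra hne
  haveI : Nontrivial (G ⧸ E) := by
    rw [← Finite.one_lt_card_iff_nontrivial, ← Subgroup.index_eq_card]
    exact Subgroup.one_lt_index_of_ne_top hne
  have h1 : commutator (G ⧸ E) ≠ ⊤ := (Group.IsSolvable.commutator_lt_top_of_nontrivial _).ne
  obtain ⟨M₀, hM₀, hle⟩ := (eq_top_or_exists_le_coatom (commutator (G ⧸ E))).resolve_left h1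
  set M := M₀.comap (QuotientGroup.mk' E) with hM
  have hMc : IsCoatom M := Subgroup.isCoatom_comap_of_surjective (QuotientGroup.mk'_surjective E) hM₀
  have hcomm : ⁅(⊤ : Subgroup G), (⊤ : Subgroup G)⁆ ≤ M := by
    rw [hM, ← Subgroup.map_le_iff_le_comap, Subgroup.map_commutator,
      Subgroup.map_top_of_surjective _ (QuotientGroup.mk'_surjective E)]
    exact hle
  haveI : M.Normal := by
    refine ⟨fun m hm g => ?_⟩
    have h2 : g * m * g⁻¹ * m⁻¹ ∈ M := hcomm (Subgroup.commutator_mem_commutator
      (Subgroup.mem_top g) (Subgroup.mem_top m))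
    have := mul_mem h2 hm
    rwa [inv_mul_cancel_right] at this
  have hDM : Cfsg.systemNormalizer K ≤ M := fun y hy => by
    rw [hM, Subgroup.mem_comap, show QuotientGroup.mk' E y = 1 from
      (QuotientGroup.eq_one_iff _).mpr (Subgroup.subset_normalClosure hy)]
    exact one_mem _
  have := (systemNormalizer_covers_avoids hK (lt_top_iff_ne_top.mpr hMc.1)
    fun N _ h2 _ => (hMc.le_iff.mp h2).symm.imp id id).1 hcomm
  exact hMc.1 (eq_top_iff.mpr (this.trans (sup_le le_rfl hDM)))

end CfsgLib.SolvStruct
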