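import Mathlib
import Cfsg.Prelude.Def_SolvableStructure
import Cfsg.Agent.Lib.Core.Carter
import Cfsg.Agent.Lib.SolvStruct.SystemNormalizer
import Cfsg.Agent.S0045

/-!
# Carter subgroups and system normalizers

* `exists_system_le_carter`, `exists_carter_ge`: Carter subgroups contain system normalizers and
  system normalizers lie in Carter subgroups;
* `carter_eq_systemNormalizer`: equality when the nilpotent length is at most two.
-/

set_option autoImplicit false
set_option linter.style.haveILetI false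

namespace CfsgLib.SolvStruct

open Pointwise

universe u

variable {G : Type u} [Group G] [Finite G]

omit [Finite G] in
theorem card_mul_relIndex {S C : Subgroup G} (h : S ≤ C) :
    Nat.card S * S.relIndex C = Nat.card C := by
  rw [← Subgroup.relIndex_bot_left S, Subgroup.relIndex_mul_relIndex _ _ _ bot_le h,
    Subgroup.relIndex_bot_left]

theorem relIndex_sup_dvd {S C : Subgroup G} (N : Subgroup G) [N.Normal] (h : S ≤ C) :
    (S ⊔ N).relIndex (C ⊔ N) ∣ S.relIndex C := by
  have h1 := card_mul_relIndex (sup_le_sup_right h N : S ⊔ N ≤ C ⊔ N)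
  have h2 := card_mul_relIndex (inf_le_inf_right N h : S ⊓ N ≤ C ⊓ N)
  have h3 := card_mul_relIndex h
  have h4 := CfsgLib.Core.card_sup_mul_card_inf S N Subgroup.le_normalizer_of_normal
  have h5 := CfsgLib.Core.card_sup_mul_card_inf C N Subgroup.le_normalizer_of_normal
  refine Dvd.intro ((S ⊓ N).relIndex (C ⊓ N)) ?_
  refine Nat.eq_of_mul_eq_mul_left (Nat.mul_pos (Nat.card_pos (α := S)) (Nat.card_pos (α := N))) ?_
  calc _ = (Nat.card ↥(S ⊔ N) * (S ⊔ N).relIndex (C ⊔ N)) *
        (Nat.card ↥(S ⊓ N) * (S ⊓ N).relIndex (C ⊓ N)) := by rw [← h4]; ring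
    _ = Nat.card C * Nat.card N := by rw [h1, h2, h5]
    _ = _ := by rw [← h3]; ring

/-- A subgroup whose order is prime to `p` and whose index is prime to every other prime has
index the exact power of `p`. -/
theorem index_eq_pow {H : Subgroup G} {p : ℕ} (hp : p.Prime) (hc : ¬ p ∣ Nat.card H)
    (hi : ∀ r : ℕ, r.Prime → r ∣ H.index → r = p) :
    H.index = p ^ (Nat.card G).factorization p := by
  have h1 := Nat.eq_prime_pow_of_unique_prime_dvd (Subgroup.index_ne_zero_of_finite (H := H))
    (p := p) fun {d} hd hdi => hi d hd hdi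
  rw [h1]
  congr 1
  rw [← H.card_mul_index, Nat.factorization_mul Nat.card_pos.ne' Subgroup.index_ne_zero_of_finite,
    Finsupp.add_apply, Nat.factorization_eq_zero_of_not_dvd hc, zero_add, h1, hp.factorization_pow,
    Finsupp.single_eq_same, ← h1]

theorem carter_map [Group.IsSolvable G] {C : Subgroup G} (hC : Cfsg.IsCarterSubgroup C)
    (N : Subgroup G) [N.Normal] :
    Cfsg.IsCarterSubgroup (C.map (QuotientGroup.mk' N)) := by
  haveI := hC.1
  refine ⟨CfsgLib.Core.isNilpotent_map _ C, le_antisymm (fun x hx => ?_) Subgroup.le_normalizer⟩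
  obtain ⟨g, rfl⟩ := QuotientGroup.mk'_surjective N x
  have hsub : (C.map (QuotientGroup.mk' N)).comap (QuotientGroup.mk' N) = C ⊔ N := by
    rw [Subgroup.comap_map_eq, QuotientGroup.ker_mk']
  rw [← Subgroup.mem_comap, hsub]
  set L := C ⊔ N with hL
  have hgL : MulAut.conj g • C ≤ L := by
    intro y hy
    rw [mem_conj_smul] at hy
    rw [← hsub, Subgroup.mem_comap]
    have h2 := (Subgroup.mem_normalizer_iff.mp hx _).mp (Subgroup.mem_map_of_mem (QuotientGroup.mk' N) hy)
    simpa [mul_assoc] using h2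
  have hCg : Cfsg.IsCarterSubgroup (MulAut.conj g • C : Subgroup G) := by
    refine ⟨Group.nilpotent_of_mulEquiv (Subgroup.equivSMul (MulAut.conj g) C), ?_⟩
    conv_rhs => rw [← hC.2]
    exact (Subgroup.map_equiv_normalizer_eq C (MulAut.conj g)).symm
  haveI := hCg.1
  obtain ⟨x, hxL, hxe⟩ := CfsgLib.Core.Carter.conj_of_subgroup hCg.2 hC.2 hgL le_sup_left
    (L := L) (Cfsg.Agent.S0045.result).2
  rw [← mul_smul, ← map_mul] at hxe
  have h1 : x * g ∈ Subgroup.normalizer (C : Set G) :=
    Subgroup.mem_normalizer_iff_map_conj_eq.mpr hxe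
  rw [hC.2] at h1
  simpa using mul_mem (inv_mem hxL) (Subgroup.mem_sup_left (T := N) h1)

theorem exists_pow_preimage {H : Type*} [Group H] (f : G →* H) {p : ℕ} (hp : p.Prime) (c : G)
    (hc : (orderOf (f c)).Coprime p) :
    ∃ k : ℕ, (orderOf (c ^ k)).Coprime p ∧ f (c ^ k) = f c := by
  have hpos : orderOf c ≠ 0 := (orderOf_pos c).ne'
  obtain ⟨a, r, hr, hrc⟩ := Nat.exists_eq_pow_mul_and_not_dvd hpos p hp.ne_one
  have hm : (p ^ a).Coprime (orderOf (f c)) := (hc.symm).pow_left a
  obtain ⟨k, hk⟩ := exists_pow_eq_self_of_coprime hm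
  refine ⟨p ^ a * k, ?_, ?_⟩
  · have h1 : (c ^ (p ^ a * k)) ^ r = 1 := by
      rw [← pow_mul, show p ^ a * k * r = orderOf c * k by rw [hrc]; ring, pow_mul,
        pow_orderOf_eq_one, one_pow]
    exact (hp.coprime_iff_not_dvd.mpr fun h => hr (h.trans (orderOf_dvd_of_pow_eq_one h1))).symm
  · rw [map_pow, pow_mul]
    exact hk

private theorem le_carter_aux (n : ℕ) :
    ∀ (G : Type u) [Group G] [Finite G] [Group.IsSolvable G], Nat.card G = n →
      ∀ C : Subgroup G, Cfsg.IsCarterSubgroup C → ∀ K : Nat.Primes → Subgroup G,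
      Cfsg.IsComplementSystem K →
      (∀ p : Nat.Primes, ∀ c ∈ C, (orderOf c).Coprime p → c ∈ K p) →
      Cfsg.systemNormalizer K ≤ C := by
  induction n using Nat.strong_induction_on with
  | _ n ih =>
  intro G _ _ _ hn C hC K hK hCK
  subst hn
  rcases subsingleton_or_nontrivial G with hG | hG
  · exact fun x _ => (Subsingleton.elim x 1) ▸ one_mem _
  haveI := hC.1
  obtain ⟨N, hNn, hN0, -, hmin⟩ :=
    CfsgLib.Core.exists_minimal_normal_le' (⊤ : Subgroup G) top_ne_bot
  haveI := hNn
  obtain ⟨q, hq, hNq, hNc, -⟩ := CfsgLib.Core.isPGroup_of_minimal_normal N inferInstance hN0 hmin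
  haveI := hNc
  haveI := Fact.mk hq
  obtain ⟨j, hj⟩ := hNq.exists_card_eq
  have hNle : ∀ p : Nat.Primes, (p : ℕ) ≠ q → N ≤ K p := fun p hp =>
    CfsgLib.Core.le_of_coprime_index Subgroup.le_normalizer_of_normal (by
      rw [hj, hK p]
      exact Nat.Coprime.pow _ _ ((Nat.coprime_primes hq p.2).mpr (Ne.symm hp)))
  -- first `D ≤ C ⊔ N`
  have hDH : Cfsg.systemNormalizer K ≤ C ⊔ N := by
    have h1 := ih (Nat.card (G ⧸ N)) (CfsgLib.Core.card_quotient_lt N hN0) (G ⧸ N) rfl _
      (carter_map hC N) _ (system_map hK N) (by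
        rintro p _ ⟨c, hc, rfl⟩ hord
        obtain ⟨k, hk, e⟩ := exists_pow_preimage (QuotientGroup.mk' N) p.2 c hord
        exact ⟨c ^ k, hCK p _ (pow_mem hc k) hk, e⟩)
    rw [systemNormalizer_map hK N] at h1
    have h2 := Subgroup.map_le_iff_le_comap.mp h1
    rwa [Subgroup.comap_map_eq, QuotientGroup.ker_mk'] at h2
  by_cases hH : C ⊔ N = ⊤
  · set Q : Nat.Primes := ⟨q, hq⟩ with hQ
    have hi : (C ⊓ N).Normal := by
      rw [← Subgroup.normalizer_eq_top_iff, eq_top_iff, ← hH]
      refine sup_le (fun c hc => mem_normalizer_of_conj_le fun y hy => ?_) ?_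
      · rw [mem_conj_smul] at hy
        have h1 := mul_mem (mul_mem hc hy.1) (inv_mem hc)
        have h2 := hNn.conj_mem _ hy.2 c
        rw [show c * (c⁻¹ * y * c) * c⁻¹ = y by group] at h1 h2
        exact ⟨h1, h2⟩
      · intro n hn
        refine mem_normalizer_of_conj_le fun y hy => ?_
        rw [mem_conj_smul] at hy
        have h1 : n⁻¹ * y * n * n = n * (n⁻¹ * y * n) :=
          congrArg Subtype.val (hNc.is_comm.comm ⟨_, hy.2⟩ ⟨n, hn⟩)
        have h2 : n⁻¹ * y * n = y := by
          conv_rhs => rw [show y = n * (n⁻¹ * y * n) * n⁻¹ by group, ← h1]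
          group
        rwa [h2] at hy
    rcases hmin _ hi inf_le_right with h0 | h0
    swap
    · rw [sup_eq_left.mpr (h0.ge.trans inf_le_left)] at hH
      rw [hH]
      exact le_top
    obtain ⟨S, P, hSC, hPC, hScop, hPp, hSP, hCS, hsplit, helt⟩ :=
      CfsgLib.Core.Carter.nilpotent_split (C := C) q
    have hcardG : Nat.card G = Nat.card C * Nat.card N := by
      rw [← CfsgLib.Core.card_sup_of_disjoint C N Subgroup.le_normalizer_of_normal h0, hH,
        Subgroup.card_top]
    have hSK : K Q = S := by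
      symm
      have hle : S ≤ K Q := fun s hs => hCK Q s (hSC hs)
        (hScop.coprime_dvd_left (S.orderOf_dvd_natCard hs))
      refine Subgroup.eq_of_le_of_card_ge hle (Nat.le_of_dvd Nat.card_pos ?_)
      have h1 : Nat.card (K Q) ∣ Nat.card G := (K Q).card_subgroup_dvd_card
      have h2 : Nat.card C ∣ Nat.card S * Nat.card P := by
        have : C = S ⊔ P := le_antisymm (fun c hc => by
          obtain ⟨s, hs, x, hx, rfl⟩ := hsplit c hc
          exact Subgroup.mul_mem_sup hs hx) (sup_le hSC hPC)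
        rw [this, mul_comm, sup_comm]
        exact CfsgLib.Core.card_sup_dvd P S (hPC.trans hCS)
      obtain ⟨i, hi'⟩ := hPp.exists_card_eq
      have h3 : Nat.card (K Q) ∣ Nat.card S * q ^ (i + j) := by
        refine h1.trans ?_
        rw [hcardG, hj, pow_add, ← mul_assoc, ← hi']
        exact mul_dvd_mul_right h2 _
      exact ((system_coprime hK Q).pow_right _).dvd_of_dvd_mul_right h3
    intro x hx
    have hxS : x ∈ Subgroup.normalizer (S : Set G) := hSK ▸ mem_systemNormalizer.mp hx Q
    suffices h : Subgroup.normalizer (S : Set G) ⊓ N = ⊥ by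
      have hxH : x ∈ ((C ⊔ N : Subgroup G) : Set G) := hDH hx
      rw [Subgroup.mul_normal] at hxH
      obtain ⟨c, hc, n, hn, rfl⟩ := hxH
      have : n ∈ Subgroup.normalizer (S : Set G) ⊓ N := by
        refine Subgroup.mem_inf.mpr ⟨?_, hn⟩
        have := mul_mem (inv_mem (hCS hc)) hxS
        rwa [inv_mul_cancel_left] at this
      rw [h, Subgroup.mem_bot] at this
      rw [this]
      simpa using hc
    by_contra hne
    obtain ⟨⟨n₀, hn₀⟩, hn0⟩ := (Subgroup.ne_bot_iff_exists_ne_one).mp hne
    have hM : (Subgroup.normalizer (S : Set G) ⊓ N).Normal := by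
      rw [← Subgroup.normalizer_eq_top_iff, eq_top_iff, ← hH]
      refine sup_le (fun c hc => mem_normalizer_of_conj_le fun y hy => ?_) ?_
      · rw [mem_conj_smul] at hy
        have h1 := mul_mem (mul_mem (hCS hc) hy.1) (inv_mem (hCS hc))
        have h2 := hNn.conj_mem _ hy.2 c
        rw [show c * (c⁻¹ * y * c) * c⁻¹ = y by group] at h1 h2
        exact ⟨h1, h2⟩
      · intro n hn
        refine mem_normalizer_of_conj_le fun y hy => ?_
        rw [mem_conj_smul] at hy
        have h1 : n⁻¹ * y * n * n = n * (n⁻¹ * y * n) :=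
          congrArg Subtype.val (hNc.is_comm.comm ⟨_, hy.2⟩ ⟨n, hn⟩)
        have h2 : n⁻¹ * y * n = y := by
          conv_rhs => rw [show y = n * (n⁻¹ * y * n) * n⁻¹ by group, ← h1]
          group
        rwa [h2] at hy
    have hMN : N ≤ Subgroup.normalizer (S : Set G) :=
      ((hmin _ hM inf_le_right).resolve_left hne).ge.trans inf_le_left
    have hcommS : ∀ s ∈ S, ∀ y ∈ N, s * y = y * s :=
      CfsgLib.Core.Carter.commute_of_inf_eq_bot Subgroup.le_normalizer_of_normal hMN
        (Subgroup.inf_eq_bot_of_coprime (hj ▸ hScop.pow_right j))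
    have hpN : IsPGroup q (P ⊔ N : Subgroup G) := hPp.to_sup_of_normal_right hNq
    haveI := hpN.isNilpotent
    have hne' : N.subgroupOf (P ⊔ N) ≠ ⊥ := fun e => hN0 (by
      rw [← Subgroup.map_subgroupOf_eq_of_le (le_sup_right : N ≤ P ⊔ N), e, Subgroup.map_bot])
    obtain ⟨⟨⟨u, huPN⟩, hu⟩, hu1⟩ := (Subgroup.ne_bot_iff_exists_ne_one).mp
      (CfsgLib.Core.inf_center_ne_bot_of_isNilpotent _ hne')
    have huN : u ∈ N := hu.1
    have hcu : ∀ c ∈ C, c * u = u * c := by
      intro c hc
      obtain ⟨s, hs, x, hx, rfl⟩ := hsplit c hc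
      have h1 : x * u = u * x :=
        congrArg Subtype.val (Subgroup.mem_center_iff.mp hu.2 ⟨x, Subgroup.mem_sup_left hx⟩)
      rw [mul_assoc, h1, ← mul_assoc, hcommS s hs u huN, mul_assoc]
    have huC : u ∈ C := by
      rw [← hC.2]
      refine mem_normalizer_of_conj_le fun y hy => ?_
      rw [mem_conj_smul] at hy
      have h1 := hcu _ hy
      have : u⁻¹ * y * u = y := by
        conv_rhs => rw [show y = u * (u⁻¹ * y * u) * u⁻¹ by group, ← h1]
        group
      rwa [this] at hy
    have : u ∈ C ⊓ N := ⟨huC, huN⟩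
    rw [h0, Subgroup.mem_bot] at this
    exact hu1 (Subtype.ext (Subtype.ext this))
  · set H := C ⊔ N with hHdef
    have hL : Cfsg.IsComplementSystem fun p => (K p).subgroupOf H := by
      intro p
      refine index_eq_pow p.2 (fun hd => ?_) fun r hr hrd => ?_
      · replace hd : (p : ℕ) ∣ Nat.card ((K p).subgroupOf H) := hd
        have hd' : (p : ℕ) ∣ Nat.card (K p) :=
          hd.trans (by
            rw [Nat.card_congr ((((K p).subgroupOf H)).equivMapOfInjective _
              H.subtype_injective).toEquiv, Subgroup.subgroupOf_map_subtype]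
            exact Subgroup.card_dvd_of_le inf_le_left)
        exact p.2.coprime_iff_not_dvd.mp (system_coprime hK p).symm hd'
      by_contra hrp
      haveI := Fact.mk hr
      set S := C ⊓ K p with hS
      have hSC : ¬ r ∣ S.relIndex C := by
        obtain ⟨R⟩ : Nonempty (Sylow r C) := inferInstance
        intro hd
        refine R.not_dvd_index (hd.trans (Subgroup.index_dvd_of_le fun c hc => ?_))
        rw [hS, Subgroup.mem_subgroupOf]
        refine ⟨c.2, hCK p c c.2 ?_⟩
        obtain ⟨i, hi⟩ := IsPGroup.iff_orderOf.mp R.isPGroup' ⟨c, hc⟩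
        rw [Subgroup.orderOf_mk] at hi
        rw [Subgroup.orderOf_coe, hi]
        exact Nat.Coprime.pow_left _ ((Nat.coprime_primes hr p.2).mpr hrp)
      have hd : r ∣ (K p).relIndex H := hrd
      by_cases hpq : (p : ℕ) = q
      · have h1 : (K p).relIndex H ∣ S.relIndex C * C.relIndex H := by
          rw [Subgroup.relIndex_mul_relIndex _ _ _ inf_le_left le_sup_left]
          exact Subgroup.relIndex_dvd_of_le_left _ inf_le_right
        have h2 : C.relIndex H ∣ Nat.card N := by
          have h3 := card_mul_relIndex (le_sup_left : C ≤ H)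
          refine Dvd.intro (Nat.card ↥(C ⊓ N)) ?_
          refine Nat.eq_of_mul_eq_mul_left (Nat.card_pos (α := C)) ?_
          rw [← mul_assoc, h3,
            CfsgLib.Core.card_sup_mul_card_inf C N Subgroup.le_normalizer_of_normal]
        rcases hr.dvd_mul.mp (hd.trans h1) with h | h
        · exact hSC h
        · have := hr.dvd_of_dvd_pow (hj ▸ h.trans h2)
          exact hrp (((Nat.prime_dvd_prime_iff_eq hr hq).mp this).trans hpq.symm)
      · exact hSC ((hd.trans (Subgroup.relIndex_dvd_of_le_left _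
          (sup_le inf_le_right (hNle p hpq)))).trans (relIndex_sup_dvd N inf_le_left))
    have hC' : Cfsg.IsCarterSubgroup (C.subgroupOf H) :=
      ⟨Group.nilpotent_of_mulEquiv (Subgroup.subgroupOfEquivOfLe (le_sup_left : C ≤ H)).symm,
        CfsgLib.Core.Carter.selfnorm_subgroupOf le_sup_left hC.2⟩
    have h1 := ih (Nat.card H) (CfsgLib.Core.card_subgroup_lt H hH) H rfl _ hC' _ hL (by
      intro p c hc hord
      rw [Subgroup.mem_subgroupOf] at hc ⊢
      exact hCK p c hc (by rwa [Subgroup.orderOf_coe]))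
    intro x hx
    refine Subgroup.mem_subgroupOf.mp (h1 (mem_systemNormalizer.mpr fun p => ?_) :
      (⟨x, hDH hx⟩ : H) ∈ C.subgroupOf H)
    rw [Subgroup.mem_normalizer_iff]
    intro y
    simp only [Subgroup.mem_subgroupOf, Subgroup.coe_mul, Subgroup.coe_inv]
    exact Subgroup.mem_normalizer_iff.mp (mem_systemNormalizer.mp hx p) y

theorem exists_system_le_carter [Group.IsSolvable G] {C : Subgroup G}
    (hC : Cfsg.IsCarterSubgroup C) :
    ∃ K : Nat.Primes → Subgroup G, Cfsg.IsComplementSystem K ∧ Cfsg.systemNormalizer K ≤ C := by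
  haveI := hC.1
  have h : ∀ p : Nat.Primes, ∃ M : Subgroup G,
      M.index = (p : ℕ) ^ (Nat.card G).factorization p ∧
        ∀ c ∈ C, (orderOf c).Coprime p → c ∈ M := by
    intro p
    haveI := Fact.mk p.2
    obtain ⟨S, P, -, -, hScop, -, -, -, -, helt⟩ :=
      CfsgLib.Core.Carter.nilpotent_split (C := C) p
    obtain ⟨M, hM, hSM⟩ := CfsgLib.Core.exists_piHall_ge (π := {r : ℕ | r ≠ p}) (K := S)
      fun r _ hd e => p.2.coprime_iff_not_dvd.mp hScop.symm (e ▸ hd)
    exact ⟨M, index_eq_pow p.2 (fun hd => hM.1 p p.2 hd rfl) fun r hr hd =>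
      not_not.mp fun hne => hM.2 r hr hne hd, fun c hc hord => hSM (helt c hc hord)⟩
  choose K hK hCK using h
  exact ⟨K, hK, le_carter_aux _ G rfl C hC K hK hCK⟩

theorem exists_carter_ge [Group.IsSolvable G] {K : Nat.Primes → Subgroup G}
    (hK : Cfsg.IsComplementSystem K) :
    ∃ C : Subgroup G, Cfsg.IsCarterSubgroup C ∧ Cfsg.systemNormalizer K ≤ C := by
  obtain ⟨C, hC, hCn⟩ := (Cfsg.Agent.S0045.result (G := G)).1
  obtain ⟨L, hL, hLC⟩ := exists_system_le_carter (⟨hC, hCn⟩ : Cfsg.IsCarterSubgroup C)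
  obtain ⟨g, -, hg⟩ := exists_conj_system ⊤ hL hK fun p => by simp
  refine ⟨MulAut.conj g • C,
    ⟨Group.nilpotent_of_mulEquiv (Subgroup.equivSMul (MulAut.conj g) C), ?_⟩, ?_⟩
  · conv_rhs => rw [← hCn]
    exact (Subgroup.map_equiv_normalizer_eq C (MulAut.conj g)).symm
  · rw [show K = fun p => MulAut.conj g • L p from funext fun p => (hg p).symm,
      systemNormalizer_conj]
    exact Subgroup.pointwise_smul_le_pointwise_smul_iff.mpr hLC

private theorem carter_le_aux (n : ℕ) :
    ∀ (G : Type u) [Group G] [Finite G] [Group.IsSolvable G], Nat.card G = n →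
      ∀ F : Subgroup G, ∀ [F.Normal], Group.IsNilpotent F → Group.IsNilpotent (G ⧸ F) →
      ∀ C : Subgroup G, Cfsg.IsCarterSubgroup C → ∀ K : Nat.Primes → Subgroup G,
      Cfsg.IsComplementSystem K → Cfsg.systemNormalizer K ≤ C →
      C ≤ Cfsg.systemNormalizer K := by
  induction n using Nat.strong_induction_on with
  | _ n ih =>
  intro G _ _ _ hn F _ hF hGF C hC K hK hDC
  subst hn
  rcases subsingleton_or_nontrivial G with hG | hG
  · exact fun x _ => (Subsingleton.elim x 1) ▸ one_mem _
  haveI := hC.1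
  haveI := hF
  haveI := hGF
  obtain ⟨N, hNn, hN0, -, hmin⟩ :=
    CfsgLib.Core.exists_minimal_normal_le' (⊤ : Subgroup G) top_ne_bot
  haveI := hNn
  have hCN : C ≤ Cfsg.systemNormalizer K ⊔ N := by
    set f := QuotientGroup.mk' N with hf
    haveI : (F.map f).Normal :=
      Subgroup.Normal.map inferInstance f (QuotientGroup.mk'_surjective N)
    have hq : Group.IsNilpotent ((G ⧸ N) ⧸ F.map f) := by
      refine Group.nilpotent_of_surjective (QuotientGroup.map F (F.map f) f
        (Subgroup.le_comap_map f F)) ?_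
      intro y
      obtain ⟨z, rfl⟩ := QuotientGroup.mk'_surjective (F.map f) y
      obtain ⟨x, rfl⟩ := QuotientGroup.mk'_surjective N z
      exact ⟨QuotientGroup.mk x, rfl⟩
    have h1 := ih (Nat.card (G ⧸ N)) (CfsgLib.Core.card_quotient_lt N hN0) (G ⧸ N) rfl (F.map f)
      (CfsgLib.Core.isNilpotent_map f F) hq _ (carter_map hC N) _ (system_map hK N)
      (by rw [systemNormalizer_map hK N]; exact Subgroup.map_mono hDC)
    rw [systemNormalizer_map hK N, Subgroup.map_le_map_iff, QuotientGroup.ker_mk'] at h1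
    exact h1
  by_cases hcen : N ≤ Subgroup.center G
  · exact hCN.trans (sup_le le_rfl fun x hx => center_le_systemNormalizer K (hcen hx))
  suffices h0 : C ⊓ N = ⊥ by
    intro c hc
    have h1 : c ∈ ((Cfsg.systemNormalizer K ⊔ N : Subgroup G) : Set G) := hCN hc
    rw [Subgroup.mul_normal] at h1
    obtain ⟨d, hd, n, hn, rfl⟩ := h1
    have : n ∈ C ⊓ N := Subgroup.mem_inf.mpr
      ⟨by simpa using mul_mem (inv_mem (hDC hd)) hc, hn⟩
    rw [h0, Subgroup.mem_bot] at this
    rw [this]
    simpa using hd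
  have hFN : N ≤ F := by
    rcases hmin (N ⊓ F) inferInstance inf_le_left with h | h
    swap
    · exact h.ge.trans inf_le_right
    refine absurd ?_ hcen
    set f := QuotientGroup.mk' F with hf
    haveI : (N.map f).Normal :=
      Subgroup.Normal.map inferInstance f (QuotientGroup.mk'_surjective F)
    have hne : N.map f ≠ ⊥ := by
      rw [Ne, Subgroup.map_eq_bot_iff, hf, QuotientGroup.ker_mk']
      exact fun hle => hN0 (le_bot_iff.mp ((le_inf le_rfl hle).trans h.le))
    have hne' := CfsgLib.Core.inf_center_ne_bot_of_isNilpotent _ hne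
    obtain ⟨⟨v, hv⟩, hv1⟩ := (Subgroup.ne_bot_iff_exists_ne_one).mp hne'
    obtain ⟨x, hx, rfl⟩ := hv.1
    have hxc : x ∈ N ⊓ Subgroup.center G := by
      refine Subgroup.mem_inf.mpr ⟨hx, Subgroup.mem_center_iff.mpr fun g => ?_⟩
      have h2 : g * x * g⁻¹ * x⁻¹ ∈ N ⊓ F := by
        refine Subgroup.mem_inf.mpr ⟨mul_mem (hNn.conj_mem x hx g) (inv_mem hx), ?_⟩
        rw [← QuotientGroup.eq_one_iff]
        show f (g * x * g⁻¹ * x⁻¹) = 1
        rw [map_mul, map_mul, map_mul, Subgroup.mem_center_iff.mp hv.2 (f g), map_inv, map_inv]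
        group
      rw [h, Subgroup.mem_bot] at h2
      exact mul_inv_eq_iff_eq_mul.mp (mul_inv_eq_one.mp h2)
    rcases hmin (N ⊓ Subgroup.center G) inferInstance inf_le_left with h3 | h3
    · rw [h3, Subgroup.mem_bot] at hxc
      exact absurd (Subtype.ext (by simp [hxc])) hv1
    · exact h3.ge.trans inf_le_right
  have hFc : ∀ y ∈ F, ∀ x ∈ N, y * x = x * y := by
    set U := N ⊓ Subgroup.centralizer (F : Set G) with hU
    have hUn : U.Normal := by rw [hU]; infer_instance
    rcases hmin U hUn inf_le_left with h | h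
    · exfalso
      have hne : N.subgroupOf F ≠ ⊥ := fun e => hN0 (by
        rw [← Subgroup.map_subgroupOf_eq_of_le hFN, e, Subgroup.map_bot])
      obtain ⟨⟨u, hu⟩, hu1⟩ := (Subgroup.ne_bot_iff_exists_ne_one).mp
        (CfsgLib.Core.inf_center_ne_bot_of_isNilpotent _ hne)
      have : (u : G) ∈ U := Subgroup.mem_inf.mpr ⟨hu.1, Subgroup.mem_centralizer_iff.mpr
        fun y hy => congrArg Subtype.val (Subgroup.mem_center_iff.mp hu.2 ⟨y, hy⟩)⟩
      rw [h, Subgroup.mem_bot] at this
      exact hu1 (Subtype.ext (Subtype.ext this))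
    · exact fun y hy x hx => Subgroup.mem_centralizer_iff.mp (h.ge hx).2 y hy
  have hGCF : C ⊔ F = ⊤ := by
    have h1 := (carter_map hC F).2
    have h2 : C.map (QuotientGroup.mk' F) = ⊤ :=
      (_root_.normalizerCondition_iff_only_full_group_self_normalizing.mp
        Group.normalizerCondition_of_isNilpotent) _ h1
    rw [← QuotientGroup.ker_mk' F, ← Subgroup.comap_map_eq, h2, Subgroup.comap_top]
  have hi : (C ⊓ N).Normal := by
    rw [← Subgroup.normalizer_eq_top_iff, eq_top_iff, ← hGCF]
    refine sup_le (fun c hc => mem_normalizer_of_conj_le fun y hy => ?_)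
      (fun c hc => mem_normalizer_of_conj_le fun y hy => ?_) <;> rw [mem_conj_smul] at hy
    · have h1 := mul_mem (mul_mem hc hy.1) (inv_mem hc)
      have h2 := hNn.conj_mem _ hy.2 c
      rw [show c * (c⁻¹ * y * c) * c⁻¹ = y by group] at h1 h2
      exact ⟨h1, h2⟩
    · have h2 : c⁻¹ * y * c = y := by
        have := hFc c hc _ hy.2
        conv_rhs => rw [show y = c * (c⁻¹ * y * c) * c⁻¹ by group, this]
        group
      rwa [h2] at hy
  refine (hmin _ hi inf_le_right).resolve_right fun h => ?_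
  have hNC : N ≤ C := h.ge.trans inf_le_left
  have hne : N.subgroupOf C ≠ ⊥ := fun e => hN0 (by
    rw [← Subgroup.map_subgroupOf_eq_of_le hNC, e, Subgroup.map_bot])
  obtain ⟨⟨u, hu⟩, hu1⟩ := (Subgroup.ne_bot_iff_exists_ne_one).mp
    (CfsgLib.Core.inf_center_ne_bot_of_isNilpotent _ hne)
  have huc : (u : G) ∈ N ⊓ Subgroup.center G := by
    refine Subgroup.mem_inf.mpr ⟨hu.1, Subgroup.mem_center_iff.mpr fun g => ?_⟩
    have hle : C ⊔ F ≤ Subgroup.centralizer ({(u : G)} : Set G) := sup_le
      (fun y hy => Subgroup.mem_centralizer_singleton_iff.mpr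
        (congrArg Subtype.val (Subgroup.mem_center_iff.mp hu.2 ⟨y, hy⟩)))
      (fun y hy => Subgroup.mem_centralizer_singleton_iff.mpr (hFc y hy _ hu.1))
    exact Subgroup.mem_centralizer_singleton_iff.mp (hle (hGCF ▸ Subgroup.mem_top g))
  rcases hmin (N ⊓ Subgroup.center G) inferInstance inf_le_left with h3 | h3
  · rw [h3, Subgroup.mem_bot] at huc
    exact hu1 (Subtype.ext (Subtype.ext huc))
  · exact hcen (h3.ge.trans inf_le_right)

theorem carter_eq_systemNormalizer [Group.IsSolvable G] {F : Subgroup G} [F.Normal]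
    (hF : Group.IsNilpotent F) (hGF : Group.IsNilpotent (G ⧸ F)) {C : Subgroup G}
    (hC : Cfsg.IsCarterSubgroup C) {K : Nat.Primes → Subgroup G}
    (hK : Cfsg.IsComplementSystem K) (hDC : Cfsg.systemNormalizer K ≤ C) :
    C = Cfsg.systemNormalizer K :=
  le_antisymm (carter_le_aux _ G rfl F hF hGF C hC K hK hDC) hDC

end CfsgLib.SolvStruct
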