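import Cfsg.Agent.Lib.Components.Subnormal
import Mathlib.GroupTheory.SpecificGroups.Cyclic
import Cfsg.Prelude.Def_SolvableStructure

/-!
# Chains of normal subgroups with cyclic steps, and supersolvable groups

`SChain M` says that `M` is reached from `⊥` by normal subgroups of the whole group, each obtained
from the previous one by adjoining one element.
-/

set_option autoImplicit false
set_option linter.style.haveILetI false

namespace CfsgLib.SolvStruct

open Subgroup

variable {G : Type*} [Group G]

/-- `M` is reached from `⊥` by normal subgroups with cyclic steps. -/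
inductive SChain : Subgroup G → Prop where
  /-- The trivial subgroup. -/
  | bot : SChain (⊥ : Subgroup G)
  /-- One cyclic step. -/
  | step (N : Subgroup G) (g : G) : SChain N → (N ⊔ zpowers g).Normal → SChain (N ⊔ zpowers g)

theorem SChain.normal {M : Subgroup G} (h : SChain M) : M.Normal := by
  induction h with
  | bot => infer_instance
  | step N g _ hn _ => exact hn

theorem SChain.exists_series {M : Subgroup G} (h : SChain M) :
    ∃ (n : ℕ) (H : Fin (n + 1) → Subgroup G), H 0 = ⊥ ∧ H (Fin.last n) = M ∧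
      (∀ i, (H i).Normal) ∧ ∀ i : Fin n, ∃ g : G, H i.succ = H i.castSucc ⊔ zpowers g := by
  induction h with
  | bot => exact ⟨0, fun _ => ⊥, rfl, rfl, fun _ => inferInstance, fun i => i.elim0⟩
  | step N g _ hn ih =>
    obtain ⟨n, H, h0, hl, hnorm, hs⟩ := ih
    refine ⟨n + 1, Fin.snoc H (N ⊔ zpowers g), ?_, ?_, ?_, ?_⟩
    · rw [← Fin.castSucc_zero, Fin.snoc_castSucc, h0]
    · rw [Fin.snoc_last]
    · intro i
      refine Fin.lastCases ?_ (fun j => ?_) i
      · rw [Fin.snoc_last]; exact hn
      · rw [Fin.snoc_castSucc]; exact hnorm j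
    · intro i
      refine Fin.lastCases ?_ (fun j => ?_) i
      · refine ⟨g, ?_⟩
        rw [Fin.succ_last, Fin.snoc_last, Fin.snoc_castSucc, hl]
      · obtain ⟨x, hx⟩ := hs j
        refine ⟨x, ?_⟩
        rw [Fin.succ_castSucc, Fin.snoc_castSucc, Fin.snoc_castSucc]
        exact hx

theorem schain_of_series {n : ℕ} {H : Fin (n + 1) → Subgroup G} (h0 : H 0 = ⊥)
    (hn : ∀ i, (H i).Normal) (hs : ∀ i : Fin n, ∃ g : G, H i.succ = H i.castSucc ⊔ zpowers g)
    (i : Fin (n + 1)) : SChain (H i) := by
  induction i using Fin.induction with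
  | zero => rw [h0]; exact SChain.bot
  | succ i ih =>
    obtain ⟨g, hg⟩ := hs i
    rw [hg]
    exact SChain.step _ g ih (hg ▸ hn i.succ)

theorem isSupersolvable_iff : Cfsg.IsSupersolvable G ↔ SChain (⊤ : Subgroup G) := by
  constructor
  · rintro ⟨n, H, h0, hl, hn, hs⟩
    exact hl ▸ schain_of_series h0 hn hs (Fin.last n)
  · exact fun h => h.exists_series

/-- A normal cyclic subgroup is a chain. -/
theorem schain_of_isCyclic {N : Subgroup G} (hN : N.Normal) [IsCyclic N] : SChain N := by
  obtain ⟨g, hg⟩ := IsCyclic.exists_generator (α := N)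
  have h : N = ⊥ ⊔ zpowers (g : G) := by
    rw [bot_sup_eq]
    refine le_antisymm (fun x hx => ?_) (zpowers_le.mpr g.2)
    obtain ⟨k, hk⟩ := mem_zpowers_iff.mp (hg ⟨x, hx⟩)
    exact ⟨k, congrArg Subtype.val hk⟩
  rw [h] at hN ⊢
  exact SChain.step _ _ SChain.bot hN

/-- Images of chains under homomorphisms that preserve normality along the chain. -/
theorem SChain.map_of {K : Type*} [Group K] (f : G →* K)
    (hf : ∀ N : Subgroup G, N.Normal → (N.map f).Normal) {M : Subgroup G} (h : SChain M) :
    SChain (M.map f) := by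
  induction h with
  | bot => rw [Subgroup.map_bot]; exact SChain.bot
  | step N g _ hn ih =>
    have e : (N ⊔ zpowers g).map f = N.map f ⊔ zpowers (f g) := by
      rw [Subgroup.map_sup, MonoidHom.map_zpowers]
    have := hf _ hn
    rw [e] at this ⊢
    exact SChain.step _ _ ih this

theorem SChain.map {K : Type*} [Group K] {f : G →* K} (hf : Function.Surjective f)
    {M : Subgroup G} (h : SChain M) : SChain (M.map f) :=
  h.map_of f fun _ hn => hn.map f hf

theorem isSupersolvable_of_surjective {K : Type*} [Group K] {f : G →* K}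
    (hf : Function.Surjective f) (h : Cfsg.IsSupersolvable G) : Cfsg.IsSupersolvable K := by
  rw [isSupersolvable_iff] at h ⊢
  rw [← Subgroup.map_top_of_surjective f hf]
  exact h.map hf

theorem isSupersolvable_congr {K : Type*} [Group K] (e : G ≃* K) :
    Cfsg.IsSupersolvable G ↔ Cfsg.IsSupersolvable K :=
  ⟨isSupersolvable_of_surjective (f := e.toMonoidHom) e.surjective,
    isSupersolvable_of_surjective (f := e.symm.toMonoidHom) e.symm.surjective⟩

theorem isSupersolvable_quotient (h : Cfsg.IsSupersolvable G) (N : Subgroup G) [N.Normal] :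
    Cfsg.IsSupersolvable (G ⧸ N) :=
  isSupersolvable_of_surjective (QuotientGroup.mk'_surjective N) h

/-- The trace of a chain on a subgroup `K`. -/
theorem SChain.subgroupOf (K : Subgroup G) {M : Subgroup G} (h : SChain M) :
    SChain (M.subgroupOf K) := by
  induction h with
  | bot => rw [Subgroup.bot_subgroupOf]; exact SChain.bot
  | step N g hN hn ih =>
    haveI := hN.normal
    set f := (QuotientGroup.mk' N).comp K.subtype with hf
    have hker : f.ker = N.subgroupOf K := by
      rw [hf, ← MonoidHom.comap_ker, QuotientGroup.ker_mk']; rfl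
    haveI : IsCyclic ↥(((N ⊔ zpowers g).subgroupOf K).map f) := by
      refine isCyclic_of_injective (G' := ↥(zpowers (QuotientGroup.mk' N g)))
        (Subgroup.inclusion ?_) (Subgroup.inclusion_injective _)
      rw [hf, ← Subgroup.map_map]
      refine (Subgroup.map_mono (Subgroup.map_comap_le K.subtype (N ⊔ zpowers g))).trans ?_
      rw [Subgroup.map_sup, (Subgroup.map_eq_bot_iff N).mpr (QuotientGroup.ker_mk' N).ge, bot_sup_eq,
        MonoidHom.map_zpowers]
    obtain ⟨⟨_, k, hk, rfl⟩, hq⟩ :=
      IsCyclic.exists_generator (α := ↥(((N ⊔ zpowers g).subgroupOf K).map f))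
    have e : (N ⊔ zpowers g).subgroupOf K = N.subgroupOf K ⊔ zpowers k := by
      refine le_antisymm (fun x hx => ?_)
        (sup_le (fun x hx => (le_sup_left : N ≤ N ⊔ zpowers g) hx) (zpowers_le.mpr hk))
      obtain ⟨m, hm⟩ := mem_zpowers_iff.mp (hq ⟨f x, x, hx, rfl⟩)
      have hm' : f (k ^ m) = f x := by rw [map_zpow]; exact congrArg Subtype.val hm
      have hker' : x * (k ^ m)⁻¹ ∈ N.subgroupOf K := by
        rw [← hker, MonoidHom.mem_ker, map_mul, map_inv, hm', mul_inv_cancel]
      have := Subgroup.mul_mem_sup hker' (zpow_mem_zpowers k m)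
      rwa [inv_mul_cancel_right] at this
    rw [e]
    exact SChain.step _ _ ih (e ▸ inferInstanceAs ((N ⊔ zpowers g).subgroupOf K).Normal)

theorem isSupersolvable_subgroup (h : Cfsg.IsSupersolvable G) (H : Subgroup G) :
    Cfsg.IsSupersolvable H := by
  rw [isSupersolvable_iff] at h ⊢
  rw [← Subgroup.top_subgroupOf H]
  exact h.subgroupOf H

/-- The trace of a chain on a normal subgroup. -/
theorem SChain.inf {M : Subgroup G} (h : SChain M) (K : Subgroup G) [K.Normal] :
    SChain (M ⊓ K) := by
  induction h with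
  | bot => rw [bot_inf_eq]; exact SChain.bot
  | step N g hN hn ih =>
    haveI := hN.normal
    haveI := hn
    have hsub := (SChain.subgroupOf K (SChain.step N g hN hn))
    set f := QuotientGroup.mk' N with hf
    haveI : IsCyclic ↥(((N ⊔ zpowers g) ⊓ K).map f) := by
      refine isCyclic_of_injective (G' := ↥(zpowers (f g)))
        (Subgroup.inclusion ?_) (Subgroup.inclusion_injective _)
      refine (Subgroup.map_mono inf_le_left).trans ?_
      rw [Subgroup.map_sup, (Subgroup.map_eq_bot_iff N).mpr (QuotientGroup.ker_mk' N).ge, bot_sup_eq,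
        MonoidHom.map_zpowers]
    obtain ⟨⟨_, k, hk, rfl⟩, hq⟩ :=
      IsCyclic.exists_generator (α := ↥(((N ⊔ zpowers g) ⊓ K).map f))
    have e : (N ⊔ zpowers g) ⊓ K = (N ⊓ K) ⊔ zpowers k := by
      refine le_antisymm (fun x hx => ?_)
        (sup_le (inf_le_inf_right K le_sup_left) (zpowers_le.mpr hk))
      obtain ⟨m, hm⟩ := mem_zpowers_iff.mp (hq ⟨f x, x, hx, rfl⟩)
      have hm' : f (k ^ m) = f x := by rw [map_zpow]; exact congrArg Subtype.val hm
      have hker' : x * (k ^ m)⁻¹ ∈ N ⊓ K := by
        refine Subgroup.mem_inf.mpr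
          ⟨?_, mul_mem (Subgroup.mem_inf.mp hx).2 (inv_mem (zpow_mem (Subgroup.mem_inf.mp hk).2 m))⟩
        rw [← QuotientGroup.ker_mk' N, MonoidHom.mem_ker, map_mul, map_inv, hm', mul_inv_cancel]
      have := Subgroup.mul_mem_sup hker' (zpow_mem_zpowers k m)
      rwa [inv_mul_cancel_right] at this
    rw [e]
    exact SChain.step _ _ ih (e ▸ inferInstanceAs (((N ⊔ zpowers g) ⊓ K)).Normal)

/-- Chains lift through a chain. -/
theorem SChain.comap {N : Subgroup G} [N.Normal] (hN : SChain N) {M : Subgroup (G ⧸ N)}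
    (h : SChain M) : SChain (M.comap (QuotientGroup.mk' N)) := by
  induction h with
  | bot => rwa [MonoidHom.comap_bot, QuotientGroup.ker_mk']
  | step L g _ hn ih =>
    obtain ⟨x, rfl⟩ := QuotientGroup.mk'_surjective N g
    have e : (L ⊔ zpowers (QuotientGroup.mk' N x)).comap (QuotientGroup.mk' N) =
        L.comap (QuotientGroup.mk' N) ⊔ zpowers x := by
      have hle : N ≤ L.comap (QuotientGroup.mk' N) := by
        conv_lhs => rw [← QuotientGroup.ker_mk' N]
        exact Subgroup.ker_le_comap _ _
      conv_lhs => rw [← MonoidHom.map_zpowers,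
        ← Subgroup.map_comap_eq_self_of_surjective (QuotientGroup.mk'_surjective N) L,
        ← Subgroup.map_sup]
      exact Subgroup.comap_map_eq_self ((QuotientGroup.ker_mk' N).trans_le (hle.trans le_sup_left))
    rw [e]
    exact SChain.step _ _ ih (e ▸ hn.comap (QuotientGroup.mk' N))

theorem isSupersolvable_of_quotient {N : Subgroup G} [N.Normal] (hN : SChain N)
    (h : Cfsg.IsSupersolvable (G ⧸ N)) : Cfsg.IsSupersolvable G := by
  rw [isSupersolvable_iff] at h ⊢
  simpa using hN.comap h

theorem isSupersolvable_of_quotient_cyclic (N : Subgroup G) [N.Normal] [IsCyclic N]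
    (h : Cfsg.IsSupersolvable (G ⧸ N)) : Cfsg.IsSupersolvable G :=
  isSupersolvable_of_quotient (schain_of_isCyclic inferInstance) h

theorem isSupersolvable_of_subsingleton [Subsingleton G] : Cfsg.IsSupersolvable G := by
  rw [isSupersolvable_iff, Subsingleton.elim (⊤ : Subgroup G) ⊥]
  exact SChain.bot

theorem isSupersolvable_of_isCyclic [IsCyclic G] : Cfsg.IsSupersolvable G := by
  rw [isSupersolvable_iff]
  haveI : IsCyclic (⊤ : Subgroup G) := isCyclic_of_surjective Subgroup.topEquiv.symm.toMonoidHom
    Subgroup.topEquiv.symm.surjective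
  exact schain_of_isCyclic inferInstance

theorem isSupersolvable_prod {K : Type*} [Group K] (hG : Cfsg.IsSupersolvable G)
    (hK : Cfsg.IsSupersolvable K) : Cfsg.IsSupersolvable (G × K) := by
  rw [isSupersolvable_iff] at hG
  have hN : SChain ((⊤ : Subgroup G).map (MonoidHom.inl G K)) := by
    refine hG.map_of _ fun N hN => ⟨?_⟩
    rintro _ ⟨n, hn, rfl⟩ ⟨a, b⟩
    exact ⟨a * n * a⁻¹, hN.conj_mem n hn a, by simp⟩
  haveI := hN.normal
  refine isSupersolvable_of_quotient hN ((isSupersolvable_congr ?_).mpr hK)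
  refine (QuotientGroup.quotientMulEquivOfEq ?_).trans
    (QuotientGroup.quotientKerEquivOfSurjective (MonoidHom.snd G K) Prod.snd_surjective)
  ext ⟨a, b⟩
  simp [Subgroup.mem_map, Subgroup.mem_prod, eq_comm]

end CfsgLib.SolvStruct
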