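import Mathlib
import Cfsg.Prelude.Def_SolvableStructure
import Cfsg.Agent.Lib.Core.Misc
import Cfsg.Agent.Lib.SolvStruct.NilFactor
import Cfsg.Agent.Lib.Components.Subnormal

/-!
# Minimal non-nilpotent groups

`minNonNil_structure`: `G = PQ` with `P` a cyclic Sylow `p`-subgroup and `Q` a normal Sylow
`q`-subgroup; proper subgroups split accordingly.
-/

set_option autoImplicit false
set_option linter.style.haveILetI false

namespace CfsgLib.SolvStruct

open Pointwise

variable {G : Type*} [Group G] [Finite G]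

omit [Finite G] in
theorem isNilpotent_of_sup_commute {P Q : Subgroup G} (hP : Group.IsNilpotent P)
    (hQ : Group.IsNilpotent Q) (hc : P ≤ Subgroup.centralizer (Q : Set G)) (h : P ⊔ Q = ⊤) :
    Group.IsNilpotent G := by
  haveI := hP
  haveI := hQ
  have := CfsgLib.Core.isNilpotent_sup_of_commute P Q fun a ha b hb =>
    (Subgroup.mem_centralizer_iff.mp (hc ha) b hb).symm
  rw [h] at this
  exact Group.nilpotent_of_mulEquiv Subgroup.topEquiv

/-- Structure of a minimal non-nilpotent group. -/
theorem minNonNil_structure (hG : Cfsg.IsMinimalNonNilpotent G) :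
    ∃ p q : ℕ, p.Prime ∧ q.Prime ∧ p ≠ q ∧ ∃ (P : Sylow p G) (Q : Sylow q G),
      IsCyclic P ∧ (Q : Subgroup G).Normal ∧ (P : Subgroup G) ⊔ Q = ⊤ ∧
      Nat.card G = Nat.card P * Nat.card Q := by
  obtain ⟨hnil, hprop⟩ := hG
  haveI : Nontrivial G := by
    rcases subsingleton_or_nontrivial G with h' | h'
    · exact absurd (Group.isNilpotent_of_subsingleton (G := G)) hnil
    · exact h'
  have hs : Group.IsSolvable G :=
    CfsgLib.Core.isSolvable_of_maximal_nilpotent fun M hM => hprop M hM.1
  -- a normal maximal subgroup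
  have hne : commutator G ≠ ⊤ := (Group.IsSolvable.commutator_lt_top_of_nontrivial G).ne
  obtain ⟨M, hM, hle⟩ := (eq_top_or_exists_le_coatom (commutator G)).resolve_left hne
  haveI hMn : M.Normal := by
    refine ⟨fun m hm g => ?_⟩
    have h1 : g * m * g⁻¹ * m⁻¹ ∈ M := hle (Subgroup.commutator_mem_commutator
      (Subgroup.mem_top g) (Subgroup.mem_top m))
    have := mul_mem h1 hm
    rwa [inv_mul_cancel_right] at this
  haveI := hprop M hM.1
  -- at most one prime has non-normal Sylow subgroups
  obtain ⟨p, hp, hpM⟩ := Nat.exists_prime_and_dvd (mt Subgroup.index_eq_one.mp hM.1)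
  haveI := Fact.mk hp
  have hindex : ∀ r : ℕ, r.Prime → r ∣ M.index → r = p := by
    intro r hr hd
    haveI := Fact.mk hr
    by_contra hne
    obtain ⟨x, hx⟩ := exists_prime_orderOf_dvd_card' (G := G ⧸ M) p
      (by rwa [← Subgroup.index_eq_card])
    obtain ⟨y, hy⟩ := exists_prime_orderOf_dvd_card' (G := G ⧸ M) r
      (by rwa [← Subgroup.index_eq_card])
    have hsub : ∀ z : G ⧸ M, z ≠ 1 → Subgroup.zpowers z = ⊤ := by
      intro z hz
      rcases hM.le_iff.mp (show M ≤ (Subgroup.zpowers z).comap (QuotientGroup.mk' M) from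
        (QuotientGroup.ker_mk' M).symm.le.trans (MonoidHom.ker_le_comap _ _)) with h | h
      · rw [← Subgroup.map_comap_eq_self_of_surjective (QuotientGroup.mk'_surjective M)
          (Subgroup.zpowers z), h, Subgroup.map_top_of_surjective _
          (QuotientGroup.mk'_surjective M)]
      · refine absurd ?_ hz
        rw [← Subgroup.zpowers_eq_bot, ← Subgroup.map_comap_eq_self_of_surjective
          (QuotientGroup.mk'_surjective M) (Subgroup.zpowers z), h, QuotientGroup.map_mk'_self]
    have h1 := congrArg (fun L : Subgroup (G ⧸ M) => Nat.card L)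
      (hsub x fun e => hp.ne_one (by rw [← hx, e, orderOf_one]))
    have h2 := congrArg (fun L : Subgroup (G ⧸ M) => Nat.card L)
      (hsub y fun e => hr.ne_one (by rw [← hy, e, orderOf_one]))
    simp only [Nat.card_zpowers, hx, hy] at h1 h2
    exact hne (h2.trans h1.symm)
  have hnorm : ∀ r : ℕ, ∀ [Fact r.Prime], r ≠ p → ∀ R : Sylow r G, (R : Subgroup G).Normal := by
    intro r hr hne R
    have hle : (R : Subgroup G) ≤ M := by
      intro x hx
      rw [← QuotientGroup.eq_one_iff, ← orderOf_eq_one_iff]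
      obtain ⟨i, hi⟩ := IsPGroup.iff_orderOf.mp R.isPGroup' ⟨x, hx⟩
      rw [Subgroup.orderOf_mk] at hi
      have hrM : ¬ r ∣ M.index := fun hd => hne (hindex r hr.out hd)
      refine Nat.eq_one_of_dvd_coprimes ((hr.out.coprime_iff_not_dvd.mpr hrM).pow_left i) ?_ ?_
      · rw [← hi]; exact orderOf_map_dvd (QuotientGroup.mk' M) x
      · rw [Subgroup.index_eq_card]; exact orderOf_dvd_natCard _
    set R' : Sylow r M := R.subtype hle with hR'
    haveI : (R' : Subgroup M).Normal :=
      R'.normal_of_normalizerCondition Group.normalizerCondition_of_isNilpotent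
    haveI : (R' : Subgroup M).Characteristic := R'.characteristic_of_normal inferInstance
    have h1 : ((R' : Subgroup M).map M.subtype).Normal := inferInstance
    rwa [hR', Sylow.coe_subtype, Subgroup.map_subgroupOf_eq_of_le hle] at h1
  obtain ⟨P⟩ : Nonempty (Sylow p G) := inferInstance
  have hPn : ¬ (P : Subgroup G).Normal := by
    intro hPn
    refine hnil (((Group.isNilpotent_of_finite_tfae (G := G)).out 0 3).mpr fun r hr R => ?_)
    haveI := hr
    rcases eq_or_ne r p with rfl | hne
    · haveI := P.unique_of_normal hPn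
      rw [Subsingleton.elim R P]
      exact hPn
    · exact hnorm r hne R
  -- some normal Sylow subgroup is not centralised by `P`
  obtain ⟨q, hq, hqp, Q, hPQ⟩ : ∃ q : ℕ, ∃ _ : q.Prime, q ≠ p ∧ ∃ Q : Sylow q G,
      (P : Subgroup G) ⊔ Q = ⊤ := by
    by_contra hcon
    refine hPn ?_
    have hle : ∀ r : ℕ, r.Prime → r ∣ Nat.card G → ∃ R : Sylow r G,
        (R : Subgroup G) ≤ Subgroup.normalizer ((P : Subgroup G) : Set G) := by
      intro r hr _
      haveI := Fact.mk hr
      obtain ⟨R⟩ : Nonempty (Sylow r G) := inferInstance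
      rcases eq_or_ne r p with rfl | hne
      · exact ⟨P, Subgroup.le_normalizer⟩
      refine ⟨R, ?_⟩
      set J := (P : Subgroup G) ⊔ R with hJ
      have hJt : J ≠ ⊤ := fun e => hcon ⟨r, hr, hne, R, e⟩
      intro x hx
      have hxc : x ∈ Subgroup.centralizer ((P : Subgroup G) : Set G) := by
        rw [Subgroup.mem_centralizer_iff]
        intro y hy
        refine commute_of_mem_nilpotent (hprop J hJt) (Subgroup.mem_sup_left hy)
          (Subgroup.mem_sup_right hx) ?_
        obtain ⟨i, hi⟩ := IsPGroup.iff_orderOf.mp P.isPGroup' ⟨y, hy⟩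
        obtain ⟨j, hj⟩ := IsPGroup.iff_orderOf.mp R.isPGroup' ⟨x, hx⟩
        rw [Subgroup.orderOf_mk] at hi hj
        rw [hi, hj]
        exact Nat.Coprime.pow _ _ ((Nat.coprime_primes hp hr).mpr hne.symm)
      exact Subgroup.centralizer_le_normalizer _ hxc
    rw [← Subgroup.normalizer_eq_top_iff]
    exact CfsgLib.Core.eq_top_of_forall_exists_sylow_le _ hle
  haveI := Fact.mk hq
  haveI hQn : (Q : Subgroup G).Normal := hnorm q hqp Q
  have hcop : (Nat.card P).Coprime (Nat.card Q) :=
    IsPGroup.coprime_card_of_ne p q hqp.symm (P : Subgroup G) (Q : Subgroup G)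
      P.isPGroup' Q.isPGroup'
  have hcard : Nat.card G = Nat.card P * Nat.card Q := by
    rw [← CfsgLib.Core.card_sup_of_coprime (P : Subgroup G) Q Subgroup.le_normalizer_of_normal hcop,
      hPQ, Subgroup.card_top]
  have hnc : ¬ (P : Subgroup G) ≤ Subgroup.centralizer ((Q : Subgroup G) : Set G) := fun hc =>
    hnil (isNilpotent_of_sup_commute P.isPGroup'.isNilpotent Q.isPGroup'.isNilpotent hc hPQ)
  refine ⟨p, q, hp, hq, hqp.symm, P, Q, ?_, hQn, hPQ, hcard⟩
  by_contra hcyc
  refine hnc fun x hx => ?_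
  set J := Subgroup.zpowers x ⊔ (Q : Subgroup G) with hJ
  have hJt : J ≠ ⊤ := by
    intro e
    refine hcyc ?_
    have h1 := CfsgLib.Core.card_sup_dvd (Subgroup.zpowers x) (Q : Subgroup G)
      Subgroup.le_normalizer_of_normal
    rw [← hJ, e, Subgroup.card_top, hcard] at h1
    have h2 : Subgroup.zpowers x = (P : Subgroup G) :=
      Subgroup.eq_of_le_of_card_ge (Subgroup.zpowers_le.mpr hx)
        (Nat.le_of_dvd Nat.card_pos (Nat.dvd_of_mul_dvd_mul_right Nat.card_pos h1))
    exact h2 ▸ inferInstance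
  rw [Subgroup.mem_centralizer_iff]
  intro y hy
  refine (commute_of_mem_nilpotent (hprop J hJt)
    (Subgroup.mem_sup_left (Subgroup.mem_zpowers x)) (Subgroup.mem_sup_right hy) ?_).symm
  obtain ⟨i, hi⟩ := IsPGroup.iff_orderOf.mp P.isPGroup' ⟨x, hx⟩
  obtain ⟨j, hj⟩ := IsPGroup.iff_orderOf.mp Q.isPGroup' ⟨y, hy⟩
  rw [Subgroup.orderOf_mk] at hi hj
  rw [hi, hj]
  exact Nat.Coprime.pow _ _ ((Nat.coprime_primes hp hq).mpr hqp.symm)

/-- In a minimal non-nilpotent group the prime with a normal nontrivial Sylow subgroup is unique. -/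
theorem minNonNil_normal_prime (hG : Cfsg.IsMinimalNonNilpotent G) {p q q' : ℕ} [Fact p.Prime]
    [Fact q.Prime] [Fact q'.Prime] (P : Sylow p G) (Q : Sylow q G) (Q' : Sylow q' G)
    (hQ : (Q : Subgroup G).Normal) (hQ' : (Q' : Subgroup G).Normal)
    (hcard : Nat.card G = Nat.card P * Nat.card Q) (hd : q' ∣ Nat.card G) : q' = q := by
  by_contra hne
  have hpr : ∀ r : ℕ, r.Prime → r ∣ Nat.card G → r = p ∨ r = q := by
    intro r hr hd
    rw [hcard, P.card_eq_multiplicity, Q.card_eq_multiplicity] at hd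
    exact (hr.dvd_mul.mp hd).imp
      (fun h => (Nat.prime_dvd_prime_iff_eq hr Fact.out).mp (hr.dvd_of_dvd_pow h))
      (fun h => (Nat.prime_dvd_prime_iff_eq hr Fact.out).mp (hr.dvd_of_dvd_pow h))
  obtain rfl : q' = p := (hpr q' Fact.out hd).resolve_right hne
  refine hG.1 (((Group.isNilpotent_of_finite_tfae (G := G)).out 0 3).mpr fun r hr R => ?_)
  haveI := hr
  by_cases hrd : r ∣ Nat.card G
  · rcases hpr r hr.out hrd with rfl | rfl
    · haveI := Q'.unique_of_normal hQ'
      rw [Subsingleton.elim R Q']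
      exact hQ'
    · haveI := Q.unique_of_normal hQ
      rw [Subsingleton.elim R Q]
      exact hQ
  · have : (R : Subgroup G) = ⊥ := by
      apply Subgroup.card_eq_one.mp
      rw [R.card_eq_multiplicity, Nat.factorization_eq_zero_of_not_dvd hrd, pow_zero]
    rw [this]
    infer_instance

end CfsgLib.SolvStruct
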