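import Mathlib
import Cfsg.Agent.S0079
import Cfsg.Agent.S0562
import Cfsg.Agent.Lib.SolvStruct.NilFactor
import Cfsg.Agent.Lib.Components.FStar
import Cfsg.Agent.Lib.Core.Coprime
import Cfsg.Agent.Lib.Core.SchurZassenhaus
import Cfsg.Agent.Lib.Char.Burnside

/-!
# Wielandt's theorem: products of nilpotent groups of coprime orders are solvable

The proof analyses a simple counterexample `G = AB`.

* `noPair` : no proper subgroup contains conjugates of prime order elements of `Z(A)` and `Z(B)`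
  (normalisers of `⟨X, Y⟩` for `X ◁ A`, `Y ◁ B` are factorised, hence solvable);
* hence the centraliser of each prime order element of `A` lies in `N(A)`, so `A` is a TI subgroup
  and `|A| < |B|`; by symmetry a contradiction.
-/

set_option autoImplicit false
set_option linter.style.haveILetI false

namespace CfsgLib.SolvStruct

open Pointwise

variable {G : Type*} [Group G]

/-- A simple minimal counterexample to Wielandt's theorem. -/
structure WielandtCx (A B : Subgroup G) : Prop where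
  nilA : Group.IsNilpotent A
  nilB : Group.IsNilpotent B
  cop : (Nat.card A).Coprime (Nat.card B)
  fac : ∀ g : G, ∃ a ∈ A, ∃ b ∈ B, g = a * b
  simple : ∀ N : Subgroup G, N.Normal → N = ⊥ ∨ N = ⊤
  nsolv : ¬ Group.IsSolvable G
  ih : ∀ T : Subgroup G, T ≠ ⊤ → (∀ g ∈ T, ∃ a ∈ A ⊓ T, ∃ b ∈ B ⊓ T, g = a * b) →
    Group.IsSolvable T

theorem isSolvable_of_eq_top {X : Subgroup G} (h : X = ⊤) (hX : Group.IsSolvable X) :
    Group.IsSolvable G := by
  subst h
  exact Group.isSolvable_of_surjective (f := (Subgroup.topEquiv (G := G)).toMonoidHom)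
    (Subgroup.topEquiv (G := G)).surjective

theorem isSolvable_of_isNilpotent {X : Subgroup G} (hX : Group.IsNilpotent X) :
    Group.IsSolvable X := by
  haveI := hX
  infer_instance

theorem factor_symm_mem {A B T : Subgroup G}
    (h : ∀ g ∈ T, ∃ a ∈ A ⊓ T, ∃ b ∈ B ⊓ T, g = a * b) :
    ∀ g ∈ T, ∃ b ∈ B ⊓ T, ∃ a ∈ A ⊓ T, g = b * a := by
  intro g hg
  obtain ⟨a, ha, b, hb, e⟩ := h g⁻¹ (inv_mem hg)
  exact ⟨b⁻¹, inv_mem hb, a⁻¹, inv_mem ha, by rw [← mul_inv_rev, ← e, inv_inv]⟩

theorem normalizer_le_of_le_centralizer {X : Subgroup G} {R : Subgroup G}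
    (h : X ≤ Subgroup.centralizer (R : Set G)) : X ≤ Subgroup.normalizer (R : Set G) :=
  h.trans (Subgroup.centralizer_le_normalizer _)

namespace WielandtCx

variable {A B : Subgroup G}

theorem symm (h : WielandtCx A B) : WielandtCx B A where
  nilA := h.nilB
  nilB := h.nilA
  cop := h.cop.symm
  fac := factor_symm h.fac
  simple := h.simple
  nsolv := h.nsolv
  ih := fun T hT hf => h.ih T hT (factor_symm_mem hf)

variable [Finite G]

theorem ne_top (h : WielandtCx A B) : A ≠ ⊤ := fun e =>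
  h.nsolv (isSolvable_of_eq_top e (isSolvable_of_isNilpotent h.nilA))

theorem ne_bot (h : WielandtCx A B) : A ≠ ⊥ := fun e => h.symm.ne_top (by
  rw [eq_top_iff]
  intro g _
  obtain ⟨a, ha, b, hb, rfl⟩ := h.fac g
  rw [e, Subgroup.mem_bot] at ha
  rwa [ha, one_mul])

theorem normalizer_ne_top (h : WielandtCx A B) {R : Subgroup G} (hR : R ≠ ⊥) (hR' : R ≠ ⊤) :
    Subgroup.normalizer (R : Set G) ≠ ⊤ := fun e =>
  (h.simple R (Subgroup.normalizer_eq_top_iff.mp e)).elim hR hR'

theorem centralizer_ne_top (h : WielandtCx A B) {x : G} (hx : x ≠ 1) :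
    Subgroup.centralizer ({x} : Set G) ≠ ⊤ := by
  intro e
  have hxc : x ∈ Subgroup.center G := Subgroup.mem_center_iff.mpr fun g =>
    Subgroup.mem_centralizer_singleton_iff.mp (e ▸ Subgroup.mem_top g)
  rcases h.simple (Subgroup.center G) inferInstance with h1 | h1
  · rw [h1, Subgroup.mem_bot] at hxc
    exact hx hxc
  · exact h.nsolv (Group.isSolvable_of_comm fun a b =>
      (Subgroup.mem_center_iff.mp (h1 ▸ Subgroup.mem_top b) a))

theorem not_dvd (h : WielandtCx A B) {p : ℕ} (hp : p.Prime) (hd : p ∣ Nat.card A) :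
    ¬ p ∣ Nat.card B := fun hd' =>
  hp.ne_one (Nat.eq_one_of_dvd_coprimes h.cop hd hd')

theorem prime_dvd {p : ℕ} {z : G} (hz : IsCentralOrder A p z) : p ∣ Nat.card A :=
  hz.order ▸ Subgroup.orderOf_dvd_natCard A hz.mem

/-- A subgroup containing a factor and a central element of the other one is everything. -/
theorem eq_top_of_le (h : WielandtCx A B) {L : Subgroup G} (hA : A ≤ L) {q : ℕ} (hq : q.Prime)
    {w : G} (hw : IsCentralOrder B q w) (hwL : w ∈ L) : L = ⊤ := by
  rcases h.simple (Subgroup.normalClosure ({w} : Set G)) inferInstance with h1 | h1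
  · have := Subgroup.subset_normalClosure (Set.mem_singleton w)
    rw [h1] at this
    exact absurd (Subgroup.mem_bot.mp this) (hw.ne_one hq)
  · rw [eq_top_iff, ← h1, Subgroup.normalClosure, Subgroup.closure_le]
    intro y hy
    rw [Group.mem_conjugatesOfSet_iff] at hy
    obtain ⟨v, hv, hc⟩ := hy
    rw [Set.mem_singleton_iff] at hv
    subst hv
    obtain ⟨g, rfl⟩ := isConj_iff.mp hc
    obtain ⟨a, ha, b, hb, rfl⟩ := h.fac g
    have e : a * b * v * (a * b)⁻¹ = a * (b * v * b⁻¹) * a⁻¹ := by group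
    rw [SetLike.mem_coe, e, (hw.comm b hb).eq, mul_inv_cancel_right]
    exact mul_mem (mul_mem (hA ha) hwL) (inv_mem (hA ha))

/-- Conjugates of central elements of the two factors do not commute. -/
theorem not_commute (h : WielandtCx A B) {p q : ℕ} (hq : q.Prime) {z w : G}
    (hp : p.Prime) (hz : IsCentralOrder A p z) (hw : IsCentralOrder B q w) (g : G) :
    ¬ Commute (g * z * g⁻¹) w := by
  intro hc
  obtain ⟨b, hb, a, ha, rfl⟩ := factor_symm h.fac g
  have hz' : a * z * a⁻¹ = z := by rw [(hz.comm a ha).eq, mul_inv_cancel_right]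
  have e : b * a * z * (b * a)⁻¹ = b * (a * z * a⁻¹) * b⁻¹ := by group
  rw [e, hz'] at hc
  have h2 := hc.map (MulAut.conj b⁻¹).toMonoidHom
  simp only [MulEquiv.coe_toMonoidHom, MulAut.conj_apply, inv_inv] at h2
  have hw' : b⁻¹ * w * b = w := by rw [mul_assoc, ← (hw.comm b hb).eq, inv_mul_cancel_left]
  rw [show b⁻¹ * (b * z * b⁻¹) * b = z by group, hw'] at h2
  exact h.centralizer_ne_top (hz.ne_one hp) (h.eq_top_of_le hz.le_centralizer hq hw
    (Subgroup.mem_centralizer_singleton_iff.mpr h2.symm))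

/-- Each factor has order divisible by two primes. -/
theorem exists_prime_ne (h : WielandtCx A B) (s : ℕ) (hs : s.Prime) :
    ∃ t, t.Prime ∧ t ≠ s ∧ t ∣ Nat.card A := by
  by_contra hcon
  push Not at hcon
  obtain ⟨k, hk⟩ : ∃ k, Nat.card A = s ^ k :=
    ⟨_, Nat.eq_prime_pow_of_unique_prime_dvd Nat.card_pos.ne' fun {d} hd hdA =>
      Classical.byContradiction fun hne => hcon d hd hne hdA⟩
  obtain ⟨q, hq, hqB⟩ := Nat.exists_prime_and_dvd (mt Subgroup.card_eq_one.mp h.symm.ne_bot)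
  obtain ⟨w, hw⟩ := exists_isCentralOrder h.nilB hq hqB
  set C := Subgroup.centralizer ({w} : Set G) with hC
  obtain ⟨m, hm⟩ := Subgroup.card_dvd_of_le (hw.le_centralizer : B ≤ C)
  have h1 := C.card_mul_index
  rw [hm, card_of_factor h.cop h.fac, mul_comm (Nat.card A), mul_assoc] at h1
  have h2 : C.index ∣ s ^ k := hk ▸ ⟨m, by
    rw [mul_comm]
    exact (Nat.eq_of_mul_eq_mul_left Nat.card_pos h1).symm⟩
  obtain ⟨j, -, hj⟩ := (Nat.dvd_prime_pow hs).mp h2
  haveI : Nontrivial G := by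
    rcases subsingleton_or_nontrivial G with h' | h'
    · exact absurd (Subsingleton.elim _ _) h.ne_top
    · exact h'
  haveI : IsSimpleGroup G := ⟨h.simple⟩
  have hpr := CfsgLib.Burnside.prime_card_of_prime_pow_class hs (hw.ne_one hq) hj
  haveI := Fact.mk hpr
  haveI : IsCyclic G := isCyclic_of_prime_card rfl
  exact h.nsolv (Group.isSolvable_of_comm fun a b => IsCyclic.commGroup.mul_comm a b)

/-- For `X ◁ A`, `Y ◁ B` in a common proper subgroup, a proper solvable factorised overgroup. -/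
theorem exists_factorized (h : WielandtCx A B) {X Y L : Subgroup G} (hX : X ≤ A) (hY : Y ≤ B)
    (hXn : A ≤ Subgroup.normalizer (X : Set G)) (hYn : B ≤ Subgroup.normalizer (Y : Set G))
    (hX0 : X ≠ ⊥) (hL : L ≠ ⊤) (hXL : X ≤ L) (hYL : Y ≤ L) :
    ∃ T : Subgroup G, T ≠ ⊤ ∧ X ≤ T ∧ Y ≤ T ∧
      (∀ g ∈ T, ∃ a ∈ A ⊓ T, ∃ b ∈ B ⊓ T, g = a * b) ∧ Group.IsSolvable T := by
  set J := X ⊔ Y with hJ
  have hJ0 : J ≠ ⊥ := fun e => hX0 (le_bot_iff.mp (le_sup_left.trans e.le))
  have hJt : J ≠ ⊤ := fun e => hL (eq_top_iff.mpr (e.ge.trans (sup_le hXL hYL)))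
  set T := Subgroup.normalizer (J : Set G) with hT
  have hf : ∀ g ∈ T, ∃ a ∈ A ⊓ T, ∃ b ∈ B ⊓ T, g = a * b := by
    intro g hg
    obtain ⟨a, ha, b, hb, e⟩ := Cfsg.Agent.S0562.result A B X Y h.fac hX
      (Subgroup.normal_subgroupOf_of_le_normalizer hXn) hY
      (Subgroup.normal_subgroupOf_of_le_normalizer hYn) g hg
    exact ⟨a, ⟨ha.2, ha.1⟩, b, ⟨hb.2, hb.1⟩, e⟩
  exact ⟨T, h.normalizer_ne_top hJ0 hJt, le_sup_left.trans Subgroup.le_normalizer,
    le_sup_right.trans Subgroup.le_normalizer, hf, h.ih T (h.normalizer_ne_top hJ0 hJt) hf⟩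

omit [Finite G] in
theorem le_normalizer_map_pCore (T : Subgroup G) (r : ℕ) :
    T ≤ Subgroup.normalizer ((Cfsg.pCore r T).map T.subtype : Set G) := by
  have h1 : (((Cfsg.pCore r T).map T.subtype).subgroupOf T).Normal := by
    rw [Subgroup.subgroupOf, Subgroup.comap_map_eq_self_of_injective T.subtype_injective]
    infer_instance
  exact (Subgroup.normal_subgroupOf_iff_le_normalizer (Subgroup.map_subtype_le _)).mp h1

/-- A normal `r`-subgroup of a factorised subgroup lies in `A` if `r` does not divide `|B|`. -/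
theorem pCore_le (h : WielandtCx A B) {T : Subgroup G}
    (hf : ∀ g ∈ T, ∃ a ∈ A ⊓ T, ∃ b ∈ B ⊓ T, g = a * b) {r : ℕ} (hr : r.Prime)
    (hd : ¬ r ∣ Nat.card B) : (Cfsg.pCore r T).map T.subtype ≤ A := by
  haveI := Fact.mk hr
  refine le_left_factor h.cop hf (Subgroup.map_subtype_le _) (le_normalizer_map_pCore T r) ?_
  obtain ⟨k, hk⟩ := ((CfsgLib.Core.isPGroup_pCore r T).map T.subtype).exists_card_eq
  rw [hk]
  exact Nat.Coprime.pow_left _ (hr.coprime_iff_not_dvd.mpr hd)

/-- In a solvable factorised subgroup containing `z` and `w`, one of the two cores is nontrivial. -/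
theorem pCore_cases (h : WielandtCx A B) {T : Subgroup G}
    (hf : ∀ g ∈ T, ∃ a ∈ A ⊓ T, ∃ b ∈ B ⊓ T, g = a * b) (hs : Group.IsSolvable T)
    {p q : ℕ} (hp : p.Prime) (hq : q.Prime) {z w : G} (hz : IsCentralOrder A p z)
    (hw : IsCentralOrder B q w) (hzT : z ∈ T) (hwT : w ∈ T) :
    (∃ R : Subgroup G, R ≠ ⊥ ∧ R ≤ A ∧ IsPGroup p R ∧ T ≤ Subgroup.normalizer (R : Set G)) ∨
      ∃ R : Subgroup G, R ≠ ⊥ ∧ R ≤ B ∧ IsPGroup q R ∧ T ≤ Subgroup.normalizer (R : Set G) := by
  haveI := hs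
  haveI := Fact.mk hp
  haveI := Fact.mk hq
  by_contra hcon
  obtain ⟨hnp, hnq⟩ := not_or.mp hcon
  have hp0 : Cfsg.pCore p T = ⊥ := by
    by_contra hne
    exact hnp ⟨(Cfsg.pCore p T).map T.subtype, fun e => hne (Subgroup.map_injective
      T.subtype_injective (e.trans (Subgroup.map_bot _).symm)),
      h.pCore_le hf hp (h.not_dvd hp (prime_dvd hz)),
      (CfsgLib.Core.isPGroup_pCore p T).map _, le_normalizer_map_pCore T p⟩
  have hq0 : Cfsg.pCore q T = ⊥ := by
    by_contra hne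
    exact hnq ⟨(Cfsg.pCore q T).map T.subtype, fun e => hne (Subgroup.map_injective
      T.subtype_injective (e.trans (Subgroup.map_bot _).symm)),
      h.symm.pCore_le (factor_symm_mem hf) hq (h.symm.not_dvd hq (prime_dvd hw)),
      (CfsgLib.Core.isPGroup_pCore q T).map _, le_normalizer_map_pCore T q⟩
  set F := Cfsg.fittingSubgroup T with hF
  have hFr : ∀ r : ℕ, r.Prime → Cfsg.pCore r T = ⊥ → ¬ r ∣ Nat.card F := by
    intro r hr h0 hd
    haveI := Fact.mk hr
    haveI : Group.IsNilpotent F := CfsgLib.Core.isNilpotent_fittingSubgroup T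
    obtain ⟨P⟩ : Nonempty (Sylow r F) := inferInstance
    haveI : (P : Subgroup F).Normal :=
      P.normal_of_normalizerCondition Group.normalizerCondition_of_isNilpotent
    haveI : (P : Subgroup F).Characteristic := P.characteristic_of_normal inferInstance
    have h1 : (P : Subgroup F).map F.subtype ≤ Cfsg.pCore r T :=
      CfsgLib.Core.le_pCore (P.isPGroup'.map F.subtype)
    rw [h0, le_bot_iff, Subgroup.map_eq_bot_iff_of_injective _ F.subtype_injective] at h1
    exact P.ne_bot_of_dvd_card hd h1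
  set z' : T := ⟨z, hzT⟩ with hz'
  set w' : T := ⟨w, hwT⟩ with hw'
  set c : T := z' * w' * z'⁻¹ * w'⁻¹ with hc
  have hcF : c ∈ F := by
    refine CfsgLib.Components.centralizer_fitting_le_of_isSolvable ?_
    rw [Subgroup.mem_centralizer_iff]
    intro y hy
    have hall : F ≤ Subgroup.centralizer ({c} : Set T) := by
      rw [hF, CfsgLib.Core.fittingSubgroup_eq_iSup_pCore]
      refine iSup_le fun r => ?_
      intro u hu
      rw [Subgroup.mem_centralizer_singleton_iff]
      have hu' : (u : G) ∈ (Cfsg.pCore (r : ℕ) T).map T.subtype :=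
        Subgroup.mem_map_of_mem T.subtype hu
      set v : T := w'⁻¹ * u * w' with hv
      have hvu : (v : G) ∈ (Cfsg.pCore (r : ℕ) T).map T.subtype := by
        refine ⟨v, ?_, rfl⟩
        rw [hv]
        simpa using (inferInstance : (Cfsg.pCore (r : ℕ) T).Normal).conj_mem u hu w'⁻¹
      by_cases hd : (r : ℕ) ∣ Nat.card B
      · -- `w` centralises this core
        have hle : (Cfsg.pCore (r : ℕ) T).map T.subtype ≤ B :=
          h.symm.pCore_le (factor_symm_mem hf) r.2 (h.symm.not_dvd r.2 hd)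
        set v₂ : T := z'⁻¹ * u * z' with hv₂
        have hv₂u : (v₂ : G) ∈ (Cfsg.pCore (r : ℕ) T).map T.subtype := by
          refine ⟨v₂, ?_, rfl⟩
          rw [hv₂]
          simpa using (inferInstance : (Cfsg.pCore (r : ℕ) T).Normal).conj_mem u hu z'⁻¹
        have e1 : w' * v₂ = v₂ * w' := Subtype.ext (hw.comm _ (hle hv₂u)).eq.symm
        have e2 : w' * u = u * w' := Subtype.ext (hw.comm _ (hle hu')).eq.symm
        have e : c * u * c⁻¹ = u := by
          calc c * u * c⁻¹ = z' * w' * (z'⁻¹ * (w'⁻¹ * u * w') * z') * w'⁻¹ * z'⁻¹ := by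
                rw [hc]; group
            _ = z' * w' * (z'⁻¹ * u * z') * w'⁻¹ * z'⁻¹ := by
                rw [show w'⁻¹ * u * w' = u by rw [mul_assoc, ← e2, inv_mul_cancel_left]]
            _ = z' * (w' * v₂) * w'⁻¹ * z'⁻¹ := by rw [hv₂]; group
            _ = z' * v₂ * z'⁻¹ := by rw [e1]; group
            _ = u := by rw [hv₂]; group
        exact eq_mul_inv_iff_mul_eq.mp e.symm
      · -- `z` centralises this core
        have hle : (Cfsg.pCore (r : ℕ) T).map T.subtype ≤ A := h.pCore_le hf r.2 hd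
        have e1 : z' * v = v * z' := Subtype.ext (hz.comm _ (hle hvu)).eq.symm
        have e2 : z' * u = u * z' := Subtype.ext (hz.comm _ (hle hu')).eq.symm
        have e : c * u * c⁻¹ = u := by
          calc c * u * c⁻¹ = z' * w' * (z'⁻¹ * v * z') * w'⁻¹ * z'⁻¹ := by rw [hc, hv]; group
            _ = z' * w' * v * w'⁻¹ * z'⁻¹ := by
                rw [show z'⁻¹ * v * z' = v by rw [mul_assoc, ← e1, inv_mul_cancel_left]]
            _ = z' * u * z'⁻¹ := by rw [hv]; group
            _ = u := by rw [e2, mul_inv_cancel_right]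
        exact eq_mul_inv_iff_mul_eq.mp e.symm
    exact Subgroup.mem_centralizer_singleton_iff.mp (hall hy)
  set Z := Subgroup.zpowers z' with hZ
  have hzo : orderOf z' = p := by rw [hz', Subgroup.orderOf_mk, hz.order]
  have hwo : orderOf w' = q := by rw [hw', Subgroup.orderOf_mk, hw.order]
  have hZc : Nat.card Z = p := by rw [hZ, Nat.card_zpowers, hzo]
  have hcopF : (Nat.card Z).Coprime (Nat.card F) := by
    rw [hZc]
    exact hp.coprime_iff_not_dvd.mpr (hFr p hp hp0)
  have hwz : w' * z' * w'⁻¹ ∈ Z ⊔ F := by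
    have h1 : z'⁻¹ * c ∈ Z ⊔ F := mul_mem (Subgroup.mem_sup_left
      (inv_mem (Subgroup.mem_zpowers z'))) (Subgroup.mem_sup_right hcF)
    have h2 : w' * z' * w'⁻¹ = (z'⁻¹ * c)⁻¹ := by rw [hc]; group
    rw [h2]
    exact inv_mem h1
  have hWL : MulAut.conj w' • (Z ⊔ F) ≤ Z ⊔ F := by
    rw [Subgroup.smul_sup]
    refine sup_le ?_ ?_
    · intro x hx
      rw [mem_conj_smul, hZ, Subgroup.mem_zpowers_iff] at hx
      obtain ⟨i, hi⟩ := hx
      have : x = (w' * z' * w'⁻¹) ^ i := by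
        rw [conj_zpow, hi]; group
      rw [this]
      exact zpow_mem hwz i
    · rw [conj_smul_self_of_mem (Subgroup.le_normalizer_of_normal (K := ⊤) (Subgroup.mem_top w'))]
      exact le_sup_right
  -- a `w`-invariant complement
  have hcopW : (Nat.card (Subgroup.zpowers w')).Coprime (Nat.card F) := by
    rw [Nat.card_zpowers, hwo]
    exact hq.coprime_iff_not_dvd.mpr (hFr q hq hq0)
  obtain ⟨f, hfF, hfn⟩ := CfsgLib.Core.exists_invariant_conj (A := Subgroup.zpowers w') (K := F)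
    (P := Z) Subgroup.le_normalizer_of_normal hcopW (Or.inr inferInstance) (fun a ha => by
      have hle : MulAut.conj a • Z ≤ Z ⊔ F := by
        have ha' : Subgroup.zpowers w' ≤ Subgroup.normalizer ((Z ⊔ F : Subgroup T) : Set T) :=
          Subgroup.zpowers_le.mpr (mem_normalizer_of_conj_le hWL)
        rw [← conj_smul_self_of_mem (ha' ha)]
        exact Subgroup.pointwise_smul_le_pointwise_smul_iff.mpr le_sup_left
      obtain ⟨n, hn, e⟩ := CfsgLib.Core.exists_conj_eq_of_coprime (N := F) (H := Z)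
        (K := MulAut.conj a • Z) Subgroup.le_normalizer_of_normal hle (card_conj a Z) hcopF
        (Or.inl inferInstance)
      exact ⟨n, hn, e.symm⟩)
  have hwn := hfn (Subgroup.mem_zpowers w')
  set z₂ : T := f * z' * f⁻¹ with hz₂
  have hz₂Z : z₂ ∈ MulAut.conj f • Z := by
    rw [mem_conj_smul, hz₂, show f⁻¹ * (f * z' * f⁻¹) * f = z' by group]
    exact Subgroup.mem_zpowers z'
  have hd1 : w' * z₂ * w'⁻¹ * z₂⁻¹ ∈ MulAut.conj f • Z :=
    mul_mem ((Subgroup.mem_normalizer_iff.mp hwn z₂).mp hz₂Z) (inv_mem hz₂Z)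
  have hd2 : w' * z₂ * w'⁻¹ * z₂⁻¹ ∈ F := by
    rw [← QuotientGroup.eq_one_iff, hz₂]
    have e1 : ((c : T) : T ⧸ F) = 1 := (QuotientGroup.eq_one_iff _).mpr hcF
    have e2 : ((f : T) : T ⧸ F) = 1 := (QuotientGroup.eq_one_iff _).mpr hfF
    have e3 : (w' : T ⧸ F) * z' = z' * w' := by
      rw [hc, QuotientGroup.mk_mul, QuotientGroup.mk_mul, QuotientGroup.mk_mul,
        QuotientGroup.mk_inv, QuotientGroup.mk_inv, mul_inv_eq_one, mul_inv_eq_iff_eq_mul] at e1
      exact e1.symm
    simp only [QuotientGroup.mk_mul, QuotientGroup.mk_inv, e2, one_mul, mul_one, inv_one]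
    rw [e3, mul_inv_cancel_right, mul_inv_cancel]
  have hinf : MulAut.conj f • Z ⊓ F = ⊥ := by
    refine Subgroup.inf_eq_bot_of_coprime ?_
    rwa [card_conj]
  have hd : w' * z₂ * w'⁻¹ * z₂⁻¹ = 1 := by
    rw [← Subgroup.mem_bot, ← hinf]
    exact ⟨hd1, hd2⟩
  refine h.not_commute hq hp hz hw (f : G) ?_
  have h3 : w' * z₂ = z₂ * w' := mul_inv_eq_iff_eq_mul.mp (mul_inv_eq_one.mp hd)
  exact (congrArg Subtype.val h3).symm

theorem central_mem_ppart {p t : ℕ} (hp : p.Prime) (ht : t.Prime) (hne : t ≠ p) {z : G}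
    (hz : IsCentralOrder A t z) : z ∈ ppart A p :=
  mem_ppart hz.mem (by rw [hz.order]; exact fun hd => hne ((Nat.prime_dvd_prime_iff_eq hp ht).mp hd).symm)

theorem ppart_ne_bot {p t : ℕ} (hp : p.Prime) (ht : t.Prime) (hne : t ≠ p) {z : G}
    (hz : IsCentralOrder A t z) : ppart A p ≠ ⊥ := fun e => hz.ne_one ht (by
  have := central_mem_ppart hp ht hne hz
  rwa [e, Subgroup.mem_bot] at this)

theorem step (h : WielandtCx A B) {s q : ℕ} (hs : s.Prime) (hq : q.Prime) {w : G}
    (hw : IsCentralOrder B q w) {L : Subgroup G} (hL : L ≠ ⊤) (hA : ppart A s ≤ L)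
    (hwL : w ∈ L) : False := by
  obtain ⟨t, ht, hts, htA⟩ := h.exists_prime_ne s hs
  obtain ⟨z, hz⟩ := exists_isCentralOrder h.nilA ht htA
  haveI := Fact.mk ht
  haveI := Fact.mk hq
  obtain ⟨T, -, hXT, hYT, hf, hsol⟩ := h.exists_factorized (X := ppart A s)
    (Y := Subgroup.zpowers w) (ppart_le A s) (Subgroup.zpowers_le.mpr hw.mem)
    (le_normalizer_ppart A s)
    (normalizer_le_of_le_centralizer (by
      rw [Subgroup.zpowers_eq_closure, Subgroup.centralizer_closure]
      exact hw.le_centralizer))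
    (ppart_ne_bot hs ht hts hz) hL hA (Subgroup.zpowers_le.mpr hwL)
  have hzT : z ∈ T := hXT (central_mem_ppart hs ht hts hz)
  have hwT : w ∈ T := hYT (Subgroup.mem_zpowers w)
  rcases h.pCore_cases hf hsol ht hq hz hw hzT hwT with
    ⟨R, hR0, hRA, hRp, hRn⟩ | ⟨R, hR0, hRB, hRp, hRn⟩
  · refine h.normalizer_ne_top hR0 (fun e => h.ne_top (eq_top_iff.mpr (e.ge.trans hRA))) ?_
    exact h.eq_top_of_le (le_of_ppart_le hs ht hts.symm (hXT.trans hRn)
      (normalizer_le_of_le_centralizer (ppart_le_centralizer h.nilA hRp hRA))) hq hw (hRn hwT)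
  obtain ⟨r, hr, hrq, hrB⟩ := h.symm.exists_prime_ne q hq
  obtain ⟨w₂, hw₂⟩ := exists_isCentralOrder h.nilB hr hrB
  haveI := Fact.mk hr
  have hNR := h.normalizer_ne_top hR0
    (fun e => h.symm.ne_top (eq_top_iff.mpr (e.ge.trans hRB)))
  obtain ⟨T₄, -, hX₄, hY₄, hf₄, hs₄⟩ := h.exists_factorized (X := ppart A s) (Y := ppart B q)
    (ppart_le A s) (ppart_le B q) (le_normalizer_ppart A s) (le_normalizer_ppart B q)
    (ppart_ne_bot hs ht hts hz) hNR (hXT.trans hRn)
    (normalizer_le_of_le_centralizer (ppart_le_centralizer h.nilB hRp hRB))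
  have hz₄ : z ∈ T₄ := hX₄ (central_mem_ppart hs ht hts hz)
  have hw₄ : w₂ ∈ T₄ := hY₄ (central_mem_ppart hq hr hrq hw₂)
  rcases h.pCore_cases hf₄ hs₄ ht hr hz hw₂ hz₄ hw₄ with
    ⟨R', hR'0, hR'A, hR'p, hR'n⟩ | ⟨R', hR'0, hR'B, hR'p, hR'n⟩
  · refine h.normalizer_ne_top hR'0 (fun e => h.ne_top (eq_top_iff.mpr (e.ge.trans hR'A))) ?_
    exact h.eq_top_of_le (le_of_ppart_le hs ht hts.symm (hX₄.trans hR'n)
      (normalizer_le_of_le_centralizer (ppart_le_centralizer h.nilA hR'p hR'A))) hr hw₂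
      (hR'n hw₄)
  · refine h.normalizer_ne_top hR'0
      (fun e => h.symm.ne_top (eq_top_iff.mpr (e.ge.trans hR'B))) ?_
    exact h.symm.eq_top_of_le (le_of_ppart_le hq hr hrq.symm (hY₄.trans hR'n)
      (normalizer_le_of_le_centralizer (ppart_le_centralizer h.nilB hR'p hR'B))) ht hz
      (hR'n hz₄)

theorem noPair (h : WielandtCx A B) {p q : ℕ} (hp : p.Prime) (hq : q.Prime) {z w : G}
    (hz : IsCentralOrder A p z) (hw : IsCentralOrder B q w) {L : Subgroup G} (hL : L ≠ ⊤)
    (hzL : z ∈ L) (hwL : w ∈ L) : False := by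
  haveI := Fact.mk hp
  haveI := Fact.mk hq
  obtain ⟨T, -, hXT, hYT, hf, hsol⟩ := h.exists_factorized (X := Subgroup.zpowers z)
    (Y := Subgroup.zpowers w) (Subgroup.zpowers_le.mpr hz.mem) (Subgroup.zpowers_le.mpr hw.mem)
    (normalizer_le_of_le_centralizer (by
      rw [Subgroup.zpowers_eq_closure, Subgroup.centralizer_closure]
      exact hz.le_centralizer))
    (normalizer_le_of_le_centralizer (by
      rw [Subgroup.zpowers_eq_closure, Subgroup.centralizer_closure]
      exact hw.le_centralizer))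
    (fun e => hz.ne_one hp (Subgroup.zpowers_eq_bot.mp e)) hL
    (Subgroup.zpowers_le.mpr hzL) (Subgroup.zpowers_le.mpr hwL)
  have hzT : z ∈ T := hXT (Subgroup.mem_zpowers z)
  have hwT : w ∈ T := hYT (Subgroup.mem_zpowers w)
  rcases h.pCore_cases hf hsol hp hq hz hw hzT hwT with
    ⟨R, hR0, hRA, hRp, hRn⟩ | ⟨R, hR0, hRB, hRp, hRn⟩
  · exact h.step hp hq hw (h.normalizer_ne_top hR0
      (fun e => h.ne_top (eq_top_iff.mpr (e.ge.trans hRA))))
      (normalizer_le_of_le_centralizer (ppart_le_centralizer h.nilA hRp hRA)) (hRn hwT)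
  · exact h.symm.step hq hp hz (h.normalizer_ne_top hR0
      (fun e => h.symm.ne_top (eq_top_iff.mpr (e.ge.trans hRB))))
      (normalizer_le_of_le_centralizer (ppart_le_centralizer h.nilB hRp hRB)) (hRn hzT)

theorem noPair_conj (h : WielandtCx A B) {p q : ℕ} (hp : p.Prime) (hq : q.Prime) {z w : G}
    (hz : IsCentralOrder A p z) (hw : IsCentralOrder B q w) {L : Subgroup G} (hL : L ≠ ⊤)
    (g k : G) (hzL : g * z * g⁻¹ ∈ L) (hwL : k * w * k⁻¹ ∈ L) : False := by
  obtain ⟨a, ha, b, hb, e⟩ := h.fac (g⁻¹ * k)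
  refine h.noPair hp hq hz hw (L := MulAut.conj (g * a)⁻¹ • L) ?_ ?_ ?_
  · intro e'
    apply hL
    have h2 := congrArg (MulAut.conj (g * a) • ·) e'
    simp only [← mul_smul, ← map_mul, mul_inv_cancel, map_one, one_smul] at h2
    rw [h2, eq_top_iff]
    intro x _
    rw [mem_conj_smul]
    trivial
  · rw [mem_conj_smul, inv_inv]
    have e1 : g * a * z * (g * a)⁻¹ = g * (a * z * a⁻¹) * g⁻¹ := by group
    rwa [e1, (hz.comm a ha).eq, mul_inv_cancel_right]
  · rw [mem_conj_smul, inv_inv]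
    have e2 : k = g * a * b := by rw [mul_assoc, ← e]; group
    have e3 : g * a * w * (g * a)⁻¹ = k * w * k⁻¹ := by
      rw [e2, show g * a * b * w * (g * a * b)⁻¹ = g * a * (b * w * b⁻¹) * (g * a)⁻¹ by group,
        (hw.comm b hb).eq, mul_inv_cancel_right]
    rwa [e3]

/-- The centraliser of a central element of prime order of `A` is `A`. -/
theorem centralizer_eq (h : WielandtCx A B) {p : ℕ} (hp : p.Prime) {z : G}
    (hz : IsCentralOrder A p z) : Subgroup.centralizer ({z} : Set G) = A := by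
  refine le_antisymm ?_ hz.le_centralizer
  intro g hg
  obtain ⟨a, ha, b, hb, rfl⟩ := h.fac g
  by_cases hb1 : b = 1
  · rwa [hb1, mul_one]
  exfalso
  have hbz : b ∈ Subgroup.centralizer ({z} : Set G) := by
    have := mul_mem (inv_mem (hz.le_centralizer ha)) hg
    rwa [inv_mul_cancel_left] at this
  obtain ⟨q, hq, hqB⟩ := Nat.exists_prime_and_dvd (mt Subgroup.card_eq_one.mp h.symm.ne_bot)
  obtain ⟨w, hw⟩ := exists_isCentralOrder h.nilB hq hqB
  exact h.noPair hp hq hz hw (h.centralizer_ne_top hb1)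
    (Subgroup.mem_centralizer_singleton_iff.mpr (Subgroup.mem_centralizer_singleton_iff.mp hbz).symm)
    (Subgroup.mem_centralizer_singleton_iff.mpr (hw.comm b hb).symm.eq)

theorem mem_normalizer_ppart (h : WielandtCx A B) {p : ℕ} (hp : p.Prime) {z g : G}
    (hz : IsCentralOrder A p z) (hg : g * z * g⁻¹ ∈ A) :
    g ∈ Subgroup.normalizer (ppart A p : Set G) := by
  have hle : ppart A p ≤ ppart (MulAut.conj g • A) p := by
    refine (Subgroup.closure_le _).mpr ?_
    rintro x ⟨hx, hxp⟩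
    refine mem_ppart ?_ hxp
    have hc : Commute x (g * z * g⁻¹) := by
      refine commute_of_mem_nilpotent h.nilA hx hg ?_
      rw [(hz.conj g).order]
      exact (hp.coprime_iff_not_dvd.mpr hxp).symm
    rw [mem_conj_smul]
    refine (h.centralizer_eq hp hz).le (Subgroup.mem_centralizer_singleton_iff.mpr ?_)
    have h2 := hc.map (MulAut.conj g⁻¹).toMonoidHom
    simp only [MulEquiv.coe_toMonoidHom, MulAut.conj_apply, inv_inv] at h2
    rw [show g⁻¹ * (g * z * g⁻¹) * g = z by group] at h2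
    exact h2.eq
  rw [← conj_ppart] at hle
  exact Subgroup.mem_normalizer_iff_map_conj_eq.mpr
    (Subgroup.eq_of_le_of_card_ge hle (card_conj g _).le).symm

theorem mem_normalizer_of_conj_mem (h : WielandtCx A B) {p : ℕ} (hp : p.Prime) {z g : G}
    (hz : IsCentralOrder A p z) (hg : g * z * g⁻¹ ∈ A) :
    g ∈ Subgroup.normalizer (A : Set G) := by
  obtain ⟨t, ht, htp, htA⟩ := h.exists_prime_ne p hp
  obtain ⟨z₂, hz₂⟩ := exists_isCentralOrder h.nilA ht htA
  have h1 := h.mem_normalizer_ppart hp hz hg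
  have hg2 : g * z₂ * g⁻¹ ∈ A :=
    ppart_le A p ((Subgroup.mem_normalizer_iff.mp h1 z₂).mp (central_mem_ppart hp ht htp hz₂))
  have h2 := h.mem_normalizer_ppart ht hz₂ hg2
  have e : A = ppart A p ⊔ ppart A t := le_antisymm
    (le_of_ppart_le hp ht htp.symm le_sup_left le_sup_right) (sup_le (ppart_le A p) (ppart_le A t))
  refine mem_normalizer_of_conj_le ?_
  conv_lhs => rw [e]
  rw [Subgroup.smul_sup, conj_smul_self_of_mem h1, conj_smul_self_of_mem h2]
  exact e.ge

end WielandtCx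

end CfsgLib.SolvStruct
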